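import Cfsg.Agent.Lib.RigidGraph.Defs

/-! Conjugates fixing the first point. -/

set_option autoImplicit false
set_option maxRecDepth 100000

namespace Cfsg.Agent.J3Invol

/-- part of a table -/
def sConjs0 : List (List (List ℕ × List ℕ)) :=
  [[([0, 4, 5, 0, 0, 0, 2], [0, 0, 5, 3, 7, 1, 4, 5, 3, 1]), ([0, 2, 4, 3, 4, 5, 0, 7, 4, 1], [2, 4, 6, 2, 2, 5, 0, 4, 1]), ([0, 3, 7, 7, 3, 4, 5, 0, 7], [0, 0, 4, 2, 7, 1, 6, 5, 0]), ([3, 6, 3, 1, 4, 7, 3, 0], [2, 6, 1, 6, 1, 4, 3, 5, 0, 0]), ([0, 6, 6, 6, 0, 6, 6, 2, 6], [3, 3, 5, 2, 7, 7, 4, 6]), ([0, 6, 0, 4, 4, 3, 3, 6, 0, 0], [7, 0, 2, 6, 4, 2, 1, 1]), ([2, 4, 2, 5, 2, 1, 6, 4], [5, 4, 5, 4, 4,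 4]), ([0, 7, 0, 2, 1, 5, 0, 0, 3], [4, 6, 0, 4, 2, 0, 2]), ([0, 0, 2, 6, 2, 5, 1, 2, 5, 1], [4, 5, 4, 5, 4, 5, 4]), ([1, 1, 7, 2, 7, 2, 4, 5, 2], [1, 2, 0, 3, 5, 2, 0, 0, 2]), ([0, 0, 5, 6, 7, 2, 5, 7, 5, 0], [6, 0, 3, 4, 0, 5, 1, 7]), ([6, 7, 2, 5, 2, 5, 1, 3], [0, 0, 0, 4, 3, 6, 7, 6, 2]), ([5, 4, 4, 5, 4, 4, 4, 4, 5], [5, 4, 4]), ([4, 3, 4, 6, 7, 2, 4, 7, 2, 1], [4, 5, 4, 4, 4, 4, 4]), ([0, 6, 6, 6, 2, 5, 3, 6, 6, 1], [4, 5, 0, 0, 3, 6, 3, 0, 2]), ([0, 7, 7, 0, 7, 2, 4, 7, 1, 2], [5, 1, 4, 5, 1, 4, 0, 6, 1]), ([2, 5, 2, 7, 6, 6, 0, 2, 7, 2], [0, 2, 6, 1, 2, 7, 7, 3, 1]), ([1, 3, 3, 6, 5, 3, 4, 1, 2], [1, 1, 1, 5, 6, 4, 2, 2]), ([4, 1,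 4, 1, 3, 3, 5, 6, 5, 1], [4, 6, 0, 4, 2, 0, 2, 4]), ([2, 4, 7, 1, 1, 7, 4, 1, 1], [6, 6, 7, 4, 5, 4, 2, 7, 0]), ([1, 6, 3, 1, 4, 7, 6, 3, 4, 1], [0, 0, 3, 6, 3, 0, 2]), ([1, 1, 2, 0, 4, 6, 1, 6, 7, 2], [0, 0, 0, 4, 7, 0, 2, 6, 6, 0]), ([0, 2, 2, 6, 4, 1, 7], [0, 2, 5, 3, 5, 4, 0, 3, 4, 1]), ([1, 1, 7, 7, 4, 0, 4, 4, 5], [2, 0, 2, 2, 7, 0, 3, 5, 3]), ([4, 7, 5, 1, 2, 1, 4, 7, 0], [0, 0, 6, 5, 6, 7, 5, 3, 1]), ([7, 0, 4, 3, 3, 5, 1, 6, 2], [4, 5, 4, 4, 4, 5, 4]), ([1, 1, 6, 6, 6, 7, 6, 5, 3, 1], [1, 6, 2, 7, 3, 6, 2, 7]), ([1, 4, 2, 5, 6, 1, 1, 5, 2], [0, 0, 2, 7, 0, 2, 7, 7, 3, 1]), ([0, 7, 3, 3, 6, 1, 2, 5, 3], [5, 4, 4, 4, 4, 4]), ([2, 4,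 7, 2, 4, 4, 7, 7, 5], [5, 7, 5, 7, 0, 2, 2, 2, 1]), ([3, 1, 6, 2, 4, 3, 1, 4], [2, 7, 3, 0, 6, 4, 7, 1]), ([1, 2, 5, 3, 4, 5, 6, 7, 0], [6, 7, 4, 1, 4, 0, 6, 4, 0]), ([0, 4, 0, 2, 2, 0, 3, 0, 0, 2], [6, 5, 7, 1, 7, 7, 7, 6, 1]), ([3, 3, 0, 5, 4, 1, 4, 0, 3, 0], [5, 4, 4, 6, 0, 4, 2, 0, 2]), ([6, 3, 3, 3, 0, 5, 6, 7, 7, 0], [0, 2, 0, 6, 5, 2, 1, 4, 1, 3]), ([6, 4, 4, 1, 1, 1, 4, 7], [7, 2, 1, 3, 0, 6, 7, 4, 1]), ([5, 4, 4, 4, 5], [0, 3, 6, 4, 1, 4, 1, 4, 2, 0]), ([0, 2, 6, 5, 1, 6, 0, 6, 2], [7, 7, 2, 0, 3, 7, 0, 0]), ([1, 4, 3, 3, 1, 4, 7, 3, 1, 1], [7, 5, 7, 0, 2, 2, 2, 1]), ([7, 4, 5, 0, 7, 5, 7, 7, 1], [1, 4, 5, 4, 5, 0, 4, 4]), ([0, 3,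 0, 5, 2, 0, 5, 1, 6, 1], [2, 5, 7, 1, 5, 7, 1, 3, 1]), ([1, 4, 6, 4, 4, 3, 1, 5, 0], [1, 4, 3, 4, 6, 0, 3, 6, 2, 1]), ([0, 4, 5, 4, 5, 4, 6, 7, 2, 0], [0, 5, 4, 5, 3, 0, 4, 5, 3, 1]), ([3, 6, 2, 7, 2, 4, 1, 6, 1], [0, 0, 3, 1, 2, 4, 4, 1, 3, 0]), ([3, 7, 4, 7, 1, 4, 0, 3, 0], [7, 5, 1, 1, 6, 6, 4, 0]), ([1, 1, 1, 4, 5, 1, 3, 4, 5, 2], [1, 7, 2, 1, 4, 4, 6, 6, 0, 0]), ([4, 7, 3, 7, 0, 5, 1, 6, 4, 2], [0, 7, 6, 3, 6, 3, 4, 7]), ([1, 5, 4, 3, 1, 6, 0, 5, 2, 0], [2, 7, 4, 4, 5, 3, 6, 7, 2]), ([3, 6, 4, 2, 0, 0, 0, 3, 1], [0, 4, 2, 6, 1, 3, 6, 3, 5]), ([1, 7, 5, 2, 2, 0, 5, 1, 7, 1], [0, 0, 7, 1, 6, 4, 7, 7, 3, 1]), ([1, 6, 2, 4, 7, 1, 7, 5, 0,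 2], [4, 4, 4, 5, 4, 4, 4]), ([0, 2, 7, 0, 3, 0, 2, 0, 0, 0], [1, 6, 6, 1, 7, 2, 7, 1, 2]), ([6, 2, 0, 3, 7, 0, 2, 7], [1, 7, 4, 3, 6, 1, 7, 2, 1]), ([0, 5, 2, 2, 4, 3, 7, 0, 7], [0, 3, 5, 6, 3, 3, 0, 3, 5, 1]), ([6, 2, 1, 5, 2, 2, 6, 0, 2], [4, 5, 1, 3, 4, 3, 6, 3, 1, 3]), ([0, 0, 6, 6, 0, 2, 5, 1, 1, 3], [1, 3, 5, 4, 1, 4, 0, 7, 5, 0]), ([2, 6, 7, 6, 0, 2, 4, 5, 4, 0], [5, 2, 7, 4, 4, 6, 6]), ([1, 4, 0, 0, 2, 6, 4, 0, 2], [1, 5, 2, 1, 4, 3, 6, 6, 3, 1]), ([7, 0, 3, 7, 5, 4, 2, 6, 2], [2, 4, 3, 0, 7, 3, 7, 7, 0, 3]), ([4, 5, 4, 4, 4, 4, 4], [4]), ([3, 7, 2, 2, 6, 7, 5, 7, 3, 0], [5, 4, 4, 4, 5, 4, 4]), ([7, 5, 7, 4, 3, 1, 5, 1, 3], [0, 4,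 4, 3, 4, 4, 5, 2, 2]), ([4, 4, 4, 4, 5, 4, 4], [4, 4, 4, 4]), ([5, 7, 2, 5, 7, 6, 7, 6, 4, 2], [0, 0, 3, 5, 2, 2, 2, 4, 2])],
    [([6, 0, 3, 4, 0, 5, 1, 7], [0, 7, 3, 1, 6, 2, 4, 7, 1]), ([0, 7, 6, 5, 6, 3, 5, 6, 1], [3, 4, 1, 7, 6, 1, 4, 4, 2]), ([2, 1, 7, 4, 5, 0, 5, 3, 1], [3, 6, 0, 7, 3, 5, 3, 3]), ([4, 6, 4, 5, 4, 6, 7], [4, 4, 5, 4, 4, 4, 4]), ([4, 3, 7, 1, 7, 3, 6, 7, 1], [3, 5, 1, 5, 2, 7, 3, 1, 7, 2]), ([1, 2, 4, 2, 4, 3, 6, 6, 0], [0, 2, 1, 2, 5, 0, 7, 5, 3, 1]), ([5, 4, 2, 0, 3, 3, 4, 7, 0], [2, 0, 0, 4, 0, 5, 6, 7, 1]), ([1, 6, 3, 0, 5, 7, 0, 0, 2, 0], [0, 6, 2, 4, 3, 3, 0, 3, 7, 2]), ([2, 7, 7, 4, 0, 7, 0, 7, 5, 0], [1, 4, 5,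 4, 5, 0, 4]), ([7, 0, 3, 3, 0, 5, 6, 1, 3], [4, 0, 0, 3, 6, 3, 0, 2]), ([3, 3, 0, 6, 3, 7, 5, 1, 5], [4, 5, 4, 4]), ([0, 2, 0, 2, 4, 6, 3, 3, 0, 0], [2, 0, 7, 5, 2, 4, 4, 4, 2, 2]), ([4, 4, 2, 2, 2, 1, 6, 6, 1], [0, 6, 3, 3, 4, 6, 6, 3, 7, 1]), ([6, 4, 3, 1, 1, 3, 5, 3], [4, 3, 7, 4, 5, 6, 7, 6]), ([0, 2, 7, 6, 1, 3, 0, 3, 0], [7, 3, 1, 7, 4, 5, 4, 0, 3]), ([0, 7, 7, 5, 0, 4, 5, 7, 6, 1], [1, 4, 5, 4, 5, 0]), ([0, 2, 1, 2, 5, 0, 7, 5, 3, 1], [0, 4, 4, 4, 0, 3, 6, 6, 7, 1]), ([1, 2, 4, 3, 6, 2, 4, 1, 6, 1], [6, 5, 4, 4, 0, 5, 0, 2, 2]), ([0, 6, 5, 6, 2, 0, 0, 6, 6], [0, 0, 7, 4, 1, 3, 4, 6, 1, 2]), ([5, 3, 3, 0, 6, 3, 7, 5, 1], [5, 4, 5, 4,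 4]), ([4, 2, 2, 2, 7, 6, 1, 2, 1], [7, 4, 7, 7, 5, 3, 4, 6]), ([2, 0, 3, 0, 7, 7, 5, 7, 7, 0], [4, 5, 4, 5, 4, 4, 5, 4]), ([4, 5, 0, 3, 3, 7, 2, 5, 6, 2], [3, 6, 6, 3, 6, 0, 7, 3, 1]), ([5, 6, 7, 2, 5, 2, 5, 1, 3], [5, 0, 5, 1, 6, 6, 4, 3, 0]), ([1, 1, 6, 3, 1, 1, 4], [2, 7, 4, 4, 6, 6, 5, 4]), ([3, 1, 2, 6, 1, 1, 2, 2, 0], [3, 6, 7, 7, 0, 0, 2, 2, 0]), ([6, 2, 2, 2, 6, 0, 4, 7, 0], [2, 0, 2, 5, 6, 0, 0, 7, 3, 0]), ([1, 3, 4, 5, 7, 0, 4, 3, 1], [5, 3, 3, 4, 4, 0, 2, 5]), ([2, 5, 1, 4, 6, 0, 7, 4, 1], [4, 7, 7, 2, 0, 3, 7, 0, 0]), ([0, 6, 1, 2, 2, 0, 5, 2, 6, 2], [4, 4, 4, 4, 4, 5, 4, 4]), ([1, 4, 2, 6, 2, 1, 6, 4, 1], [0, 6, 5, 1, 6, 4, 7,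 3, 4, 2]), ([0, 0, 7, 5, 6, 0, 3, 7, 2, 0], [0, 6, 6, 6, 6, 6, 1]), ([0, 0, 2, 2, 6, 4, 0, 4, 5, 0], [2, 4, 7, 0, 4, 4, 0, 5]), ([0, 0, 0, 4, 7, 0, 2, 6, 6, 0], [5, 4, 4, 4, 4, 4, 5, 4]), ([4, 0, 2, 5, 3, 0, 6, 0, 2], [4, 5, 4, 4, 5, 4, 4, 5, 4]), ([0, 6, 2, 7, 1, 7, 0, 2, 2], [2, 7, 4, 4, 6, 6, 4]), ([2, 7, 4, 0, 0, 6, 1, 5, 2], [2, 2, 0, 3, 1, 2, 2, 7, 2]), ([0, 6, 1, 3, 6, 2, 4, 6, 5], [3, 6, 4, 1, 2, 6, 1, 1, 4]), ([2, 1, 3, 1, 1, 4, 2, 4, 1, 3], [4, 4, 4, 4, 4, 5, 4]), ([6, 2, 1, 1, 3, 4, 7, 6, 0], [5, 3, 3, 0, 6, 3, 7, 5, 1]), ([0, 0, 2, 2, 1, 4, 5, 3, 6], [0, 2, 0, 0, 2, 0, 6, 1, 1, 2]), ([1, 3, 3, 3, 6, 7, 7, 1, 3, 0], [0, 5, 6, 3,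 4, 0, 3, 7, 3, 1]), ([3, 3, 4, 5, 6, 4, 0, 4, 2], [1, 5, 6, 4, 0, 3, 4, 5]), ([0, 4, 5, 2, 0, 3, 7, 3, 0], [2, 7, 1, 3, 0, 5, 7, 2, 5, 1]), ([3, 5, 2, 1, 2, 4, 0, 7, 5, 1], [2, 4, 6, 0, 3, 3, 6, 2, 1, 2]), ([3, 6, 1, 2, 5, 0, 2, 6, 1], [4, 4, 4, 5, 4]), ([0, 6, 3, 3, 1, 5, 4, 2, 2], [0, 2, 7, 7, 7, 3, 0, 6, 5, 4, 2]), ([1, 4, 2, 0, 5, 2, 0, 4, 0], [6, 3, 1, 4, 0, 2, 7, 6, 4]), ([2, 4, 1, 3, 1, 3, 7, 0, 0], [4, 1, 4, 5, 4, 5, 0]), ([0, 0, 4, 5, 0, 4, 4, 5, 4, 1], [7, 3, 6, 1, 7, 0, 2, 5, 1]), ([1, 5, 2, 1, 7, 2, 0, 7, 7], [4, 0, 5, 1, 6, 6, 4, 3, 0]), ([1, 6, 0, 0, 2, 4, 0, 5, 2], [1, 1, 4, 5, 1, 3, 6, 4, 6, 2]), ([4, 7, 6, 1, 1, 4, 7, 3,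 0], [4, 4, 5, 4, 5, 4, 4, 5, 4]), ([2, 1, 4, 6, 2, 7, 4, 2, 5, 1], [6, 2, 4, 5, 1, 7, 4, 6, 0]), ([1, 2, 4, 4, 4, 7, 4, 3, 1], [2, 4, 4, 0, 0, 0, 3, 5, 2]), ([7, 4, 5, 6, 0, 3, 6, 7, 0], [2, 4, 1, 3, 6, 3, 4, 4, 5]), ([0, 7, 6, 3, 6, 3, 4, 7, 4], [5, 0, 6, 6, 6, 6, 6, 1]), ([1, 4, 4, 1, 6, 6, 4, 1, 3], [0, 6, 4, 2, 4, 5, 2, 0, 4, 0]), ([7, 6, 1, 5, 1, 7, 7, 5, 1], [2, 7, 1, 5, 3, 0, 3, 7, 0]), ([1, 4, 0, 7, 5, 0, 3, 6, 1], [4, 4, 7, 7, 2, 0, 3, 7, 0, 0]), ([1, 6, 7, 4, 7, 0, 4, 1, 1, 2], [1, 1, 6, 4, 3, 7, 5, 2, 0, 2]), ([0, 4, 4, 2, 6, 5, 4, 6, 4, 2], [2, 7, 5, 4, 0, 3, 3, 7, 2]), ([0, 0, 6, 1, 2, 7, 5, 7, 0, 3], [0, 0, 5, 1, 4, 0, 5, 0,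 4, 2]), ([2, 1, 4, 5, 3, 4, 7, 2, 1, 1], [1, 5, 4, 7, 6, 6, 2, 2, 1])],
    [([1, 1, 6, 4, 1, 4, 7, 5, 0, 3], [0, 6, 3, 4, 4, 5, 0, 6, 7]), ([1, 7, 1, 6, 0, 4, 5, 2], [4, 5, 4, 5, 4, 4, 4]), ([3, 5, 3, 7, 7, 4, 5, 6, 2], [3, 7, 7, 5, 2, 4, 3, 7, 0]), ([7, 7, 4, 2, 0, 5, 7, 7, 1], [7, 1, 6, 6, 6, 1, 4, 2, 1]), ([2, 0, 3, 3, 4, 7, 0, 5, 4], [5, 4, 5, 4, 4, 4, 4, 4]), ([2, 7, 5, 6, 3, 3, 0, 6], [2, 2, 4, 4, 4, 4, 6, 6, 4, 0]), ([0, 3, 7, 7, 5, 7, 5, 2], [2, 4, 6, 5, 0, 7, 0, 7, 1]), ([5, 0, 2, 2, 6, 4, 1, 7, 5], [4, 5, 4, 4, 4, 4, 5, 4]), ([1, 7, 0, 7, 1, 2, 0, 2], [4, 3, 3, 4, 4, 0, 2, 5]), ([7, 6, 6, 3, 5, 4, 5, 4, 1], [0, 5, 3, 1, 3, 7, 6,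 6, 7, 1]), ([3, 0, 4, 6, 6, 3, 6, 4], [2, 0, 7, 2, 7, 3, 5, 7, 0, 2]), ([3, 3, 5, 6, 7, 2, 6, 5, 0], [3, 6, 7, 0, 0, 5, 3, 1, 3]), ([0, 2, 2, 5, 7, 2, 5, 0, 3], [0, 7, 3, 6, 5, 4, 6, 2, 1, 1]), ([1, 6, 0, 2, 0, 7, 0, 0, 7, 1], [5, 4, 4, 5, 4, 5, 4]), ([1, 4, 3, 1, 3, 0, 6, 3, 7, 2], [0, 7, 7, 2, 7, 6, 1, 7, 1]), ([4, 6, 7, 1, 3, 4, 7, 4, 2], [4, 4, 5, 4, 5, 4, 5, 4]), ([1, 5, 2, 4, 6, 5, 7, 7, 0, 0], [4, 5, 4, 4, 5, 4]), ([5, 2, 1, 4, 3, 7, 4, 5, 1, 1], [0, 3, 6, 6, 2, 6, 1, 5, 3, 1]), ([2, 5, 0, 2, 6, 1, 4, 4, 1, 3], [2, 0, 2, 7, 1, 6, 5, 4, 5, 2]), ([6, 6, 1, 1, 3, 3, 6, 3, 1], [4, 1, 2, 5, 7, 0, 4, 7]), ([5, 0, 4, 3, 7, 0, 3, 7, 0], [4,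 4, 4, 4, 5, 4, 4]), ([0, 0, 2, 4, 4, 7, 4, 4], [1, 7, 5, 3, 3, 1, 2, 0, 3]), ([4, 0, 2, 1, 3, 6, 4, 0, 0], [4, 6, 6, 4, 4, 4, 6, 6]), ([1, 5, 0, 4, 1, 4, 7], [4, 4, 5, 4, 4, 5, 4]), ([3, 5, 1, 7, 3, 0, 4, 7, 1], [4, 4, 4, 5, 4, 4]), ([0, 4, 2, 0, 6, 3, 4, 6, 6], [7, 5, 2, 6, 0, 2, 1, 3]), ([6, 3, 1, 3, 7, 6, 7, 0, 3], [5, 7, 3, 4, 0, 0, 2, 6]), ([0, 6, 1, 6, 0, 3, 4, 0, 4, 2], [2, 2, 0, 5, 4, 3, 7, 7, 7, 1]), ([6, 2, 6, 3, 6, 6, 0, 0, 7, 2], [7, 0, 2, 6, 1, 7, 5, 2, 0]), ([1, 2, 5, 7, 5, 0, 5, 2, 5, 0], [5, 4, 5, 4]), ([0, 7, 4, 7, 4, 5, 7, 7, 1, 2], [5, 6, 4, 5, 2, 7, 2, 0]), ([1, 5, 0, 0, 5, 1, 1, 5, 0], [2, 0, 0, 3, 5, 1, 1, 7, 0]), ([0,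 5, 6, 3, 4, 5, 6, 1, 4, 1], [7, 2, 0, 2, 2, 6, 1, 5]), ([0, 7, 4, 6, 7, 5, 7, 2, 4, 1], [0, 5, 4, 6, 3, 7, 2, 0]), ([0, 7, 7, 4, 1, 7, 7, 0, 0], [4, 5, 4]), ([3, 7, 6, 5, 6, 4, 4, 5, 7, 2], [4, 4, 4, 4, 5, 4]), ([3, 6, 1, 3, 4, 6, 2, 5, 1], [3, 1, 5, 1, 7, 6, 7, 6, 0]), ([6, 4, 0, 4, 3, 4, 0], [4, 4, 4, 4, 5, 4, 5, 4]), ([0, 2, 4, 6, 7, 5, 3, 4, 5], [2, 7, 7, 7, 3, 3, 4, 5, 4, 1]), ([0, 0, 7, 3, 1, 7, 2, 0, 5, 1], [0, 4, 5, 0, 7, 2, 7, 5, 1]), ([7, 3, 7, 4, 3, 0, 7, 2], [4, 5, 4, 5, 4]), ([0, 4, 2, 6, 7, 0, 4, 4, 0], [4, 4, 4, 5, 4, 5, 4]), ([2, 1, 5, 6, 6, 1, 4, 7, 1], [6, 1, 2, 7, 7, 7, 5, 2, 2]), ([0, 3, 3, 4, 2, 0, 0, 4, 2, 1], [3, 6,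 1, 6, 3, 3, 3, 3]), ([0, 4, 4, 4, 1, 7, 0, 3, 3, 1], [0, 7, 6, 3, 6, 3, 4, 7, 4]), ([0, 4, 3, 4, 3, 6, 2, 7, 0, 0], [4, 5, 1, 4, 5, 4, 5, 0]), ([1, 1, 7, 2, 6, 7, 2, 5, 4, 1], [4, 4, 5, 4]), ([2, 4, 5, 7, 5, 1, 1, 4, 6, 0], [1, 1, 6, 1, 2, 2, 7, 4, 2]), ([0, 3, 3, 6, 6, 1, 6, 0, 5, 0], [6, 4, 0, 3, 6, 2, 1, 3, 1]), ([0, 6, 6, 6, 3, 6, 4, 1, 3], [0, 2, 1, 6, 1, 4, 3, 6, 7, 1]), ([0, 0, 7, 2, 5, 2, 0, 2, 7, 0], [4, 2, 7, 7, 0, 5, 0, 5, 2]), ([6, 7, 3, 7, 4, 0, 6, 2], [0, 0, 4, 0, 3, 7, 2, 2, 4, 0]), ([0, 5, 1, 7, 2, 2, 0, 5, 7, 0], [0, 3, 6, 7, 2, 2, 5, 0, 7, 0]), ([1, 5, 2, 6, 2, 5, 0], [5, 4, 4, 4, 5, 4, 5, 4]), ([0, 2, 5, 3, 6, 1, 3, 3,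 7], [4, 2, 7, 4, 4, 6, 6]), ([1, 1, 2, 7, 3, 3, 4, 1, 3], [7, 7, 4, 1, 1, 5, 7, 1, 2]), ([5, 7, 4, 3, 1, 6, 2, 1, 2], [4, 4, 5, 4, 5, 4]), ([0, 3, 3, 7, 6, 5, 6, 1, 3], [5, 4, 4, 4, 4, 5, 4]), ([1, 2, 6, 2, 7, 0, 3, 1], [4, 5, 4, 4, 4, 4]), ([1, 6, 6, 7, 1, 7, 3, 3, 6, 1], [4, 5, 2, 7, 4, 4, 6, 6]), ([1, 6, 2, 6, 1, 4, 3], [5, 3, 0, 2, 4, 3, 5, 0, 0]), ([0, 3, 4, 2, 0, 6, 3, 6, 6, 2], [4, 7, 0, 2, 6, 4, 2, 1, 1]), ([3, 0, 0, 2, 7, 6, 1, 3, 0], [6, 3, 4, 2, 2, 0, 7, 2, 1]), ([4, 6, 7, 3, 7, 4, 0, 6, 2], [1, 6, 5, 7, 4, 2, 2, 4, 7, 2])],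
    [([1, 1, 6, 2, 4, 3, 1, 4, 3, 0], [6, 7, 2, 4, 7, 6, 5, 2]), ([2, 6, 6, 1, 5, 0, 6, 2], [2, 7, 4, 4, 6, 6]), ([1, 6, 7, 0, 4, 0, 2, 2, 0, 2], [4, 1, 4, 5, 1, 4, 0, 6, 1]), ([4, 5, 2, 2, 0, 2, 6, 6, 2, 0], [2, 6, 6, 6, 0, 6, 1, 2, 0, 3]), ([0, 7, 7, 4, 4, 5, 4, 0, 5, 0], [1, 6, 5, 6, 0, 2, 7, 2, 5, 2]), ([1, 5, 2, 2, 2, 2, 7, 1, 1], [0, 7, 5, 7, 7, 4, 1, 4, 7]), ([3, 3, 6, 2, 4, 0, 5, 6, 1], [1, 4, 0, 2, 1, 3, 4, 3]), ([7, 4, 1, 6, 6, 0, 2, 7, 1], [0, 5, 1, 2, 1, 3, 4, 6, 2]), ([0, 3, 3, 4, 4, 4, 2, 2, 1], [0, 2, 2, 5, 3, 4, 6, 2, 2]), ([0, 2, 5, 6, 4, 1, 5, 1, 6, 2], [3, 5, 3, 6, 2, 4, 4, 7, 0]), ([1, 1, 7, 7, 3, 5, 3, 6, 0, 2], [1, 5,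 6, 2, 7, 3, 3, 7, 5, 2]), ([5, 1, 1, 3, 6, 1, 7, 2, 2], [2, 4, 5, 6, 6, 1, 1, 7, 0]), ([2, 1, 4, 6, 5, 6, 0, 5, 0, 2], [4, 5, 4, 5, 4, 4]), ([1, 1, 1, 5, 7, 5, 7, 0, 4, 2], [0, 7, 5, 3, 1, 4, 2, 6, 1, 2]), ([0, 0, 6, 2, 7, 3, 3, 3, 1], [4, 4, 5, 4, 4, 4]), ([6, 7, 4, 1, 4, 0, 6, 4, 0], [2, 2, 0, 6, 7, 5, 1, 5, 1]), ([2, 6, 5, 3, 5, 2, 4, 2, 0], [5, 0, 6, 3, 1, 7, 7, 7, 1]), ([3, 4, 2, 2, 1, 4, 4, 0, 3], [0, 7, 2, 1, 4, 1, 6, 3, 4]), ([0, 6, 6, 4, 3, 3, 5, 7, 1], [2, 7, 7, 0, 5, 0, 5, 2]), ([0, 7, 2, 6, 2, 7, 2, 2, 2, 0], [5, 4]), ([1, 2, 2, 1, 2, 5, 6, 4, 7, 2], [5, 1, 4, 5, 4, 5, 0, 4]), ([2, 6, 4, 4, 2, 5, 4, 1], [2, 0, 5, 4, 6, 5, 6, 4,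 0, 0]), ([1, 3, 4, 0, 0, 7, 3, 0, 0], [0, 7, 2, 1, 6, 1, 5, 7, 6, 2]), ([0, 5, 1, 7, 7, 5, 4, 1, 1], [0, 4, 5, 6, 4, 1, 2, 2, 2]), ([4, 4, 4, 4, 4, 5, 4], [4, 4, 4, 4, 4]), ([5, 4, 4, 7, 0, 3, 6, 6, 3], [5, 4, 5, 4, 4, 5, 4]), ([5, 4, 5, 4, 5, 4], [7, 6, 7, 5, 4, 4]), ([7, 0, 7, 7, 3, 1, 4, 5, 0], [0, 6, 6, 3, 0, 4, 0, 5, 1, 1]), ([6, 0, 6, 2, 7, 4, 4, 0, 0], [1, 1, 4, 1, 4, 0, 3, 1, 3]), ([4, 4, 5, 4, 4, 4, 4], [4, 4]), ([7, 4, 7, 0, 7, 3, 4, 6, 2], [0, 3, 6, 4, 7, 7, 4, 0, 5, 0]), ([0, 6, 7, 5, 4, 4, 3, 1, 4, 2], [6, 3, 1, 2, 7, 5, 6, 4]), ([7, 5, 4, 4, 5, 7, 2, 4, 1], [0, 3, 6, 2, 5, 2, 6, 0, 7, 1]), ([2, 4, 6, 5, 4, 6, 1, 7], [1, 4, 3,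 4, 4, 5, 3, 4, 0, 3]), ([6, 6, 5, 7, 0, 0, 6, 1, 2], [5, 4, 0, 0, 3, 6, 3, 0, 2]), ([2, 2, 4, 4, 0, 6, 6, 5, 1], [2, 2, 1, 1, 1, 5, 7, 1, 2, 2]), ([6, 0, 4, 4, 4, 0, 7, 6], [0, 0, 5, 4, 0, 6, 2, 1, 6, 0]), ([2, 4, 6, 3, 1, 5, 3, 5], [5, 4, 5, 4, 4, 4, 4]), ([0, 2, 6, 3, 0, 2, 2, 6, 4, 0], [0, 2, 4, 0, 2, 5, 4, 0, 6, 0]), ([4, 3, 1, 6, 2, 4, 3, 1], [4, 2, 7, 3, 0, 6, 4, 7, 1]), ([0, 7, 3, 3, 3, 0, 6, 7, 1], [4, 1, 4, 5, 4, 5, 0, 4]), ([2, 2, 7, 7, 2, 2, 5, 6, 7], [4, 5, 4, 4, 4]), ([2, 2, 4, 0, 5, 0, 5, 6, 0], [5, 0, 0, 3, 6, 3, 0, 2]), ([0, 2, 7, 6, 0, 5, 7, 2, 2], [4, 4, 5, 4, 4]), ([2, 1, 3, 7, 4, 2, 7, 4, 6, 1], [4, 5, 6, 4, 5, 2, 7, 2,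 0]), ([7, 2, 7, 5, 1, 5, 7, 2, 2], [0, 0, 4, 0, 5, 4, 6, 7, 2, 1]), ([2, 5, 4, 1, 4, 3, 4, 2, 0], [2, 7, 4, 0, 4, 3, 6, 4, 2]), ([1, 7, 1, 3, 7, 2, 7, 2, 1], [2, 7, 3, 0, 7, 0, 6, 4, 7, 0]), ([0, 7, 0, 5, 6, 7, 3, 3, 4, 1], [3, 0, 5, 0, 6, 6, 1, 2, 5]), ([0, 4, 2, 0, 3, 7, 3, 5, 4, 2], [2, 4, 5, 6, 6, 5, 2, 1, 1, 3]), ([1, 1, 2, 2, 7, 6, 7, 7, 2], [5, 1, 4, 5, 4, 5, 0]), ([0, 4, 1, 6, 3, 5, 6, 7, 0], [0, 2, 6, 2, 2, 4, 6, 2, 4]), ([0, 2, 6, 5, 6, 0, 4, 5, 1], [1, 4, 4, 1, 4, 1, 1, 2, 2, 0]), ([3, 7, 2, 0, 3, 1, 5, 4, 1], [4, 4, 0, 0, 3, 6, 3, 0, 2]), ([2, 6, 7, 2, 6, 1, 7, 5, 1, 3], [4, 3, 6, 7, 0, 0, 5, 3, 1, 3]), ([5, 7, 0, 3, 0, 2, 5,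 4, 1], [4, 5, 0, 6, 6, 6, 6, 6, 1]), ([2, 6, 5, 2, 5, 0, 5, 0, 7, 1], [0, 2, 1, 5, 4, 5, 6, 3, 7, 2]), ([0, 5, 2, 5, 6, 6, 7, 6, 2], [0, 5, 1, 5, 1, 4, 0, 4, 1, 2]), ([0, 6, 3, 4, 7, 5, 2, 5, 2, 2], [0, 4, 3, 6, 0, 5, 2, 1, 3]), ([0, 2, 5, 3, 0, 6, 0, 2, 4], [5, 4, 4, 5, 4, 4, 5, 4]), ([0, 0, 6, 4, 0, 4, 3, 5, 7, 0], [0, 0, 5, 6, 1, 6, 0, 0, 0, 3]), ([6, 7, 0, 7, 6, 1, 6, 3], [5, 4, 4, 4]), ([0, 4, 0, 7, 7, 1, 7, 4, 5, 2], [0, 7, 5, 1, 2, 6, 7, 5, 1]), ([0, 6, 6, 6, 6, 6, 1], [5, 4, 5, 4, 5, 4, 4])],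
    [([0, 5, 1, 2, 5, 3, 0, 5, 1], [2, 7, 4, 6, 6, 0, 2, 4]), ([6, 0, 7, 1, 5, 1, 5, 2, 2], [0, 6, 4, 5, 0, 4, 3, 0, 2, 2]), ([4, 1, 5, 3, 7, 5, 1, 6, 0], [0, 4, 1, 3, 7, 5, 4, 1, 7, 0]), ([1, 6, 6, 4, 2, 7, 4, 6, 1, 3], [1, 4, 5, 7, 1, 6, 4, 3, 4]), ([4, 2, 1, 4, 5, 7, 0, 3, 7, 1], [4, 4, 5, 4, 4, 4, 4, 4]), ([1, 3, 6, 4, 7, 2, 4, 5, 2, 2], [5, 4, 4, 4, 4]), ([3, 7, 6, 6, 5, 3, 7, 0], [3, 3, 4, 5, 6, 4, 0, 4, 2]), ([6, 1, 3, 6, 2, 5, 3, 0, 3], [5, 4, 4, 4, 5, 4]), ([0, 4, 6, 2, 6, 2, 1, 3, 6, 2], [1, 4, 5, 1, 4, 0, 6, 1]), ([1, 2, 4, 4, 0, 3, 4, 3, 0, 3], [0, 7, 0, 2, 6, 3, 6, 1, 4, 0]), ([7, 6, 1, 4, 4, 5, 2, 0, 0], [1, 4, 3, 0, 0, 0, 4,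 2, 2, 2]), ([7, 3, 3, 3, 0, 6, 7], [5, 4, 4, 5, 4]), ([1, 1, 7, 4, 2, 1, 5, 0, 0], [4, 4, 5, 4, 5, 4, 4]), ([2, 2, 5, 4, 1, 7, 4, 0, 6], [4, 6, 7, 2, 4, 7, 6, 5, 2]), ([3, 7, 2, 7, 2, 6, 0, 0, 0, 3], [0, 4, 1, 6, 5, 4, 6, 6]), ([7, 7, 7, 7, 7, 4, 3, 4], [2, 7, 7, 2, 6, 4, 5, 4, 1, 2]), ([0, 7, 3, 3, 5, 3, 5, 6, 2], [5, 0, 0, 4, 0, 4, 1]), ([4, 4, 4, 5, 4, 4, 4], [4, 4, 4]), ([1, 1, 5, 2, 7, 2, 0, 7, 3], [1, 4, 2, 0, 3, 3, 4, 4, 1]), ([7, 3, 4, 5, 7, 5, 7, 3, 1], [6, 7, 6, 1, 3, 7, 1, 3, 1]), ([1, 7, 5, 4, 5, 2, 1, 2, 0, 0], [0, 6, 1, 7, 2, 7, 4, 1, 2]), ([1, 2, 1, 5, 3, 4, 0, 4, 2, 1], [1, 2, 2, 0, 3, 1, 6, 1, 7, 0]), ([3, 4, 2, 7, 4, 4,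 2, 5, 2, 1], [1, 1, 7, 2, 0, 7, 0, 4, 6]), ([0, 3, 6, 4, 4, 3, 5, 4, 2], [5, 4, 5, 4, 5, 4]), ([4, 4, 4], [0, 4, 5, 2, 6, 3, 5, 0, 3]), ([0, 6, 4, 7, 4, 4, 3, 5, 1, 1], [0, 3, 3, 6, 7, 7, 0, 4, 2, 6, 2]), ([6, 2, 7, 4, 3, 1, 1, 2, 1], [0, 4, 0, 0, 4, 0, 7, 3, 6, 2]), ([4, 2, 5, 2, 7, 7, 2, 1], [4, 4, 6, 0, 4, 2, 0, 2]), ([4, 5, 4, 5, 4, 5], [4, 7, 6, 7, 5, 4, 4]), ([0, 3, 5, 3, 4, 2, 4, 2, 7, 0], [0, 6, 6, 7, 3, 3, 0, 7, 5]), ([7, 0, 2, 0, 4, 1, 4, 2], [0, 6, 7, 2, 7, 5, 2, 5, 0]), ([4, 0, 0, 2, 4, 4, 7, 4], [3, 7, 7, 2, 1, 6, 6, 5, 6, 2]), ([1, 2, 1, 3, 0, 0, 4, 2, 2, 0], [5, 7, 7, 7, 0, 4, 5, 4, 2]), ([5], []), ([6, 0, 3, 5, 7, 4, 0, 2],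 [2, 6, 0, 7, 0, 5, 0, 3, 1]), ([6, 4, 7, 0, 5, 6, 4, 3, 1], [1, 4, 0, 0, 6, 1, 3, 3, 5, 2]), ([0, 6, 6, 2, 6, 5, 2, 1, 1, 1], [2, 1, 7, 6, 4, 7, 4, 3, 1]), ([0, 4, 7, 0, 7, 4, 4, 1, 4, 0], [7, 3, 3, 4, 6, 1, 6, 0, 3]), ([0, 2, 1, 1, 2, 6, 7, 2, 7, 2], [2, 2, 2, 2, 7, 3, 5]), ([2, 5, 0, 2, 4, 3, 1, 5, 6, 1], [2, 4, 2, 6, 3, 1, 6, 7, 6]), ([6, 7, 4, 4, 7, 6, 4, 6, 1], [0, 0, 3, 3, 0, 6, 7, 2, 4, 0]), ([1, 2, 7, 0, 0, 4, 0, 3], [0, 0, 6, 7, 0, 6, 3, 3, 7, 1]), ([0, 4, 3, 7, 0, 3, 7, 0, 5], [5, 4, 4, 4, 4, 5, 4, 4]), ([2, 7, 7, 4, 7, 7, 6, 3, 3, 1], [0, 4, 4, 0, 6, 0, 4, 1, 7]), ([4, 0, 6, 6, 1, 6, 3, 4, 6, 0], [1, 4, 3, 4, 0, 5, 1, 1, 5]), ([6,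 6, 1, 1, 1, 2, 6, 5, 2], [4, 5, 4, 4, 5, 4, 4]), ([0, 5, 1, 7, 6, 4, 7, 2, 7, 0], [0, 2, 4, 3, 1, 7, 0, 6, 1, 2]), ([2, 6, 5, 7, 6, 6, 4, 6, 2], [1, 2, 5, 6, 7, 0, 3, 0, 2, 1]), ([4, 1, 1, 6, 3, 1, 1], [1, 6, 5, 3, 4, 7, 0, 0, 2, 2]), ([3, 1, 6, 7, 6, 1, 1, 6, 1], [7, 4, 3, 0, 4, 1, 7, 2, 1]), ([3, 4, 5, 3, 0, 0, 7, 5, 2], [3, 4, 6, 7, 2, 4, 7, 2, 1]), ([0, 5, 3, 5, 4, 4, 0, 0, 6, 1], [3, 3, 4, 4, 0, 2, 5]), ([0, 6, 1, 7, 3, 1, 4, 2, 2], [0, 5, 1, 1, 2, 0, 6, 2, 5, 0]), ([4, 6, 7, 1, 2, 7, 4, 3, 1], [1, 1, 2, 4, 5, 4, 0, 7, 3, 1]), ([1, 4, 3, 4, 5, 4, 5, 3, 1], [2, 5, 4, 4, 1, 1, 1, 4, 5, 2]), ([2, 2, 6, 4, 7, 5, 6, 4, 5, 0], [0, 4, 1, 3,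 7, 2, 2, 5, 7, 0]), ([1, 3, 0, 4, 3, 3, 5, 7, 0], [1, 5, 6, 0, 3, 5, 4, 7, 2]), ([0, 0, 2, 4, 6, 5, 2, 0, 4, 2], [4, 7, 5, 7, 0, 2, 2, 2, 1]), ([0, 5, 1, 6, 7, 2, 6, 1, 7, 1], [0, 4, 2, 4, 5, 3, 5, 1, 4, 0]), ([0, 7, 4, 5, 6, 1, 1, 4, 3, 1], [6, 6, 2, 0, 5, 4, 4, 0, 0]), ([0, 0, 3, 4, 0, 0, 7, 3, 1], [5, 4, 4, 5, 4, 4]), ([2, 1, 7, 3, 1, 3, 4, 1, 1, 3], [0, 5, 2, 6, 3, 0, 4, 3, 4, 0]), ([1, 2, 6, 5, 6, 2, 2, 4, 2], [0, 7, 7, 1, 7, 1, 3, 5, 7, 2]), ([0, 0, 0, 5, 3, 1, 6, 5, 4, 2], [3, 3, 3, 1, 7, 3, 0, 5, 2])],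
    [([5, 1, 7, 0, 7, 1, 2, 0, 2], [7, 0, 7, 1, 1, 6, 6, 7, 1]), ([2, 0, 4, 5, 1, 4, 0, 7, 5, 0], [0, 0, 0, 7, 1, 6, 1, 7, 2, 1]), ([4, 3, 0, 4, 6, 6, 3, 6], [5, 4, 5, 4, 4, 5, 4, 4])]]

/-- a table -/
def sConjs : List (List (List ℕ × List ℕ)) :=
  sConjs0

/-- part of a table -/
def xConjs0 : List (List (List ℕ × List ℕ)) :=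
  [[([2, 5, 2, 4, 2, 2, 7, 0, 2], [4]), ([0, 0, 5, 6, 1, 6, 0, 0, 0, 3], [6, 4, 5, 3, 4, 3, 5, 4, 2]), ([5, 3, 5, 2, 4, 1, 1, 4, 3, 0], [7, 0, 2, 7, 7, 5, 1, 7]), ([0, 5, 1, 5, 3, 3, 6, 2, 0], [1, 4, 0, 3, 0, 0, 2]), ([0, 5, 6, 6, 3, 0, 0, 5, 4], [4, 2, 5, 4, 4, 7, 2]), ([1, 7, 6, 7, 6, 4, 0, 4, 2], [1, 1, 5, 2, 6, 5, 0, 6, 1]), ([7, 3, 4, 2, 6, 3, 1, 7, 0], [3, 7, 0, 5, 2, 6, 1, 6, 0]), ([1, 7, 5, 0, 5, 7, 6, 2, 4, 0], [5, 4, 5, 4, 5]), ([5, 6, 1, 5, 6, 1, 6, 1, 1], [1, 7, 5, 1, 2, 4, 5, 1, 4, 2]), ([0, 7, 5, 3, 0, 6, 0, 7, 3], [2, 1, 7, 1, 4, 7, 3, 1, 1]), ([0, 2, 6, 5, 7, 4, 5, 4, 3], [1, 5, 6, 2, 7, 7, 4, 4, 2]), ([0, 0, 7, 7, 3, 6, 2,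 5, 2, 1], [4, 5, 4, 5, 4, 4, 5]), ([4, 0, 6, 0, 0, 0, 3, 6, 1, 2], [6, 1, 2, 1, 7, 7, 6, 1, 4, 2]), ([0, 0, 0, 4, 3, 6, 3, 4, 6, 1], [0, 2, 4, 7, 4, 7, 1, 1, 5, 1]), ([2, 0, 2, 0, 7, 3, 4, 2, 1, 1], [3, 4, 7, 5, 4, 0, 4, 5]), ([0, 4, 5, 0, 7, 2, 7, 5, 1], [1, 7, 2, 1, 4, 4, 6, 6, 0, 0]), ([7, 7, 6, 0, 4, 7, 6, 7, 2], [4, 4, 4, 5, 4]), ([6, 4, 7, 5, 3, 3, 1, 6, 7], [1, 7, 5, 3, 3, 1, 2, 0, 3]), ([6, 2, 0, 6, 0, 0, 0, 6, 1], [5, 4, 1, 4, 0, 3, 0, 0, 2]), ([7, 2, 1, 4, 1, 7, 2, 6, 2], [0, 6, 7, 4, 3, 4, 5, 6, 4, 1]), ([0, 2, 5, 6, 2, 2, 1, 1, 1], [5, 4, 5, 4, 4, 4, 5]), ([7, 3, 6, 1, 7, 0, 2, 5, 1], [0, 7, 6, 6, 6, 1, 1, 5, 1, 3]), ([1, 4, 2,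 4, 4, 3, 6, 3, 6, 1], [0, 3, 7, 1, 5, 4, 5, 7, 2, 1]), ([0, 7, 7, 3, 0, 2, 2, 1, 7], [0, 7, 6, 3, 0, 0, 3, 1, 4]), ([0, 0, 4, 1, 7, 2, 4, 1, 2], [4, 5, 4, 5, 4, 5, 4]), ([0, 0, 5, 2, 4, 1, 2, 1, 3], [1, 1, 5, 4, 6, 3, 4, 7, 1, 2]), ([1, 3, 5, 0, 6, 1, 4, 3, 3], [0, 5, 6, 1, 3, 5, 7, 1, 3, 1]), ([5, 3, 1, 1, 6, 0, 4, 6], [0, 3, 3, 3, 5, 4, 2, 2, 7, 1]), ([3, 4, 0, 6, 5, 3, 1, 3, 4, 0], [3, 1, 7, 2, 2, 7, 7]), ([0, 4, 6, 2, 7, 4, 6, 6, 2, 0], [0, 4, 4, 2, 2, 4, 4, 2, 7, 2]), ([0, 5, 6, 7, 4, 4, 5, 2, 5, 0], [0, 3, 3, 7, 3, 6, 3, 3, 5, 2]), ([3, 5, 3, 0, 4, 3, 7, 4, 7, 0], [4, 4, 5, 4, 4, 4, 5]), ([3, 6, 1, 1, 2, 7, 7, 4, 2], [0, 7, 0, 6, 0,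 5, 0, 5, 0]), ([0, 4, 5, 1, 3, 1, 7, 0, 4], [7, 2, 1, 7, 2, 7, 1, 5, 1]), ([0, 2, 4, 7, 7, 0, 2, 0, 2], [1, 4, 5, 4, 5, 0, 5]), ([3, 7, 2, 1, 5, 1, 6, 3, 4, 2], [5, 1, 6, 6, 0, 2, 0, 6]), ([2, 1, 3, 0, 5, 4, 6, 6, 0], [0, 4, 1, 2, 6, 3, 6, 6, 4, 2]), ([7, 5, 7, 6, 3, 4, 2, 6, 1], [0, 2, 1, 1, 6, 4, 7, 3, 0, 2]), ([3, 6, 0, 5, 2, 1, 7, 1, 2], [4, 4, 4, 4, 4, 5]), ([0, 6, 0, 6, 4, 3, 5, 6, 2, 1], [2, 1, 4, 2, 4, 3, 3, 1]), ([1, 1, 4, 3, 1, 7, 4, 6, 1, 1], [0, 6, 7, 7, 7, 4, 7, 2, 0, 0]), ([4, 6, 0, 3, 4, 0, 5, 1, 7], [3, 4, 3, 7, 5, 0, 2, 7, 0]), ([6, 5, 1, 4, 0, 6, 2, 0, 3], [0, 2, 6, 1, 2, 7, 7, 3, 1]), ([7, 3, 3, 4, 6, 1, 6, 0, 3], [3, 4,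 7, 5, 4, 0, 4]), ([3, 6, 4, 3, 7, 6, 3, 7, 2], [2, 2, 4, 2, 4, 5, 7, 4, 1]), ([2, 1, 4, 4, 7, 6, 3, 5], [4, 3, 6, 7, 0, 0, 5, 3, 1, 3]), ([2, 7, 7, 0, 4, 1, 6, 6, 7], [4, 5, 3, 7, 4, 5, 1, 3, 0]), ([7, 0, 6, 1, 5, 4, 3, 0, 0], [7, 7, 2, 0, 3, 7, 0, 0]), ([2, 0, 7, 5, 6, 6, 3, 6, 5], [1, 4, 6, 0, 0, 6, 0, 0, 3]), ([2, 2, 0, 3, 0, 6, 5, 6, 3, 0], [1, 4, 3, 4, 0, 5, 1, 1, 4]), ([1, 4, 7, 3, 7, 1, 2, 5, 0], [4, 6, 7, 0, 2, 7, 3, 1, 7, 0]), ([4, 1, 4, 5, 4, 5, 0, 4], [0, 3, 4, 3, 5, 1, 7, 4, 1, 3]), ([0, 2, 7, 0, 7, 1, 3, 5, 0], [0, 3, 4, 4, 4, 6, 4, 5, 4, 1]), ([6, 1, 4, 3, 0, 7, 6, 6], [0, 4, 6, 0, 2, 7, 7, 3, 0, 0]), ([0, 0, 4, 0, 4, 6, 0,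 3, 5, 1], [7, 3, 3, 1, 1, 1, 6, 1, 3]), ([4, 3, 6, 7, 0, 0, 5, 3, 1, 3], [1, 4, 2, 6, 2, 0, 3, 6, 2]), ([6, 7, 5, 4, 3, 7, 2, 6, 2], [0, 5, 2, 0, 2, 1, 1, 3, 1, 3]), ([2, 1, 4, 5, 2, 2, 0, 0, 3, 1], [7, 5, 6, 2, 4, 5, 1, 2, 2]), ([7, 5, 0, 3, 6, 1, 6, 0, 3], [7, 4, 3, 0, 7, 6, 3, 4, 1]), ([0, 6, 6, 5, 7, 6, 3, 7, 7, 0], [0, 4, 3, 6, 0, 5, 2, 1, 3]), ([0, 3, 1, 4, 0, 3, 7, 6, 1], [7, 3, 1, 7, 4, 5, 4, 0, 3]), ([0, 4, 5, 0, 5, 4, 0, 5, 1], [6, 3, 4, 2, 2, 0, 7, 2, 1]), ([6, 6, 1, 1, 7, 6, 4, 4, 0], [1, 2, 2, 4, 0, 4, 3, 5, 1]), ([6, 4, 7, 4, 2, 7, 2, 1, 2], [0, 3, 6, 2, 6, 3, 1, 4, 5])],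
    [([4, 4, 0, 5, 1, 2, 4, 1, 1], [4, 5, 4, 4, 5, 4, 4]), ([5, 2, 7, 4, 6, 6, 0, 2], [4, 4, 4, 4, 5, 4, 4]), ([1, 1, 3, 3, 6, 6, 5, 1, 5, 1], [3, 7, 7, 7, 6, 5, 3, 6, 1]), ([1, 5, 7, 0, 0, 4, 4, 6, 1, 1], [4, 7, 6, 0, 4, 3, 1, 1, 3]), ([7, 1, 5, 6, 7, 0, 7, 6, 1], [5, 4, 4, 4, 6, 1, 6, 0, 2]), ([6, 0, 7, 3, 0, 3, 1, 2, 0], [1, 1, 1, 3, 4, 3, 3, 3, 5, 2]), ([7, 0, 0, 4, 5, 2, 2, 0, 0], [5, 7, 3, 5, 6, 5, 0, 6, 2]), ([2, 7, 1, 2, 5, 2, 6, 6, 2], [1, 1, 7, 5, 1, 3, 3, 5, 2, 1]), ([3, 7, 7, 6, 3, 1, 6], [5, 4, 4, 4, 4, 4, 5]), ([3, 1, 1, 6, 0, 4, 6, 5], [0, 2, 1, 2, 5, 0, 7, 5, 3, 1]), ([1, 2, 5, 0, 4, 0, 3, 0, 4, 0], [0, 2, 4, 7, 3, 5, 4, 2,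 7, 2]), ([2, 2, 6, 5, 4, 4, 1, 4, 0], [0, 3, 7, 3, 4, 6, 4, 7, 4, 0]), ([4, 3, 0, 2, 4, 3, 5, 0, 0], [2, 4, 7, 3, 5, 3, 4, 7, 1]), ([0, 5, 7, 7, 1, 6, 6, 0], [1, 7, 5, 1, 1, 4, 4, 4, 7, 0]), ([5, 3, 1, 1, 7, 2, 7, 5, 1], [5, 4, 4, 5, 4, 4, 5]), ([0, 0, 6, 4, 5, 6, 2, 0, 0, 0], [0, 7, 6, 7, 2, 7, 2, 1, 6]), ([4, 4, 0, 4, 4, 7, 3, 1, 1], [5, 4, 4, 4, 5, 4, 4]), ([0, 5, 7, 2, 7, 6, 5, 2, 2], [2, 0, 6, 4, 7, 6, 0, 5, 3, 0]), ([0, 4, 2, 7, 1, 1, 6], [5, 4, 4, 4, 5, 4, 5, 4]), ([2, 4, 2, 6, 7, 4, 6, 7, 1], [6, 4, 4, 6, 1, 4, 7, 5, 2]), ([1, 4, 2, 7, 4, 5, 6, 2, 1], [3, 3, 7, 1, 6, 5, 2, 2]), ([3, 5, 0, 3, 6, 7, 6, 7, 2], [5, 4, 2, 5, 4, 4, 7, 2]),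 ([1, 6, 2, 1, 4, 5, 3, 4, 6, 0], [4, 4, 5, 4, 5, 4, 5]), ([3, 6, 0, 6, 7, 3, 4, 1, 1, 1], [1, 7, 6, 0, 6, 7, 1, 5, 3, 1]), ([5, 1, 4, 1, 4, 0, 7, 2, 0], [3, 1, 6, 7, 3, 5, 3, 6]), ([4, 2, 6, 1, 6, 1, 3, 1, 2], [1, 7, 7, 3, 7, 0, 7, 0, 0]), ([0, 4, 4, 5, 0, 3, 5, 2, 7, 2], [0, 7, 0, 6, 5, 1, 5, 1]), ([0, 7, 1, 4, 7, 2, 5, 2, 1], [0, 5, 4, 0, 2, 1, 7, 4, 0]), ([0, 0, 3, 7, 6, 4, 4, 4, 0, 3], [3, 0, 2, 2, 6, 0, 6, 6, 1]), ([2, 2, 5, 0, 4, 5, 3, 4, 5, 1], [2, 0, 4, 3, 5, 0, 2, 2, 0]), ([7, 0, 7, 5, 2, 4, 0, 5, 1], [2, 5, 7, 1, 6, 2, 6, 1, 2, 2]), ([0, 3, 1, 2, 0, 2, 0, 6, 7, 1], [5, 1, 5, 3, 1, 5, 3, 6, 0]), ([1, 2, 2, 6, 1, 6, 7, 7, 0, 3], [0,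 6, 0, 4, 7, 0, 4, 3, 0, 2]), ([0, 7, 0, 5, 4, 3, 5, 7, 4], [4, 5, 4, 4, 4, 5]), ([4, 4, 1, 2, 0, 7, 5, 1, 2], [4, 0, 6, 6, 6, 6, 6, 1]), ([3, 4, 6, 4, 1, 6, 4, 0, 2], [0, 2, 5, 3, 5, 0, 6, 1, 4, 5, 1]), ([1, 6, 7, 2, 6, 6, 2, 5, 2], [3, 6, 3, 4, 2, 5, 3, 4, 3]), ([3, 3, 7, 2, 6, 0, 4, 7, 0], [5, 7, 6, 0, 4, 3, 1, 1, 3]), ([2, 4, 4, 7, 4, 5, 0, 0, 7, 0], [4, 4, 5]), ([3, 0, 2, 4, 3, 5, 0, 0, 4], [2, 1, 4, 3, 3, 5, 4, 2, 0, 2]), ([1, 7, 0, 3, 0, 6, 6, 5, 1, 1], [0, 3, 6, 2, 5, 2, 6, 0, 7, 1]), ([0, 6, 4, 4, 2, 7, 0, 2, 2, 2], [2, 7, 7, 7, 2, 2, 4, 7, 1]), ([1, 7, 2, 6, 1, 5, 2, 4, 0, 3], [0, 2, 0, 5, 0, 0, 3, 1, 4, 1]), ([2, 4, 3, 0, 6, 0,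 2, 0, 0, 2], [0, 3, 5, 1, 1, 2, 5, 0, 7, 2]), ([1, 5, 7, 0, 2, 1, 6, 7, 6], [5, 2, 2, 2, 4, 7, 2, 7, 1]), ([0, 4, 4, 7, 4, 3, 3, 4, 5, 2], [6, 3, 1, 2, 7, 5, 6]), ([0, 5, 6, 6, 2, 2, 2, 2, 4, 1], [6, 7, 1, 6, 2, 7, 6, 0, 3]), ([2, 5, 4, 2, 6, 6, 0, 4, 1], [4, 1, 3, 6, 4, 3, 4]), ([4, 1, 4, 5, 4, 4, 2, 2, 4, 1], [4, 4, 6, 1, 6, 0, 2]), ([5, 4, 4, 3, 3, 7, 6, 2, 2], [0, 2, 1, 4, 4, 1, 2, 4, 6, 0]), ([7, 5, 7, 6, 3, 0, 3, 7, 2], [0, 0, 6, 7, 6, 1, 4, 1, 2]), ([7, 1, 5, 4, 5, 3, 0, 4, 3], [0, 3, 0, 6, 6, 5, 7, 5, 3]), ([0, 6, 0, 6, 3, 5, 4, 6, 7], [1, 3, 3, 4, 2, 1, 6, 2, 5, 0]), ([1, 5, 6, 7, 5, 6, 4, 2, 2, 0], [0, 0, 6, 4, 6, 0, 4, 3, 3, 0]),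 ([1, 1, 2, 0, 6, 7, 7, 1], [2, 4, 3, 0, 6, 0, 2, 0, 0, 2]), ([3, 0, 2, 4, 5, 7, 2, 1, 2], [1, 1, 1, 2, 5, 1, 6, 6, 3, 1]), ([2, 7, 7, 0, 6, 3, 7, 7, 3], [4, 5, 4, 4, 5, 4, 4, 5]), ([3, 7, 4, 7, 7, 5, 7, 6], [1, 2, 7, 1, 7, 2, 5, 1, 3]), ([1, 1, 4, 2, 6, 4, 3, 7, 7, 1], [5, 2, 7, 4, 4, 6, 6]), ([1, 1, 4, 7, 6, 0, 2, 0, 5, 1], [2, 6, 4, 1, 4, 0, 3, 7, 6]), ([6, 0, 5, 0, 0, 6, 3, 0, 2], [4, 4, 5, 4, 4, 4]), ([3, 4, 1, 3, 7, 0, 3, 6, 0], [3, 3, 3, 1, 7, 3, 0, 5, 2]), ([7, 0, 6, 3, 3, 3, 7, 2], [1, 4, 3, 0, 3, 1, 7, 5, 0, 3]), ([0, 2, 2, 5, 0, 6, 1, 6, 2], [2, 6, 0, 2, 4, 1, 4, 4])],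
    [([0, 4, 3, 6, 7, 4, 6, 7, 0, 2], [4, 1, 3, 4, 2, 2, 1, 4, 4, 2]), ([0, 4, 3, 5, 4, 6, 6, 7, 0, 4, 0], [5, 3, 0, 4, 6, 5, 7, 3, 0]), ([1, 7, 2, 7, 2, 4, 6, 1, 2, 2], [5, 2, 7, 4, 6, 6, 0, 2]), ([0, 4, 4, 7, 3, 1, 1], [7, 0, 2, 0, 3, 4, 5, 7, 1]), ([1, 2, 6, 2, 6, 4, 2, 2], [4, 5, 4, 4, 5]), ([6, 7, 4, 3, 0, 2, 0, 6, 0], [3, 4, 5, 0, 2, 6, 5, 0]), ([3, 3, 7, 2, 5, 0, 6, 0], [0, 5, 7, 7, 1, 6, 7, 3, 3, 0]), ([4, 0, 0, 2, 4, 6, 4, 5, 2], [1, 1, 4, 4, 6, 3, 7, 1, 2]), ([4, 1, 1, 7, 6, 3, 7, 6, 0], [4, 1, 4, 5, 4, 5, 0]), ([4, 5, 6, 7, 5, 7, 1, 4, 7, 1], [0, 3, 1, 5, 7, 7, 7, 0, 5, 0]), ([0, 4, 5, 7, 6, 7, 1, 3, 4, 0], [1, 5, 6, 7, 1, 5, 6,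 3, 5, 1]), ([0, 3, 3, 1, 6, 5, 2, 0, 5], [4, 4, 6, 2, 6, 3, 0, 5, 4, 2]), ([2, 5, 7, 5, 3, 7, 0, 0, 0], [3, 6, 6, 2, 0, 7, 5, 0, 5, 2]), ([0, 4, 1, 1, 1, 6, 7, 6, 1, 2], []), ([3, 7, 6, 6, 2, 1, 6, 5, 0, 3], [7, 4, 7, 4, 5, 4, 7, 7, 1]), ([5, 4, 6, 6, 6, 5, 1, 7, 2], [4, 6, 1, 2, 6, 0, 2, 0]), ([0, 0, 3, 3, 6, 5, 1, 5, 6, 1], [1, 1, 2, 1, 1, 2, 2, 4, 4, 1]), ([2, 0, 3, 6, 6, 5, 1, 3], [7, 5, 3, 1, 6, 1, 7, 5, 2]), ([5, 4, 2, 4, 1, 3, 4, 6, 7, 2], [1, 6, 4, 1, 6, 2, 6, 6, 6, 0]), ([7, 0, 2, 6, 1, 7, 5, 2, 0], [0, 5, 6, 7, 4, 1, 4, 7, 5, 1]), ([5, 4, 4, 5, 4, 5, 4], [0, 4, 2, 4, 4, 3, 0, 7, 1]), ([1, 2, 0, 6, 0, 6, 2, 4, 3, 1], [1, 4, 0, 3,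 6, 0, 4, 6]), ([0, 6, 4, 4, 1, 6, 6, 2, 1, 3], [1, 6, 4, 7, 1, 4, 4, 5, 7, 0]), ([1, 2, 1, 7, 2, 5, 2, 1, 2], [2, 0, 3, 3, 0, 4, 3, 0, 7]), ([0, 7, 0, 5, 3, 6, 3, 5, 6, 1], [4, 4, 1, 4, 5, 4, 5, 0]), ([2, 7, 4, 6, 7, 6, 4, 5, 1, 3], [2, 7, 4, 4, 5, 3, 6, 7, 2]), ([2, 4, 1, 3, 4, 6, 7, 2, 4], [1, 2, 0, 5, 1, 3, 1, 6, 6, 2]), ([1, 6, 0, 4, 0, 6, 2, 0, 5, 0], [0, 5, 7, 6, 2, 5, 6, 2, 5, 0]), ([2, 2, 0, 6, 6, 6, 3, 0, 6, 2], [0, 7, 3, 7, 1, 1, 3, 5, 1]), ([0, 0, 7, 3, 5, 0, 7, 6, 2], [1, 1, 7, 7, 6, 7, 4, 3, 4]), ([3, 6, 1, 6, 3, 3, 3, 3], [1, 3, 7, 5, 0, 0, 0, 7, 7, 1]), ([2, 4, 1, 6, 7, 3, 4, 0, 3], [4, 0, 2, 4, 7, 2, 4, 1, 5, 2]), ([3, 6,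 3, 4, 7, 1, 5, 3, 1], [1, 5, 6, 2, 7, 3, 3, 7, 5, 2]), ([1, 5, 1, 3, 5, 3, 1, 7, 0], [3, 4, 3, 5, 1, 6, 4, 2, 2]), ([0, 6, 5, 0, 4, 5, 1, 2, 2, 0], [2, 4, 4, 0, 0, 0, 3, 5, 2]), ([6, 3, 3, 5, 6, 0, 5, 3], [2, 7, 4, 6, 6, 0, 2, 4]), ([0, 2, 1, 2, 0, 0, 7, 4, 1], [1, 2, 0, 5, 6, 5, 0, 6, 6]), ([3, 7, 2, 6, 3, 3, 4, 4, 0], [7, 6, 0, 4, 3, 1, 1, 3]), ([0, 0, 5, 1, 7, 0, 6, 3, 6, 1], [4, 5, 2, 5, 4, 4, 7, 2]), ([1, 2, 5, 6, 0, 4, 7, 2, 0], [4, 3, 6, 4, 1, 2, 6, 1, 1]), ([0, 6, 4, 6, 3, 3, 6, 6, 7, 1], [4, 1, 6, 3, 6, 6, 4, 6]), ([5, 6, 1, 3, 4, 0, 6, 3, 7, 2], [0, 3, 1, 4, 4, 4, 3, 3, 4, 2]), ([1, 2, 4, 1, 5, 3, 5, 3], [0, 4, 2, 6, 1, 3, 6, 3,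 5]), ([5, 4, 5, 4, 5, 4, 4], [0, 3, 1, 6, 6, 7, 2, 1, 1]), ([1, 6, 5, 7, 2, 2, 4, 6, 0, 2], [0, 2, 4, 7, 2, 4, 1, 5, 2]), ([2, 5, 7, 3, 3, 4, 0, 5, 0], [0, 3, 6, 4, 4, 3, 5, 4, 2]), ([4, 4, 5], [0, 4, 7, 0, 5, 3, 7, 0, 5, 1]), ([3, 0, 4, 2, 5, 4, 6, 3, 0, 3], [2, 4, 7, 2, 6, 2, 6, 6, 0, 3]), ([2, 4, 3, 4, 5, 4, 6, 4, 7, 2], [0, 3, 7, 7, 2, 1, 4, 7, 0]), ([3, 0, 5, 4, 5, 2, 6, 1], [1, 4, 5, 4, 4, 3, 7, 0, 3]), ([1, 2, 7, 6, 4, 2, 2, 7, 4], [5, 4, 4, 4, 4, 5, 4]), ([7, 5, 7, 6, 4, 1, 7, 6, 0], [5, 4, 4, 4, 4, 4]), ([1, 1, 4, 7, 5, 2, 2, 2, 1], [2, 7, 3, 7, 6, 6, 3, 0, 2]), ([0, 5, 4, 6, 3, 7, 6, 4, 2, 2], [4, 4, 5, 4, 5, 4]), ([0, 4, 5, 7,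 1, 2, 1, 1, 1], [4, 1, 1, 3, 5, 3, 4, 6, 4, 2]), ([0, 6, 6, 7, 0, 3, 1, 2, 5], [4, 5, 4, 4, 6, 1, 6, 0, 2]), ([1, 2, 0, 2, 6, 7, 3, 5, 1, 2], [0, 0, 7, 2, 5, 7, 2, 5, 1, 1]), ([4, 7, 5, 7, 4, 6, 0, 2, 0, 2], [0, 4, 6, 0, 5, 2, 4, 6]), ([0, 2, 4, 1, 6, 4, 1, 6, 2, 2], [1, 2, 2, 6, 4, 4, 2, 1, 6, 1]), ([1, 2, 0, 3, 4, 5, 4, 0, 2, 1], [0, 3, 7, 3, 5, 2, 7, 1, 4, 2]), ([2, 6, 7, 4, 1, 2, 2, 0, 6, 2], [0, 3, 4, 0, 7, 3, 6, 5, 7, 1]), ([4, 2, 1, 7, 4, 7, 6, 2, 1], [3, 1, 7, 2, 2, 7, 7, 5]), ([0, 0, 3, 6, 3, 0, 6, 6, 1], [3, 3, 4, 4, 4, 2, 1, 1, 1]), ([0, 6, 6, 0, 4, 4, 4, 2, 1, 2], [3, 0, 5, 3, 3, 3, 5, 6, 0])],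
    [([3, 4, 4, 6, 6, 2, 7, 7, 0], [1, 1, 1, 2, 2, 1, 6, 2, 2, 1]), ([1, 5, 3, 5, 0, 0, 6, 1, 1], [0, 3, 3, 0, 7, 6, 2, 6, 7]), ([5, 7, 5, 2, 6, 5, 6, 6, 0], [3, 7, 5, 7, 5, 2, 1, 1, 2]), ([1, 1, 2, 6, 6, 4, 5, 4, 4, 1], [0, 6, 2, 4, 5, 6, 5, 6, 2, 1]), ([2, 4, 6, 0, 5, 2, 6, 0, 6, 0], [0, 3, 5, 4, 1, 3, 0, 0, 6, 0, 3]), ([3, 4, 7, 7, 2, 7, 4, 4, 1], [1, 1, 1, 6, 7, 1, 1, 1, 5]), ([1, 7, 7, 2, 2, 2, 7, 6, 0], [1, 6, 7, 0, 6, 1, 5, 2, 0, 3]), ([3, 7, 3, 0, 3, 4, 1, 5, 1], [0, 5, 1, 3, 3, 4, 7, 2, 4]), ([0, 5, 0, 4, 0, 5, 7, 6, 6, 1], [3, 1, 6, 7, 0, 7, 1, 2, 6, 0]), ([2, 4, 4, 2, 4, 4, 4, 0, 3], [1, 4, 0, 3, 0, 0, 2, 4]), ([1, 4, 0, 0, 7,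 7, 6, 2, 7, 1], [1, 3, 4, 2, 2, 1, 4, 4, 2]), ([5, 1, 2, 7, 0, 0, 4, 0, 3], [0, 4, 1, 3, 7, 2, 2, 5, 7, 0]), ([1, 6, 4, 5, 7, 5, 6, 3, 3], [1, 6, 1, 5, 1, 3, 7, 4]), ([1, 5, 3, 5, 4, 3, 0, 6, 2], [0, 6, 7, 2, 0, 6, 7, 2, 0, 2]), ([6, 6, 2, 2, 7, 6, 4, 5, 2], [5, 0, 6, 3, 5, 4, 4, 1]), ([4, 6, 4, 0, 5, 0, 5, 1], [4, 4, 5, 4, 4, 5, 4]), ([2, 6, 3, 0, 3, 1, 7, 1], [0, 7, 7, 5, 7, 7, 6, 0, 0]), ([2, 7, 7, 2, 6, 4, 5, 4, 1, 2], [0, 0, 4, 1, 7, 6, 4, 7, 0, 2]), ([5, 0, 3, 3, 1, 6, 5, 2, 0], [6, 5, 7, 5, 0, 5, 1, 4]), ([5, 3, 7, 1, 7, 0, 7, 6], [3, 3, 1, 4, 6, 5, 6, 3]), ([7, 5, 2, 6, 0, 2, 1, 3], [0, 6, 2, 2, 0, 3, 3, 0, 0, 0]), ([2, 4, 0, 4, 7,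 4, 1, 6], [2, 4, 2, 7, 7, 1, 1, 1, 1]), ([2, 1, 4, 7, 2, 5, 1, 7], [0, 4, 7, 2, 4, 2, 4, 3, 7, 0]), ([3, 4, 7, 7, 4, 5, 3, 7], [1, 2, 7, 3, 5, 2, 7, 7, 0, 3]), ([7, 0, 0, 7, 2, 7, 7, 5, 2], [5, 4, 4, 1, 4, 5, 4, 5, 0]), ([5, 7, 4, 1, 6, 3, 5, 2, 2], [1, 4, 5, 4, 5, 0, 4]), ([6, 7, 1, 1, 4, 7, 6, 0], [0, 3, 6, 5, 3, 6, 1, 6, 2]), ([0, 4, 4, 7, 4, 4, 7], [4, 2, 2, 7, 2, 0, 7, 4]), ([3, 3, 7, 4, 2, 7, 7, 4, 3, 1], [2, 7, 4, 4, 6, 6]), ([0, 6, 0, 3, 5, 0, 4, 0, 4, 1], [1, 4, 4, 3, 6, 0, 7, 0, 4, 1]), ([1, 2, 5, 0, 7, 7, 7, 7, 3, 1], [1, 7, 4, 0, 0, 5, 4, 5, 6, 0]), ([4, 4, 3, 6, 1, 2, 6, 0, 0, 3], [7, 0, 6, 6, 2, 4, 0, 6, 0]), ([5, 7, 7, 5, 7,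 1, 2, 5, 1], [5, 2, 5, 4, 4, 7, 2]), ([6, 0, 6, 5, 6, 4, 5, 1], [1, 1, 3, 0, 0, 6, 0, 6, 5, 0]), ([2, 4, 3, 0, 5, 2, 5, 4, 3], [4, 2, 7, 7, 0, 5, 0, 5, 2]), ([0, 7, 3, 3, 3, 3, 4, 1, 3, 0], [0, 0, 2, 7, 0, 2, 7, 7, 3, 1]), ([0, 3, 0, 6, 6, 0, 0, 7, 4], [2, 6, 5, 4, 7, 5, 7, 3, 3, 0]), ([0, 4, 6, 1, 3, 4, 0, 7, 3], [6, 0, 6, 2, 0, 5, 1, 7, 1]), ([1, 6, 4, 4, 1, 7, 6, 7, 1, 1], [1, 6, 6, 1, 4, 7, 3, 6, 5, 0]), ([1, 2, 6, 3, 1, 7, 7, 5, 4, 1], [7, 7, 4, 1, 1, 5, 7, 1, 2]), ([2, 4, 2, 7, 1, 1, 4, 6, 0], [7, 2, 1, 1, 6, 0, 4, 2]), ([1, 6, 7, 3, 6, 0, 7, 3, 1], [6, 2, 1, 7, 0, 6, 2, 2]), ([1, 7, 7, 0, 3, 5, 7, 0, 0, 3], [2, 6, 4, 0, 2, 7, 1, 5,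 2]), ([3, 5, 2, 6, 3, 5, 3, 0], [5, 4, 4, 5, 4, 4, 4, 4, 5]), ([1, 1, 7, 6, 3, 7, 6, 0, 4], [1, 4, 5, 4, 5, 0]), ([3, 3, 5, 4, 4, 7, 0, 6, 5, 0], [6, 6, 2, 6, 0, 2, 1, 4]), ([3, 3, 5, 1, 4, 0, 3, 4, 1], [4, 5, 4, 5, 4, 4, 5, 4]), ([4, 2, 2, 7, 2, 0, 7, 5], [0, 0, 4, 0, 5, 4, 6, 7, 2, 1]), ([7, 1, 7, 0, 6, 4, 7, 4], [4, 4, 4, 4, 4, 5, 4, 4]), ([3, 3, 6, 2, 6, 7, 4, 5, 2, 2], [0, 5, 2, 2, 6, 3, 4, 5, 0, 3]), ([3, 5, 4, 5, 3, 5, 3, 5, 1], [7, 2, 6, 5, 4, 6, 4, 7, 1]), ([0, 3, 4, 0, 6, 0, 6, 6, 3, 1], [0, 3, 4, 4, 5, 7, 5, 0, 3, 1]), ([3, 0, 0, 3, 4, 0, 4, 2, 6], [2, 5, 7, 7, 1, 3, 7, 7, 5, 0]), ([0, 3, 6, 6, 7, 4, 7, 7, 0], [2, 2, 6, 3, 7, 7,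 4, 7, 4]), ([4, 5, 4, 4, 5, 4], [5, 4, 4, 4, 4, 5, 4, 4]), ([0, 4, 2, 5, 4, 1, 3, 6], [5, 4, 4, 5, 4]), ([1, 4, 1, 5, 3, 5, 1, 5, 0], [3, 4, 2, 7, 2, 5, 7, 3]), ([0, 4, 6, 5, 7, 2, 0, 2, 1], [0, 5, 3, 7, 5, 4, 4, 2, 6, 0]), ([7, 2, 7, 7, 5, 1, 6, 0, 7, 1], [4, 5, 4, 4, 4, 5, 4]), ([4, 0, 5, 1, 5, 4, 3, 4, 0], [4, 0, 6, 6, 4, 1, 6, 1, 1]), ([7, 4, 0, 7, 6, 2, 2, 7], [1, 1, 5, 2, 7, 2, 0, 7, 3]), ([7, 2, 1, 1, 5, 4, 6, 1], [2, 5, 4, 0, 5, 3, 7, 1, 4, 1]), ([1, 4, 4, 3, 1, 5, 4, 1, 5, 2], [5, 4, 4, 4, 4]), ([1, 4, 1, 5, 7, 6, 3, 5, 2], [4, 6, 4, 0, 6, 2, 5, 0, 0])],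
    [([1, 6, 5, 6, 0, 2, 7, 2, 5, 2], [1, 1, 5, 4, 6, 5, 0, 7, 7, 0]), ([0, 4, 2, 6, 6, 4, 7, 2, 6, 2], [3, 3, 6, 3, 6, 3, 0, 2, 0]), ([0, 4, 1, 3, 7, 5, 4, 1, 7, 0], [1, 1, 3, 4, 7, 0, 7, 6, 3]), ([2, 6, 7, 7, 5, 1, 2, 4, 1], [6, 7, 2, 7, 2, 5, 4, 0, 2]), ([2, 5, 0, 7, 6, 6, 4, 6, 4, 1], [1, 5, 2, 5, 3, 6, 7]), ([5, 6, 0, 6, 7, 2, 0, 4, 1], [1, 4, 2, 4, 1, 1, 6, 2]), ([2, 7, 3, 3, 5, 7, 4, 0, 6, 2], [7, 0, 2, 6, 1, 7, 5, 2, 0]), ([0, 2, 2, 7, 6, 4, 2, 6, 7, 1], [2, 7, 7, 0, 7, 4, 0, 7, 1]), ([6, 3, 7, 6, 7, 4, 5, 0, 2], [1, 3, 4, 3, 6, 3, 1, 3, 4]), ([6, 4, 7, 1, 6, 3, 4, 0, 4, 2], [4, 4, 5, 4, 5, 4, 5, 4]), ([0, 0, 5, 3, 5, 0, 3, 4], [0,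 7, 7, 5, 0, 4, 5, 7, 6, 1]), ([1, 7, 1, 5, 0, 7, 1, 3, 6, 0], [2, 6, 7, 6, 4, 5, 3, 7, 2]), ([0, 4, 1, 6, 1, 2, 7, 5, 2, 0], [3, 4, 4, 0, 6, 5, 1, 5, 1]), ([0, 0, 2, 7, 4, 7, 3, 5, 4, 2], [4, 4, 4, 4, 4, 5, 4]), ([2, 0, 6, 4, 0, 7, 3, 1, 3], [6, 4, 5, 3, 6, 2, 1, 1, 4, 2]), ([4, 1, 5, 0, 6, 5, 3, 3, 4, 2], [2, 0, 0, 4, 0, 3, 7, 7, 3, 0]), ([1, 1, 3, 1, 6, 4, 4, 7, 2, 2], [2, 6, 0, 7, 1, 6, 3, 6, 1]), ([1, 3, 5, 4, 0, 2, 0], [0, 5, 1, 2, 4, 4, 0, 4, 1]), ([4, 3, 0, 4, 2, 2, 5, 6, 0, 3], [7, 7, 6, 7, 4, 2, 6, 4, 2]), ([0, 3, 4, 4, 0, 0, 0, 6, 4, 2, 2], [3, 4, 5, 4, 5, 4, 6, 1, 3]), ([1, 7, 2, 4, 5, 6, 7, 2, 6, 0], [7, 2, 1, 3, 0, 5, 0, 3, 0]),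 ([1, 5, 1, 7, 0, 5, 1, 2, 7], [1, 3, 6, 4, 0, 2, 7, 3, 5, 1]), ([2, 7, 0, 7, 1, 4, 4, 7], [0, 4, 5, 1, 1, 6, 5, 4, 2]), ([0, 2, 6, 7, 0, 4, 3, 7, 4, 1], [0, 0, 6, 5, 6, 7, 5, 3, 1]), ([1, 3, 3, 1, 1, 3, 4, 0, 7, 1], [7, 5, 2, 6, 0, 2, 1, 3]), ([1, 6, 2, 5, 4, 5, 0, 4, 0], [0, 3, 5, 4, 0, 4, 5, 2, 6, 1]), ([0, 0, 5, 1, 7, 7, 6, 0, 0], [0, 2, 0, 5, 4, 4, 3, 1]), ([7, 6, 6, 1, 7, 2, 1, 4, 2], [5, 4, 5, 4, 4, 4, 4]), ([2, 6, 5, 3, 6, 4, 0, 0, 2], [3, 7, 6, 1, 2, 1, 7, 0]), ([0, 6, 0, 4, 3, 1, 7, 0, 2], [5, 4, 5, 4, 4, 5]), ([6, 1, 2, 5, 6, 5, 2, 2, 2], [0, 0, 3, 4, 4, 4, 1, 7, 6, 2]), ([5, 2, 0, 4, 7, 2, 7, 0, 2], [4, 3, 0, 4, 6, 5, 7, 3, 0]),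 ([0, 5, 0, 6, 6, 0, 5, 0, 7, 2], [0, 0, 6, 7, 2, 7, 4, 1, 2]), ([5, 6, 0, 6, 4, 4, 7, 5, 0], [0, 2, 7, 6, 3, 7, 4, 2]), ([5, 4, 4, 4, 4], [1, 6, 4, 0, 5, 7, 2, 7, 1, 2]), ([1, 6, 5, 7, 1, 7, 7, 4, 1], [5, 4, 4, 5, 4, 5, 4]), ([5, 0, 0, 0, 6, 6, 4, 4, 5, 2], [4, 2, 5, 4, 4, 7, 2, 5]), ([1, 7, 3, 3, 6, 7, 1, 3, 6, 0], [1, 2, 6, 5, 6, 2, 2, 4, 2]), ([6, 0, 4, 7, 5, 4, 5, 7], [4, 3, 7, 7, 5, 6, 2, 4]), ([4, 7, 1, 1, 1, 1, 2, 0, 2], [1, 3, 5, 4, 0, 2, 0, 4]), ([4, 3, 0, 0, 4, 6, 4, 5, 0, 0], [6, 5, 7, 1, 7, 7, 7, 6, 1]), ([0, 7, 1, 3, 3, 7, 7, 0, 2, 2], [4, 4, 4, 4, 5, 4, 5, 4]), ([2, 4, 7, 1, 4, 3, 7, 4], [0, 2, 5, 7, 5, 4, 6, 0]), ([4, 1, 5,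 0, 0, 4, 3, 7, 2], [2, 7, 4, 6, 0, 0, 0, 3, 3, 1]), ([4, 1, 5, 7, 4, 1, 7, 1], [2, 5, 4, 4, 7, 2]), ([0, 6, 6, 6, 2, 5, 1, 6, 2, 0], [6, 1, 2, 7, 7, 7, 5, 2, 2]), ([2, 1, 6, 5, 4, 0, 7, 6, 2], [0, 3, 4, 4, 0, 0, 4, 5, 2]), ([6, 4, 5, 6, 4, 6, 5, 3, 1], [2, 7, 0, 6, 7, 2, 6, 2, 0]), ([1, 4, 2, 4, 2, 7, 5, 2, 5, 1], [1, 6, 2, 7, 3, 6, 2, 7]), ([1, 3, 4, 3, 5, 7, 1, 3, 4, 2], [5, 7, 2, 1, 1, 6, 0, 4, 2]), ([0, 2, 4, 1, 1, 4, 6, 2, 6, 0], [3, 7, 7, 5, 6, 2, 4, 5]), ([2, 2, 4, 2, 1, 3, 5, 0, 4, 2], [0, 0, 2, 7, 6, 7, 5, 4, 5, 1]), ([1, 4, 4, 1, 4, 2, 7, 0, 0], [5, 4, 5, 4]), ([0, 2, 0, 4, 3, 4, 6, 5, 3, 1], [0, 4, 2, 6, 1, 3, 6, 3]), ([6, 3, 5,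 1, 4, 1, 2, 0, 0], [4, 4, 5, 4, 6, 1, 6, 0, 2]), ([2, 4, 1, 6, 7, 4, 1, 2, 2], [0, 0, 3, 1, 2, 4, 4, 1, 3, 0]), ([0, 3, 0, 7, 1, 4, 4, 4, 7], [1, 1, 1, 6, 7, 1, 1, 1]), ([0, 6, 2, 0, 6, 5, 0, 4, 0], [2, 6, 6, 1, 7, 7, 6, 4, 0]), ([5, 4, 1, 1, 6, 3, 1, 1], [1, 2, 7, 0, 0, 7, 3, 6, 2]), ([6, 6, 4, 4, 4, 6, 6, 5], [2, 2, 1, 1, 5, 3, 1, 7, 0]), ([5, 1, 3, 7, 6, 0, 5, 7, 0], [1, 6, 0, 4, 3, 6, 0, 0, 7, 0]), ([4, 5, 2, 2, 7, 2, 0, 7], [4, 7, 6, 1, 6, 4, 3, 6, 1]), ([3, 5, 0, 6, 0, 4, 6, 7, 0, 0], [7, 2, 6, 6, 6, 5, 4, 4, 1]), ([1, 4, 3, 4, 1, 5, 4, 7, 4, 2], [4, 3, 7, 5, 6, 7, 6, 5, 0])],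
    [([1, 5, 7, 6, 3, 1, 7, 6, 0], [3, 7, 7, 2, 1, 6, 6, 5, 6, 2]), ([1, 6, 2, 6, 3, 1, 2, 7, 6], [3, 0, 7, 7, 0, 0, 6, 2, 0, 0]), ([6, 5, 7, 5, 4, 7, 4, 2], [1, 1, 6, 6, 4, 1, 7, 5, 7, 1]), ([5, 3, 4, 5, 7, 5, 2, 7, 2], [0, 2, 6, 2, 2, 4, 6, 2]), ([2, 6, 0, 0, 3, 7, 4, 2], [4, 5, 0, 0, 0, 3, 5, 2, 1]), ([1, 4, 5, 6, 2, 7, 6, 1, 1, 2], [1, 6, 1, 7, 7, 4, 2, 0]), ([4, 5, 4, 4, 4], [0, 6, 2, 7, 3, 5, 1, 7, 0, 3]), ([6, 5, 1, 3, 3, 3, 5, 3, 0], [4, 6, 0, 4, 2, 0, 2]), ([1, 5, 3, 5, 3, 6, 5, 4, 1], [1, 1, 3, 6, 7, 7, 7, 3, 1, 1]), ([5, 1, 5, 3, 5, 3, 6, 5, 4, 1], [2, 6, 5, 4, 1, 1, 4, 6, 7, 1]), ([7, 0, 7, 5, 2, 5, 0, 0, 2], [0, 3, 6, 4, 7, 7,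 4, 0, 5, 0]), ([0, 7, 0, 7, 4, 0, 0, 0, 3], [1, 2, 7, 2, 4, 3, 5, 6, 0, 3]), ([4, 4, 5, 4, 5, 4, 5], [2, 2, 5, 3, 7, 4, 6, 2]), ([4, 0, 0, 5, 3, 5, 0, 3], [4, 7, 7, 6, 1, 6, 0, 3, 4, 0]), ([2, 7, 4, 0, 4, 3, 6, 4, 2], [4, 1, 1, 5, 4, 4, 5, 0, 2, 1]), ([2, 0, 0, 2, 2, 5, 4, 5, 7, 2], [1, 3, 7, 7, 6, 5, 3, 5, 7, 0]), ([0, 4, 5, 3, 5, 3, 7, 6, 0, 3], [4, 6, 6, 1, 2, 4, 2, 0, 5, 1]), ([2, 0, 3, 4, 7, 2, 7, 5, 2], [7, 1, 5, 4, 6, 7, 6, 2, 6]), ([1, 2, 5, 6, 6, 6, 1, 6], [4, 4, 4, 4, 5, 4]), ([4, 0, 0, 6, 2, 0, 7, 2, 1], [4, 4, 4, 5, 4, 5]), ([0, 0, 4, 7, 4, 1, 2, 4, 1], [5, 7, 5, 7, 0, 2, 2, 2, 1]), ([2, 6, 4, 2, 0, 3, 1, 7, 1], [3, 6, 7, 0, 2,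 0, 5, 1, 2]), ([0, 0, 7, 2, 5, 7, 5, 0, 3], [0, 7, 2, 6, 7, 5, 4, 5, 1, 1]), ([7, 1, 4, 2, 4, 7, 7], [0, 4, 5, 2, 4, 7, 7, 3]), ([0, 0, 5, 3, 5, 0, 3, 4, 5], [0, 4, 2, 4, 7, 4, 3, 3, 4]), ([0, 4, 3, 7, 0, 3, 7, 0], [7, 5, 1, 7, 5, 4, 3, 5, 1]), ([0, 4, 2, 4, 5, 7, 1, 1, 2, 2], [2, 1, 4, 6, 6, 1, 5, 6, 4, 2]), ([3, 4, 5, 2, 2, 5, 2, 1], [0, 6, 6, 4, 0, 7, 5, 0, 0]), ([1, 1, 5, 4, 7, 6, 3, 5, 1], [0, 0, 6, 7, 0, 6, 3, 3, 7, 1]), ([1, 5, 7, 4, 1, 7, 1, 4], [0, 2, 5, 7, 5, 4, 6, 0, 5]), ([1, 5, 3, 1, 1, 6, 2, 6, 2], [6, 6, 3, 0, 2, 7, 3, 0, 2]), ([4, 1, 1, 3, 1, 4, 6, 0, 2, 0], [1, 6, 7, 7, 1, 3, 4, 1, 2]), ([4, 7, 1, 7, 0, 6, 4, 7], [5, 4, 4]),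 ([5, 6, 5, 1, 6, 2, 5, 2], [6, 4, 6, 1, 4, 0, 4, 0, 2]), ([0, 6, 0, 7, 7, 6, 7, 4, 3, 0], [7, 6, 2, 6, 7, 1, 3, 6, 0]), ([3, 3, 7, 6, 2, 2], [4, 5, 2, 2, 2, 4, 7, 2, 7, 1]), ([0, 3, 7, 1, 5, 7, 7, 0, 4, 1], [4, 2, 2, 2, 2, 4, 6, 1]), ([4, 6, 4, 4, 6, 0, 5, 6, 2, 2], [0, 7, 3, 3, 0, 7, 3, 7, 7, 2]), ([0, 0, 0, 4, 2, 2, 6, 1, 1, 3], [7, 1, 6, 4, 5, 7, 0, 2, 0]), ([3, 4, 1, 6, 6, 1, 6, 3, 0], [5, 4, 1, 4, 5, 4, 5, 0]), ([7, 0, 2, 6, 7, 6, 4, 2], [4, 0, 7, 1, 3, 3, 3, 7, 5, 2]), ([4, 4, 3, 7, 6, 6, 4, 7, 1], [2, 0, 7, 2, 1, 7, 7, 5, 0]), ([5, 0, 0, 2, 4, 4, 7, 5], [1, 1, 4, 1, 4, 0, 3, 1, 3]), ([0, 2, 4, 6, 6, 7, 0, 5, 6, 0], [0, 0, 5, 4, 0,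 6, 2, 1, 6, 0]), ([0, 7, 6, 2, 5, 0, 6, 3, 7, 2], [2, 0, 6, 4, 7, 1, 6, 0, 2, 0]), ([1, 4, 3, 4, 6, 0, 3, 6, 2, 1], [0, 3, 3, 4, 3, 7, 2, 5, 4, 1]), ([6, 7, 7, 4, 2, 6, 6, 4, 0], [0, 7, 6, 6, 2, 7, 7, 0]), ([6, 5, 1, 6, 2, 5, 2, 5], [1, 6, 6, 2, 4, 5, 2, 7]), ([1, 1, 4, 3, 5, 6, 6, 1], [7, 6, 3, 0, 5, 6, 5, 6]), ([2, 2, 2, 0, 4, 3, 5, 1, 5, 1], [5, 4, 4, 4, 5]), ([0, 7, 3, 4, 7, 4, 0, 7, 4, 1], [1, 5, 7, 4, 5, 6, 7, 1, 1]), ([3, 6, 6, 4, 0, 4, 6, 0, 0], [0, 7, 5, 7, 7, 4, 1, 4, 7]), ([0, 2, 4, 2, 2, 2, 6, 1, 5, 1], [1, 4, 5, 7, 1, 6, 4, 3]), ([5, 3, 6, 1, 6, 7, 3, 4], [5, 2, 2, 2, 2, 4, 6, 1]), ([3, 1, 4, 3, 0, 4, 7, 1, 1], [1, 1, 1, 1, 5,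 0, 6, 0, 7, 1]), ([4, 6, 1, 3, 4, 4, 1, 4, 6, 0], [4, 5, 4, 5, 4]), ([1, 4, 5, 4, 5, 0, 5], [2, 1, 1, 5, 4, 3, 7, 6, 0]), ([0, 6, 1, 6, 7, 5, 1, 7, 2], [4, 4, 4, 5, 4, 5, 4, 5]), ([7, 0, 7, 4, 3, 7, 6, 5, 1], [2, 7, 0, 4, 5, 2, 0, 0, 3]), ([0, 2, 1, 1, 2, 2, 2, 0, 5], [0, 2, 1, 7, 2, 6, 5, 1, 1, 3]), ([4, 4, 5, 4, 4, 4, 4, 5], [3, 0, 7, 1, 3, 7, 7, 0, 3]), ([1, 1, 3, 4, 7, 1, 2, 6, 5, 0], [5, 4, 5, 4, 5, 4, 5]), ([3, 6, 1, 6, 7, 3, 4, 5], [2, 2, 2, 2, 4, 6, 1]), ([4, 5, 4], [0, 0, 4, 1, 7, 0, 6, 6, 2, 2])],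
    [([4, 4, 4, 7, 2, 1, 5, 7, 4, 0], [4, 3, 7, 4, 7, 7, 1, 6, 2]), ([1, 5, 0, 0, 5, 4, 3, 7, 2], [1, 5, 7, 7, 1, 2, 7, 6, 2, 0]), ([0, 2, 0, 5, 4, 4, 3, 1], [1, 1, 5, 4, 6, 5, 4, 4, 6]), ([0, 5, 6, 6, 3, 6, 3, 1, 1], [7, 2, 4, 7, 2, 4, 2, 0, 3]), ([1, 2, 1, 3, 4, 1, 6, 1, 3, 0], [1, 7, 0, 4, 0, 2, 1, 2, 6, 1]), ([5, 4, 5, 4, 4, 5, 4], [0, 2, 7, 5, 7, 4, 4, 5, 1, 2]), ([0, 3, 7, 2, 7, 6, 0, 7, 2, 2], [4, 5, 4, 4, 5, 4, 4, 4]), ([2, 2, 1, 3, 0, 6, 4, 0, 2], [5, 4, 5, 4, 5, 4, 5, 4]), ([0, 2, 1, 6, 3, 3, 0, 4, 6, 1], [0, 7, 3, 1, 2, 2, 1, 6, 6, 0]), ([0, 7, 1, 1, 7, 4, 3, 3, 1], [2, 2, 0, 0, 6, 3, 0, 0]), ([0, 6, 5, 6, 3, 6, 0, 0], [0, 7, 3,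 6, 5, 4, 6, 2, 1, 1]), ([4, 6, 2, 1, 4, 0, 6, 1, 4, 1], [7, 5, 6, 4, 6, 7, 1, 6, 2]), ([0, 3, 4, 5, 3, 0, 6, 0, 0, 3], [1, 4, 1, 7, 7, 3, 1, 5, 0, 3]), ([7, 2, 6, 4, 7, 5, 2, 1, 2], [1, 2, 0, 6, 7, 2, 7, 5, 1]), ([6, 6, 2, 0, 5, 4, 4, 0, 0], [2, 6, 4, 0, 4, 6, 1, 1, 1]), ([1, 6, 0, 2, 2, 0, 7, 3, 5, 2], [2, 6, 7, 0, 7, 0, 6, 4, 1]), ([2, 1, 7, 3, 5, 0, 0, 4, 0], [0, 6, 5, 0, 6, 4, 2, 7, 2, 0]), ([3, 3, 6, 7, 0, 0, 2, 1, 1], [3, 3, 7, 6, 2, 2, 4, 4]), ([2, 7, 7, 7, 6, 4, 5, 2, 2], [1, 5, 2, 1, 6, 1, 2, 1, 5, 0]), ([6, 5, 7, 2, 2, 7, 3, 4, 1], [1, 1, 5, 4, 3, 5, 0, 3, 1, 3]), ([1, 5, 7, 5, 3, 1, 2, 0, 0], [4, 4, 4, 4]), ([4, 4, 2, 2, 1, 2,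 7, 6, 0], [3, 7, 7, 5, 2, 4, 3, 7, 0]), ([1, 5, 0, 5, 2, 2, 1, 6, 1, 1], [1, 5, 1, 7, 5, 3, 3, 7, 1, 1]), ([0, 4, 4, 2, 1, 6, 4, 0, 5], [0, 6, 6, 4, 1, 6, 1, 1]), ([1, 7, 3, 7, 2, 7, 3, 5, 7], [0, 0, 7, 1, 7, 4, 5, 1, 6, 1]), ([0, 4, 6, 6, 0, 2, 4, 7, 5], [6, 4, 0, 3, 6, 2, 1, 3, 1]), ([4, 7, 3, 5, 1, 1, 3, 6, 1], [1, 6, 5, 6, 0, 2, 7, 2, 5, 2]), ([4, 3, 3, 7, 0, 6, 1, 2, 1], [1, 4, 0, 2, 5, 2, 4, 6, 4]), ([0, 6, 3, 5, 7, 7, 2, 7, 5, 2], [3, 7, 5, 1, 5, 2, 1, 6, 1, 2]), ([1, 6, 5, 1, 3, 0, 3, 5, 2], [2, 1, 6, 6, 6, 5, 3, 7, 5, 1]), ([2, 1, 4, 6, 6, 1, 5, 6, 4, 2], [7, 3, 7, 2, 1, 6, 6, 2, 1]), ([0, 7, 1, 3, 6, 7, 0, 2, 1], [1, 7, 0, 3, 6,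 7, 2, 2, 4, 1]), ([5, 4, 0, 5, 6, 6, 3, 0, 0], [4, 6, 1, 6, 0, 2]), ([0, 5, 6, 6, 3, 0, 0, 4], [0, 2, 7, 6, 3, 7, 4, 2, 5]), ([1, 3, 1, 5, 7, 2, 7, 0, 2], [2, 7, 7, 1, 1, 7, 4, 4, 4]), ([4, 4, 6, 4, 7, 4, 3, 7, 4, 0], [0, 7, 7, 4, 6, 1, 4, 6, 0, 0]), ([1, 1, 4, 2, 7, 1, 6, 4, 1, 2], [0, 4, 1, 6, 1, 3, 0, 7, 1]), ([6, 1, 5, 2, 0, 5, 4, 7], [4, 6, 2, 1, 7, 0, 6, 2, 2]), ([1, 7, 4, 0, 2, 6, 3, 0, 3], [2, 7, 2, 5, 2, 2, 5, 7, 7, 0]), ([3, 5, 7, 6, 1, 3, 3, 0, 3], [7, 4, 3, 0, 6, 7, 2, 5, 4, 0]), ([1, 1, 7, 1, 4, 6, 4, 4, 1, 3], [0, 5, 0, 3, 7, 7, 3, 5, 0]), ([2, 4, 0, 0, 5, 3, 0, 4], [3, 0, 5, 0, 6, 6, 1, 2, 5]), ([5, 1, 3, 3, 3, 0, 0, 3, 1],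 [0, 4, 5, 7, 6, 4, 6, 7, 5, 2]), ([2, 4, 3, 0, 7, 3, 7, 7, 0, 3], [1, 6, 6, 3, 1, 7, 2]), ([2, 5, 6, 6, 0, 4, 5, 7, 4, 0], [2, 4, 3, 1, 7, 0, 3, 5, 2]), ([5, 1, 3, 4, 3, 6, 3, 1, 3], [2, 4, 0, 7, 4, 2, 2, 0, 6, 0]), ([1, 2, 0, 6, 3, 7, 5, 2, 0, 3], [2, 5, 6, 3, 5, 7, 5, 1, 2]), ([5, 2, 1, 7, 4, 7, 4, 6, 2], [4, 1, 4, 3, 4, 0, 5, 1, 1]), ([4, 4, 5, 4, 5, 4, 4, 5, 4], [2, 5, 6, 4, 7, 7, 4, 6, 6, 0]), ([1, 6, 3, 3, 4, 1, 4, 7, 2], [4, 0, 3, 6, 4, 4, 3, 5, 4, 2]), ([4, 1, 5, 4, 2, 2, 4, 1], [3, 6, 0, 7, 6, 7, 1, 3, 1]), ([4, 5, 0, 0, 3, 7, 4, 0, 2], [1, 4, 5, 4, 5, 0, 4, 4]), ([7, 0, 0, 5, 7, 5, 0, 3, 1], [4, 4, 6, 4, 4, 0, 5, 3]), ([4, 5, 3,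 6, 1, 6, 7, 3], [4, 5, 2, 2, 2, 2, 4, 6, 1]), ([1, 7, 5, 7, 7, 0, 6, 4, 2], [1, 3, 1, 6, 3, 4, 1, 3, 7]), ([0, 7, 1, 5, 2, 2, 7, 1, 2], [5, 7, 6, 0, 4, 5, 1, 6]), ([0, 6, 6, 4, 0, 0, 7, 1, 1], [6, 6, 5, 4, 3, 6, 6, 6, 2]), ([2, 4, 0, 0, 6, 7, 5, 1], [2, 5, 2, 6, 3, 6, 6, 7, 0]), ([0, 0, 4, 5, 4, 2, 6, 7, 2], [2, 2, 1, 6, 5, 0, 4, 6, 4]), ([0, 6, 7, 3, 3, 0, 4, 7, 1], [5, 3, 7, 4, 7, 7, 1, 6, 2]), ([0, 4, 5, 0, 6, 0, 4, 6], [2, 4, 0, 7, 5, 3, 0, 4, 0]), ([1, 7, 3, 7, 7, 5, 6, 7, 4, 0], [0, 6, 1, 6, 7, 7, 4, 7, 0]), ([5, 6, 0, 4, 4, 4, 0, 7, 6], [7, 5, 6, 6, 5, 2, 0, 3]), ([1, 1, 7, 0, 2, 0, 0, 6, 5], [1, 3, 1, 1, 3, 0, 5, 6, 6, 2])],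
    [([1, 3, 0, 3, 4, 1, 7, 3, 7], [0, 0, 7, 6, 6, 6, 6, 2, 6]), ([2, 4, 4, 0, 2, 4, 6, 6], [0, 3, 4, 1, 3, 1, 5, 3, 7, 1]), ([4, 5, 3, 7, 5, 0, 3, 3, 3, 0], [0, 7, 5, 2, 7, 0, 6, 2, 4]), ([4, 6, 4, 4, 1, 3, 4, 5, 1, 1], [5, 4, 5]), ([0, 0, 2, 2, 4, 0, 0, 4, 3, 0], [0, 6, 2, 0, 2, 1, 1, 6, 0, 3]), ([1, 6, 3, 3, 1, 6, 6, 4, 0, 2], [2, 4, 6, 4, 7, 6, 3, 7, 1, 1]), ([0, 0, 6, 4, 6, 0, 5, 4, 2, 1], [4, 5, 4]), ([1, 2, 7, 1, 1, 7, 3, 6], [2, 1, 7, 0, 7, 2, 6, 3, 0]), ([5, 6, 2, 2, 2, 5, 0, 6, 0], [1, 7, 1, 5, 7, 7, 5, 2, 0]), ([6, 7, 5, 3, 6, 3, 0, 3, 0], [1, 6, 5, 3, 4, 7, 0, 0, 2, 2]), ([6, 5, 0, 5, 2, 5, 6, 0], [5, 0, 2, 0, 5, 4, 4, 3, 1]),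 ([1, 1, 6, 3, 4, 0, 4, 1], [0, 0, 0, 0, 6, 0, 2, 4, 2, 2]), ([1, 5, 2, 1, 4, 3, 6, 6, 3, 1], [4, 1, 6, 6, 3, 1, 7, 2]), ([5, 2, 1, 1, 1, 2, 1, 7, 0], [2, 2, 0, 6, 6, 1, 1, 2, 0]), ([2, 2, 2, 4, 1, 2, 4, 2, 0], [7, 2, 1, 3, 0, 6, 7, 4, 1]), ([6, 0, 4, 2, 0, 2, 5], [3, 7, 2, 4, 6, 7, 1, 2, 2]), ([1, 1, 3, 4, 7, 7, 3, 7, 5], [4, 4, 5, 4, 5, 4, 4, 5, 4]), ([0, 6, 5, 0, 5, 1, 5, 6, 2], [2, 4, 3, 1, 3, 0, 4, 6, 5, 1]), ([1, 5, 6, 7, 1, 5, 6, 3, 5, 1], [6, 0, 0, 4, 5, 2, 2, 6, 2]), ([0, 4, 3, 6, 1, 7, 3, 4, 7, 0], [0, 7, 6, 4, 7, 7, 6, 2, 6, 0]), ([5, 7, 3, 7, 5, 1, 7, 2, 2], [4, 4, 4, 5]), ([1, 1, 1, 7, 1, 4, 1, 1, 1, 2], [4, 4, 1, 4, 5, 4, 5,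 0, 5]), ([0, 0, 5, 4, 5, 3, 3, 1, 7, 2], [2, 7, 7, 7, 3, 3, 4, 5, 4, 1]), ([7, 0, 3, 7, 5, 1, 2, 4, 2], [0, 6, 2, 0, 3, 3, 5, 7, 0]), ([1, 1, 6, 0, 7, 4, 4, 2, 2, 1], [5, 6, 4, 0, 6, 2, 5, 0, 0]), ([4, 7, 7, 2, 0, 3, 7, 0, 0], [6, 5, 1, 4, 0, 6, 2, 0, 3]), ([5, 1, 2, 2, 1, 6, 4, 7, 2], [1, 2, 0, 5, 1, 7, 0, 6]), ([3, 1, 5, 3, 0, 4, 7], [4, 2, 1, 4, 5, 7, 0, 3, 7, 1]), ([2, 0, 6, 3, 3, 4, 7, 7, 2], [0, 7, 0, 6, 6, 1, 1, 5, 3, 0]), ([4, 3, 7, 6, 0, 7, 2, 4, 1], [1, 7, 0, 4, 2, 0, 4, 1, 2]), ([6, 7, 2, 6, 4, 1, 5, 7], [4, 1, 1, 2, 6, 6, 6, 5, 0]), ([0, 5, 6, 7, 0, 0, 6, 1, 6, 2], [2, 4, 1, 3, 6, 3, 4, 4, 5]), ([0, 3, 6, 0, 5, 6, 5, 2, 6, 2],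 [4, 5, 0, 2, 2, 0, 2, 4, 4, 2]), ([2, 2, 7, 4, 1, 6, 6, 2, 7, 0], [4, 2, 7, 4, 4, 6, 6]), ([1, 3, 4, 3, 6, 3, 1, 3, 5], [2, 2, 0, 5, 4, 3, 7, 7, 7, 1]), ([7, 0, 3, 4, 1, 1, 2, 4, 2], [2, 2, 7, 2, 0, 7, 4]), ([3, 6, 1, 4, 2, 2, 1, 2, 0], [0, 5, 3, 5, 2, 6, 3, 7, 3, 0]), ([3, 7, 6, 5, 6, 5, 7, 2], [6, 2, 4, 0, 0, 7, 3, 3, 0]), ([1, 6, 7, 6, 7, 0, 3, 0, 2, 2], [0, 4, 1, 3, 1, 4, 5, 7, 5, 0]), ([1, 2, 1, 6, 0, 7, 7, 3, 3, 0], [0, 6, 4, 5, 0, 4, 3, 0, 2, 2]), ([5, 6, 2, 7, 5, 2, 2, 2, 2], [1, 3, 6, 0, 6, 1, 5, 2, 1]), ([0, 2, 7, 6, 3, 7, 4, 2], [3, 5, 3, 6, 2, 4, 4, 7, 0]), ([1, 6, 7, 2, 0, 7, 4, 0, 6, 1], [0, 7, 2, 2, 7, 1, 6, 6]), ([2, 2, 1,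 2, 7, 6, 0, 4, 4], [2, 6, 0, 7, 0, 5, 0, 3, 1]), ([2, 4, 1, 3, 6, 3, 5, 4], [1, 4, 0, 7, 2, 5, 6, 0, 5, 2]), ([5, 4, 3, 5, 3, 4, 7, 4, 0], [6, 6, 6, 6, 7, 2, 7, 6, 1]), ([0, 2, 0, 7, 4, 5, 0, 3, 7, 0], [3, 7, 5, 6, 7, 6, 5, 0]), ([3, 3, 7, 6, 7, 6, 2, 2], [1, 6, 6, 0, 2, 0, 6]), ([0, 3, 4, 3, 3, 6, 3, 5, 2, 2], [3, 1, 7, 7, 7, 5, 6, 4, 2]), ([4, 0, 5, 6, 6, 3, 0, 0], [1, 2, 5, 1, 7, 0, 4, 1, 5, 2]), ([1, 7, 6, 2, 0, 3, 4, 6, 1], [1, 3, 0, 3, 4, 7, 6, 3]), ([6, 6, 5, 7, 2, 0, 7, 2, 2], [4, 2, 2, 0, 0, 6, 3, 0, 0]), ([5, 3, 3, 1, 3, 0, 3, 6, 0], [5, 6, 1, 3, 4, 0, 6, 3, 7, 2]), ([1, 7, 1, 5, 4, 0, 3, 5, 2, 1], [2, 2, 2, 5, 1, 3, 1, 7, 7, 2]),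 ([0, 2, 1, 4, 5, 6, 6, 1, 6, 2], [0, 3, 7, 7, 4, 2, 5, 2, 4, 1]), ([4, 4, 4, 1, 1, 6, 3, 1, 1], [5, 3, 3, 7, 1, 6, 5, 2, 2]), ([0, 3, 7, 4, 3, 4, 6, 4, 0, 0], [2, 7, 0, 7, 0, 0, 6, 1, 7, 0]), ([0, 3, 5, 2, 1, 2, 0, 0, 3, 1], [3, 7, 6, 6, 6, 7, 2, 2, 0]), ([0, 0, 5, 4, 2, 2, 7, 2, 6, 2], [4, 6, 6, 4, 4, 4, 6, 6]), ([1, 5, 6, 5, 3, 6, 3, 4, 2, 0], [7, 7, 5, 0, 5, 0, 0, 3]), ([6, 6, 0, 4, 6, 2, 2, 4, 0], [1, 3, 6, 4, 7, 2, 4, 5, 2, 2]), ([0, 0, 4, 5, 3, 5, 6, 2, 2], [0, 4, 4, 1, 7, 6, 3, 4, 3, 0]), ([3, 0, 2, 5, 3, 4, 6, 7, 7, 0], [1, 1, 4, 3, 1, 2, 2, 2, 4, 0]), ([3, 0, 7, 6, 0, 4, 4, 4, 2], [2, 0, 2, 2, 7, 0, 3, 5, 3])]]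

/-- part of a table -/
def xConjs1 : List (List (List ℕ × List ℕ)) :=
  [[([5, 1, 3, 5, 4, 0, 2, 0], [0, 2, 6, 6, 5, 6, 7, 3, 7, 1]), ([4, 6, 1, 7, 6, 6, 3, 5, 2], [4, 4, 3, 7, 4, 5, 1, 3, 0]), ([0, 2, 2, 5, 0, 7, 7, 3, 1, 1], [5, 1, 7, 6, 2, 0, 3, 4, 6, 1]), ([0, 4, 7, 4, 5, 4, 7, 3, 1], [0, 0, 4, 0, 3, 7, 2, 2, 4, 0]), ([3, 6, 7, 7, 5, 7, 3, 0, 0, 3], [1, 5, 0, 3, 4, 5, 7, 7, 6]), ([0, 5, 3, 7, 6, 5, 6, 2, 2], [3, 3, 7, 4, 0, 3, 4, 2, 0]), ([3, 1, 1, 5, 4, 0, 5, 1], [3, 1, 7, 4, 3, 6, 5, 0, 3]), ([2, 4, 3, 0, 4, 3, 7, 2, 0], [6, 2, 1, 5, 2, 2, 6, 0, 2]), ([4, 5, 4, 5, 4, 4, 5], [3, 6, 4, 1, 1, 3, 4, 5, 0]), ([7, 7, 2, 2, 7, 1, 6, 1, 3],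 [1, 4, 7, 5, 4, 2, 4, 0, 2]), ([2, 6, 3, 5, 1, 2, 7, 4, 7, 2], [3, 4, 1, 6, 1, 5, 6, 4, 1]), ([1, 3, 1, 6, 0, 2, 7, 3, 3, 1], [2, 0, 5, 4, 6, 5, 6, 4, 0, 0]), ([4, 4, 4, 4, 5], [0, 7, 5, 0, 6, 5, 6, 3, 7, 2]), ([0, 4, 4, 7, 3, 1, 1, 4, 4], [6, 7, 4, 4, 7, 6, 4, 6, 1]), ([0, 3, 6, 6, 6, 0, 6, 4, 6, 1], [0, 4, 5, 4, 5, 1, 7, 2, 0]), ([4, 4, 5, 4, 4, 5], [0, 5, 1, 1, 2, 0, 6, 2, 5, 0]), ([1, 1, 6, 3, 1, 1, 5, 4], [1, 3, 3, 1, 1, 3, 4, 0, 7, 1]), ([5, 4, 4, 6, 0, 4, 2, 0, 2], [0, 6, 3, 7, 0, 7, 1, 7, 1, 2]), ([3, 4, 6, 5, 2, 2, 6, 5, 0, 2], [5, 4, 6, 1, 6, 0, 2]), ([5, 1, 6, 7, 2, 0, 6, 1, 2], [0, 2, 5, 1, 6, 7, 6, 3, 5]), ([7, 2, 1, 5, 6, 3,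 7, 6, 0], [5, 4, 5, 4, 5, 4]), ([4, 5, 6, 6, 6, 5, 1, 7, 2], [0, 3, 3, 4, 0, 6, 6, 1, 4]), ([6, 7, 4, 1, 4, 6, 3, 0, 3], [6, 6, 7, 2, 5, 7, 4, 4, 2]), ([4, 2, 4, 0, 0, 5, 3, 0], [1, 4, 5, 4, 5, 0, 5, 4, 4]), ([0, 6, 1, 3, 4, 3, 7, 0, 4, 0], [7, 2, 0, 5, 6, 2, 6, 6, 1]), ([5, 4, 5, 4, 5], [2, 0, 2, 1, 3, 0, 3, 3, 1]), ([3, 1, 6, 6, 7, 4, 2, 4, 0], [6, 1, 6, 0, 2]), ([5, 4, 4, 5, 4, 4], [4, 0, 5, 1, 6, 6, 4, 3, 0]), ([0, 5, 2, 7, 7, 2, 7, 1, 5, 2], [0, 7, 7, 6, 2, 1, 1, 3, 5, 0]), ([0, 5, 2, 0, 2, 1, 1, 3, 1, 3], [1, 6, 5, 3, 5, 6, 4, 4, 2]), ([1, 7, 4, 7, 6, 2, 7, 7, 0], [4, 5, 4, 4, 5, 4]), ([2, 1, 3, 6, 4, 4, 3, 4, 1, 1], [2, 7, 2, 0, 4,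 7, 1, 4, 6, 0]), ([3, 6, 7, 1, 5, 6, 6, 1, 4, 1], [1, 5, 6, 2, 0, 0, 3, 6, 2]), ([0, 4, 6, 5, 2, 1, 1, 3, 6, 2], [6, 3, 1, 2, 7, 5, 6, 4]), ([1, 1, 6, 1, 5, 0, 2, 1, 1], [6, 7, 0, 3, 7, 2, 7, 4, 2]), ([7, 7, 6, 7, 0, 0, 3, 6], [3, 6, 7, 5, 7, 6, 2, 5, 2]), ([4, 1, 2, 4, 3, 3, 4, 1, 3], [1, 3, 6, 2, 2, 2, 5, 3, 5, 0]), ([0, 5, 1, 6, 1, 1, 3, 5, 2], [4, 3, 4, 5, 0, 2, 6, 5, 0]), ([3, 1, 1, 3, 5, 2, 6, 0, 0, 2], [5, 3, 0, 2, 4, 3, 5, 0, 0]), ([2, 4, 5, 6, 4, 1, 1, 2, 5], [5, 4, 4, 5, 4, 4]), ([2, 4, 0, 4, 2, 5, 4, 2, 1], [2, 1, 7, 4, 4, 6, 6, 4, 0]), ([0, 4, 4, 6, 1, 2, 2, 2, 2, 1], [2, 5, 1, 1, 2, 1, 7, 2, 5, 1]), ([1, 1, 3, 5, 4, 1, 1, 7,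 3], [7, 0, 7, 4, 3, 7, 6, 5, 1]), ([7, 0, 4, 7, 0, 3, 0, 0], [4, 4, 5, 4, 4, 5]), ([1, 1, 1, 1, 5, 3, 3, 3, 7], [1, 7, 6, 2, 0, 2, 0, 2, 0, 3]), ([5, 4, 1, 1, 5, 1, 7, 7, 6, 2], [6, 0, 7, 4, 7, 5, 3, 0, 0]), ([4, 6, 1, 6, 1, 7, 4, 4, 0, 2], [1, 4, 6, 1, 3, 5, 6, 2, 2]), ([0, 5, 0, 0, 4, 4, 3, 3, 0], [0, 6, 6, 3, 3, 1, 5, 0, 4, 0]), ([1, 7, 1, 5, 6, 4, 2, 5, 2], [4, 4, 5, 4, 4, 4, 4, 5]), ([7, 6, 6, 1, 4, 5, 3], [6, 6, 5, 2, 2, 6, 4, 0]), ([4, 6, 2, 2, 5, 0, 4, 7, 3], [2, 4, 6, 5, 0, 7, 0, 7, 1]), ([0, 3, 7, 1, 6, 6, 2, 7, 1, 1], [5, 4, 5, 4, 6, 1, 6, 0, 2]), ([3, 3, 5, 2, 0, 2, 0, 6, 2], [0, 4, 2, 4, 5, 3, 5, 1, 4, 0]), ([7, 3, 1, 3, 7, 7,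 0, 6, 1], [5, 6, 6, 2, 6, 0, 2, 1, 4]), ([5, 1, 1, 4, 3, 5, 6, 6, 1], [0, 2, 2, 6, 4, 5, 7, 6, 1]), ([5, 6, 4, 7, 4, 3, 7, 4, 0], [1, 4, 2, 4, 6, 2, 2, 7, 5, 0]), ([6, 1, 4, 5, 6, 2, 7], [6, 6, 1, 2, 4, 2, 0, 5, 1]), ([2, 6, 7, 2, 0, 4, 2, 1, 1], [1, 2, 2, 0, 3, 1, 6, 1, 7, 0]), ([4, 1, 4, 3, 4, 0, 5, 1, 1], [1, 2, 6, 1, 6, 3, 6, 1, 4, 2]), ([0, 7, 7, 3, 1, 1, 6, 2, 5, 0], [0, 3, 4, 5, 3, 0, 6, 0, 0, 3]), ([4, 3, 3, 0, 0, 0, 7, 6, 7], [2, 1, 1, 6, 7, 3, 7, 7, 0]), ([7, 1, 2, 4, 0, 3, 7, 7, 2], [0, 0, 5, 3, 4, 6, 6, 6, 0]), ([4, 1, 1, 6, 3, 1, 1, 5], [0, 4, 7, 6, 7, 3, 4, 6, 6, 0]), ([1, 1, 3, 5, 4, 4, 0, 6, 4], [4, 1, 4, 0, 3, 0, 0, 2])],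
    [([1, 2, 2, 1, 4, 7, 2, 5, 7, 0], [0, 5, 1, 2, 7, 3, 1, 7, 0, 2]), ([1, 6, 2, 2, 7, 5, 0, 5, 1, 1], [2, 4, 1, 4, 6, 3, 7, 4, 2, 1]), ([0, 0, 2, 1, 2, 2, 7, 4, 2], [2, 1, 6, 6, 5, 1, 2, 2, 0]), ([5, 2, 2, 7, 2, 0, 7, 4], [1, 2, 0, 5, 2, 7, 0, 2, 4, 1]), ([1, 1, 4, 1, 7, 7, 0, 3, 7, 1], [4, 4, 5, 4, 4, 4, 4]), ([4, 6, 2, 5, 3, 5, 7, 2, 0], [1, 3, 4, 3, 5, 7, 1, 3, 4, 2]), ([4, 6, 4, 5, 4, 6, 7, 5], [4, 4, 0, 6, 3, 5, 4, 4, 1]), ([7, 4, 7, 5, 3, 1, 2, 5], [3, 0, 3, 4, 7, 1, 6, 4, 1, 3]), ([2, 5, 7, 4, 0, 2, 6, 3, 4, 0], [5, 0, 2, 2, 0, 2, 4, 4, 2]), ([0, 0, 4, 1, 7, 0, 0, 4, 1], [1, 5, 1, 6, 5, 7, 5, 7, 0, 2]), ([1, 2, 0, 3, 7, 1, 4, 7,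 5, 1], [3, 7, 3, 4, 7, 1, 7, 7, 4, 1]), ([0, 2, 2, 2, 4, 2, 4, 0], [1, 4, 7, 2, 5, 4, 4, 7, 1]), ([1, 6, 7, 2, 0, 6, 1, 2], [5, 4, 4, 4, 4, 5]), ([2, 1, 6, 4, 5, 1, 4, 6, 0], [2, 7, 5, 1, 7, 0, 0, 6]), ([7, 3, 5, 0, 7, 4, 6, 0, 2], [4, 5, 4, 6, 1, 6, 0, 2]), ([5, 3, 6, 6, 5, 6, 6, 0, 0], [5, 4, 4, 4, 5, 4, 5]), ([4, 5, 4, 7, 4, 7, 5, 3, 1, 2], [0, 3, 3, 1, 7, 7, 3, 5, 4, 0]), ([1, 5, 6, 7, 4, 0, 3, 5, 7], [0, 5, 4, 6, 2, 2, 0, 0, 7, 2]), ([0, 2, 5, 7, 3, 1, 1, 6, 5, 0], [7, 7, 4, 7, 5, 3, 4, 5, 1]), ([0, 0, 7, 5, 3, 4, 4, 2], [6, 4, 0, 6, 2, 5, 0, 0]), ([2, 7, 4, 5, 1, 2, 7, 5, 2, 0], [1, 7, 5, 4, 5, 6, 7, 3, 1]), ([3, 6, 6, 6, 6, 1, 7, 6,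 6, 0], [1, 3, 5, 7, 4, 0, 4, 2, 6, 1]), ([0, 0, 2, 7, 0, 2, 7, 7, 3, 1], [4, 4, 6, 0, 4, 2, 0, 2]), ([1, 2, 4, 2, 1, 5, 3, 0, 3], [2, 7, 7, 0, 5, 0, 5, 2, 4]), ([0, 0, 3, 5, 2, 2, 2, 4, 2], [0, 7, 2, 7, 4, 1, 3, 0, 5, 2]), ([0, 0, 4, 3, 4, 7, 4, 4, 6, 2], [5]), ([2, 5, 0, 2, 2, 0, 4, 7, 3], [2, 7, 7, 0, 5, 0, 5, 2]), ([7, 3, 4, 4, 6, 1, 2, 2], [0, 3, 4, 2, 7, 0, 7, 5, 3, 0]), ([1, 7, 7, 4, 2, 7, 3, 1, 1], [5, 0, 7, 0, 6, 5, 1, 5, 1]), ([0, 4, 0, 2, 4, 5, 4, 5, 3, 1], [3, 4, 4, 2, 0, 5, 0, 5, 0]), ([6, 5, 6, 7, 4, 2, 5, 1], [1, 7, 2, 7, 6, 1, 5, 6, 0]), ([0, 4, 7, 6, 6, 1, 7, 1, 3], [4, 0, 0, 6, 2, 2, 4, 5, 7, 0]), ([6, 5, 6, 0, 5, 0, 0, 3,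 0], [0, 5, 2, 2, 4, 6, 4, 0, 6]), ([7, 6, 1, 7, 2, 5, 2, 0], [0, 0, 5, 6, 1, 6, 0, 0, 0, 3]), ([6, 5, 0, 0, 3, 3, 5, 1, 3], [1, 4, 4, 4, 3, 1, 4, 1, 7]), ([6, 1, 5, 7, 4, 5, 4, 3, 4, 2], [5, 3, 6, 4, 1, 2, 6, 1, 1]), ([0, 4, 0, 2, 2, 5, 4, 5, 0], [2, 5, 0, 6, 4, 4, 7, 0, 2]), ([2, 6, 6, 7, 4, 5, 3, 3, 5, 2], [0, 0, 2, 5, 3, 1, 1, 6, 4, 1]), ([2, 1, 5, 2, 5, 1, 1, 4], [3, 7, 7, 6, 1, 1, 4, 0, 4, 1]), ([1, 4, 3, 4, 0, 5, 1, 1, 4], [0, 6, 0, 4, 2, 0, 5, 2, 0, 3]), ([2, 0, 5, 4, 7, 2, 5, 1, 3], [0, 3, 0, 7, 7, 7, 1, 2, 5, 2]), ([2, 4, 6, 4, 7, 6, 3, 7, 1, 1], [3, 4, 5, 7, 0, 2, 0, 2, 0]), ([0, 5, 6, 7, 6, 2, 2, 2, 0, 0], [4, 4, 4, 5, 4, 4, 4]),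 ([0, 4, 0, 4, 4, 6, 1, 2, 4], [2, 7, 4, 6, 6, 0, 2]), ([2, 6, 3, 0, 6, 1, 3, 5, 0], [2, 4, 0, 6, 7, 7, 5, 7]), ([1, 2, 5, 6, 2, 7, 4, 2, 1], [4, 0, 5, 0, 3, 7, 7, 3, 5, 0]), ([3, 4, 6, 5, 4, 4, 6, 3, 0], [6, 3, 4, 6, 3, 6, 3, 0, 0]), ([4, 7, 6, 7, 0, 0, 4, 7, 2], [7, 5, 7, 0, 2, 2, 2, 1]), ([0, 3, 7, 3, 6, 2, 4, 2, 2, 1], [0, 0, 7, 1, 4, 5, 6, 2, 2, 1]), ([6, 1, 4, 6, 6, 1, 7, 2, 2], [0, 0, 4, 0, 0, 2, 7, 3, 6, 1]), ([0, 7, 2, 0, 6, 5, 7, 2, 1], [3, 0, 0, 3, 1, 7, 3, 3, 1]), ([3, 1, 7, 4, 5, 7, 2, 5, 1], [2, 5, 6, 6, 1, 1, 6, 7, 5, 0]), ([0, 2, 7, 4, 6, 1, 5, 0, 3], [4, 4, 4, 6, 1, 6, 0, 2]), ([7, 0, 7, 4, 3, 6, 7, 7], [5, 4, 5, 4, 4, 5,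 4, 4]), ([0, 2, 7, 0, 7, 2, 1, 7, 1], [0, 0, 7, 2, 5, 7, 5, 0, 3]), ([2, 7, 7, 3, 7, 7, 5, 0, 6, 2], [0, 5, 4, 3, 7, 6, 6, 3, 1]), ([0, 2, 7, 2, 5, 4, 6, 0, 7, 2], [1, 4, 3, 4, 0, 5, 1, 1, 5]), ([3, 6, 4, 1, 2, 6, 1, 1], [0, 5, 0, 2, 1, 2, 6, 2, 5, 2]), ([2, 7, 4, 6, 6, 0, 2], [1, 3, 7, 3, 1, 1, 6, 4, 1, 2]), ([3, 0, 6, 3, 3, 3, 6, 5], [2, 7, 7, 7, 6, 2, 2, 0, 2, 2]), ([4, 5, 6, 4, 0, 5, 0, 5, 1], [1, 4, 1, 4, 5, 7, 3, 1, 1]), ([5, 7, 0, 0, 4, 5, 2, 2, 0, 0], [7, 6, 1, 6, 1, 3, 1, 2, 0]), ([5, 0, 2, 2, 6, 4, 1, 7], [2, 6, 3, 4, 0, 4, 1, 7, 4, 0]), ([0, 2, 5, 2, 7, 4, 4, 3, 1], [6, 6, 4, 4, 4, 6, 6])],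
    [([5, 3, 0, 6, 3, 3, 3, 6], [1, 4, 0, 2, 1, 7, 1, 4]), ([1, 6, 2, 7, 7, 2, 1, 1, 2], [1, 4, 0, 4, 4, 3, 7, 0, 3, 0]), ([0, 0, 0, 6, 6, 4, 4, 5, 2], [4, 5, 4, 5, 4, 4]), ([5, 1, 3, 4, 1, 1, 6, 6, 2], [0, 2, 2, 6, 4, 3, 0, 5, 6]), ([0, 4, 5, 4, 0, 6, 6, 4, 7], [4, 6, 7, 7, 7, 0, 3, 3, 3, 1]), ([3, 5, 1, 1, 3, 5, 6, 1, 1], [0, 7, 7, 3, 0, 5, 0, 7, 1, 1]), ([6, 0, 3, 4, 2, 4, 3, 0, 2], [0, 5, 1, 4, 6, 5, 1, 7, 5, 2]), ([1, 6, 2, 0, 0, 6, 6, 7, 6, 0], [6, 2, 1, 1, 7, 5, 7, 6, 4, 0]), ([2, 6, 0, 4, 6, 6, 5, 7, 1], [6, 5, 4, 0, 3, 5, 3, 7, 0]), ([0, 2, 0, 4, 1, 7, 4, 4, 0], [3, 6, 7, 0, 0, 5, 3, 1, 3]), ([0, 7, 5, 7, 7, 4, 5, 4, 2, 2], [5, 4,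 4, 5, 4, 4, 4]), ([0, 5, 0, 3, 7, 1, 6, 0, 4, 2], [6, 2, 1, 4, 5, 1, 2, 7, 6]), ([1, 5, 7, 4, 7, 3, 0, 6], [3, 3, 0, 7, 0, 0, 7, 1, 5, 0]), ([0, 7, 1, 6, 7, 4, 1, 4, 2], [0, 3, 6, 6, 2, 6, 1, 5, 3, 1]), ([6, 5, 6, 4, 0, 3, 4, 0, 0], [1, 2, 0, 6, 1, 4, 4, 5, 6]), ([1, 1, 4, 2, 0, 7, 3, 5, 3, 1], [1, 6, 6, 3, 3, 3, 5, 4, 5]), ([3, 3, 5, 7, 7, 5, 2, 6], [2, 5, 6, 7, 1, 3, 6, 1, 7, 0]), ([4, 4, 5, 7, 4, 7, 5, 3, 1, 2], [3, 7, 7, 5, 6, 2, 4]), ([3, 7, 0, 7, 7, 4, 4, 3, 0], [0, 4, 7, 6, 7, 1, 6, 7]), ([0, 0, 6, 6, 0, 5, 6, 1, 4, 1], [2, 5, 0, 6, 7, 3, 4, 5, 0, 0]), ([4, 1, 7, 1, 4, 5, 6, 0], [0, 0, 3, 5, 2, 2, 2, 4, 2]), ([6, 7, 7, 7, 5, 4, 6,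 7, 2], [7, 3, 5, 0, 6, 7, 6, 1, 3]), ([0, 7, 3, 0, 6, 2, 7, 7], [4, 4, 5, 4]), ([4, 2, 2, 4, 4, 3, 6, 1], [4, 4, 2, 7, 4, 6, 6, 0, 2]), ([2, 1, 3, 3, 6, 7, 5, 4, 2], [4, 1, 4, 5, 4, 5, 0, 5]), ([2, 1, 1, 7, 7, 1, 7, 7, 7, 0], [3, 5, 6, 4, 7, 6, 5, 2, 1, 2]), ([1, 5, 4, 2, 2, 4, 1, 4], [0, 0, 0, 4, 3, 6, 7, 6, 2]), ([3, 4, 5, 0, 3, 5, 7, 1, 1], [2, 2, 7, 6, 4, 2, 2, 4, 7, 2]), ([2, 7, 5, 2, 0, 2, 0, 5, 2], [6, 7, 0, 7, 6, 1, 6, 3]), ([1, 4, 6, 2, 6, 4, 0, 5, 6], [1, 1, 7, 1, 6, 3, 6, 5, 6, 0]), ([1, 7, 3, 7, 3, 6, 6, 6, 3], [0, 7, 7, 3, 5, 1, 2, 4, 1]), ([4, 4, 5, 4, 4], [1, 6, 6, 3, 1, 7, 2, 5]), ([0, 3, 5, 6, 7, 0, 7, 5, 1], [5, 0, 5, 1,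 6, 6, 4, 3, 0]), ([1, 6, 3, 1, 5, 0, 7, 4, 4, 2], [7, 6, 4, 4, 3, 6, 7]), ([3, 4, 5, 7, 5, 2, 7, 2], [4, 2, 7, 7, 1, 2, 5, 0, 2]), ([7, 3, 3, 6, 7, 4, 3, 5, 0], [4, 5, 4, 4, 4, 4, 5, 4]), ([1, 1, 1, 7, 5, 4, 0, 2], [4, 2, 7, 3, 7, 6, 6, 3, 0, 2]), ([0, 5, 3, 5, 4, 5, 2, 4, 3, 1], [2, 1, 7, 5, 3, 7, 3, 3, 1]), ([0, 0, 7, 7, 3, 0, 6, 2, 5, 0], [6, 0, 5, 2, 1, 7, 4, 2, 1]), ([4, 5, 4, 5, 4, 5, 4], [3, 6, 6, 2, 0, 5, 6, 5, 1]), ([1, 1, 4, 5, 1, 7, 2, 6, 4, 1], [1, 1, 6, 1, 2, 2, 7, 4, 2]), ([0, 0, 3, 7, 0, 4, 5, 0, 2, 2], [3, 6, 4, 1, 5, 0, 4, 1, 3]), ([5, 4, 4, 5, 4, 4, 5], [1, 6, 0, 5, 0, 3, 5, 6, 4]), ([5, 4, 5, 4, 4, 4, 5], [2, 6, 1, 3, 4,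 7, 6, 2, 6]), ([5, 1, 4, 5, 4, 5, 0], [0, 0, 0, 7, 1, 6, 1, 7, 2, 1]), ([6, 6, 5, 4, 3, 6, 6, 6, 2], [1, 6, 1, 6, 1, 6, 6, 2, 1]), ([4, 6, 5, 7, 6, 2, 4, 0, 0], [4, 4, 5, 4, 5, 4, 4]), ([2, 0, 7, 1, 1, 7, 6, 1, 6], [3, 6, 1, 6, 3, 3, 3, 3]), ([1, 3, 3, 4, 6, 0, 7, 3, 6, 0], [4, 1, 5, 2, 5, 3, 6, 7]), ([1, 3, 3, 4, 2, 2, 1, 7, 1], [6, 7, 3, 3, 7, 6, 0, 2, 1]), ([1, 4, 7, 6, 2, 4, 7, 6, 5, 2], [1, 5, 0, 7, 6, 6, 5, 1, 4, 0]), ([1, 3, 7, 1, 4, 3, 0, 7, 0, 2], [2, 2, 6, 3, 1, 3, 1, 3, 6, 0]), ([4, 6, 4, 7, 2, 2, 6, 7, 2, 1], [1, 7, 1, 6, 0, 7, 7, 4, 0]), ([7, 1, 4, 1, 4, 1, 3, 7, 1], [1, 7, 3, 7, 2, 7, 3, 5, 7]), ([6, 0, 3, 6, 7, 1, 6, 7], [5,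 4, 4, 5]), ([3, 3, 7, 7, 7, 4, 4, 1, 2, 1], [0, 7, 5, 3, 1, 4, 2, 6, 1, 2]), ([2, 7, 2, 6, 5, 0, 4, 7], [1, 3, 3, 6, 1, 3, 3, 1, 3]), ([5, 3, 0, 4, 3, 4, 4, 4, 0], [3, 1, 3, 7, 3, 0, 3, 6, 1]), ([2, 0, 2, 2, 7, 0, 3, 5, 3], [1, 7, 4, 3, 0, 0, 3, 0, 4, 0]), ([4, 6, 0, 2, 5, 7, 6, 4, 0], [0, 2, 5, 1, 6, 7, 6, 3]), ([1, 1, 5, 4, 3, 1, 7, 7, 2], [7, 0, 7, 5, 2, 4, 0, 5, 1]), ([1, 1, 5, 3, 6, 6, 1, 6, 0], [2, 4, 2, 0, 0, 4, 2, 5, 4]), ([0, 6, 4, 6, 1, 7, 5, 3, 5], [5, 4, 4, 5, 4, 5]), ([2, 4, 5, 3, 4, 4, 1, 7, 4, 2], [2, 6, 3, 4, 2, 4, 6, 7, 0])],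
    [([5, 7, 4, 7, 5, 3, 1, 2], [1, 4, 3, 4, 0, 5, 1, 1]), ([0, 0, 6, 2, 2, 4, 5, 7, 0], [3, 7, 5, 7, 4, 7, 0, 0]), ([1, 5, 2, 0, 2, 1, 7, 1], [0, 7, 5, 3, 3, 7, 4, 6, 0]), ([2, 5, 2, 0, 2, 5, 4, 3], [0, 0, 4, 6, 2, 6, 6, 6, 0]), ([2, 7, 4, 1, 6, 2, 6, 1, 3], [4, 5, 4, 5]), ([0, 0, 0, 3, 1, 2, 4, 1, 5, 2], [5, 4, 5, 4, 4, 5, 4]), ([2, 6, 4, 3, 5, 7, 0, 2, 0, 3], [6, 0, 0, 3, 1, 4, 1, 5, 0]), ([2, 7, 3, 6, 0, 5, 7, 7, 1], [2, 1, 3, 7, 7, 2, 1, 4, 6, 1]), ([0, 6, 2, 0, 0, 3, 6, 7, 0, 3], [5, 4, 5, 4, 4]), ([1, 6, 4, 4, 3, 7, 5, 3, 7, 0], [3, 7, 3, 3, 1, 7, 6, 1, 3, 1]), ([3, 4, 1, 6, 0, 4, 5, 6, 1], [3, 1, 5, 1, 7, 6, 7, 6, 0]), ([1, 3, 4,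 6, 2, 4, 7, 3, 5, 2], [3, 0, 4, 6, 5, 7, 3, 0]), ([6, 6, 4, 4, 4, 6, 6], [0, 3, 6, 3, 5, 6, 1, 5, 4, 1]), ([0, 0, 0, 4, 6, 2, 1, 4, 7, 3, 1], [4, 5, 4, 5, 4, 5, 4, 5]), ([0, 2, 2, 7, 5, 3, 0, 3, 7, 1], [2, 2, 2, 4, 2, 4, 6, 5, 2]), ([1, 4, 4, 3, 7, 4, 5, 3, 5, 1], [4, 4]), ([0, 4, 7, 1, 4, 2, 5, 6, 5, 2], [2, 2, 0, 6, 3, 1, 2, 0, 3]), ([7, 1, 7, 6, 3, 0, 3, 4, 2], [1, 4, 3, 0, 0, 0, 4, 2, 2, 2]), ([0, 2, 4, 0, 2, 5, 4, 0, 6, 0], [2, 7, 7, 4, 7, 7, 5, 7, 1, 1]), ([1, 1, 7, 4, 4, 3, 3, 0, 6, 2], [1, 4, 3, 4, 4, 5, 3, 4, 0, 3]), ([4, 2, 1, 5, 2, 5, 1, 1], [4, 6, 1, 6, 0, 2, 5]), ([7, 3, 5, 4, 6, 5, 6, 1, 2], [1, 3, 3, 7, 3, 0, 3, 7]), ([6, 2,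 5, 1, 1, 5, 0, 2, 7, 0], [5, 4, 4, 6, 1, 6, 0, 2]), ([1, 3, 0, 7, 3, 0, 0, 0, 0], [1, 6, 6, 2, 4, 5, 2, 7, 5]), ([1, 4, 4, 2, 1, 4, 1, 4, 7, 0], [0, 4, 0, 0, 4, 0, 7, 3, 6, 2]), ([1, 5, 2, 2, 1, 5, 1, 3, 4, 2], [1, 4, 5, 4, 5, 0, 4, 5]), ([0, 7, 0, 5, 2, 1, 5, 6, 4, 0], [4, 4, 4, 5, 4, 5, 4]), ([2, 0, 7, 5, 1, 4, 4, 1], [2, 6, 3, 3, 0, 2, 7, 1, 5, 2]), ([0, 2, 4, 3, 1, 7, 0, 6, 1, 2], [7, 3, 4, 0, 6, 4, 7, 6, 0]), ([0, 4, 1, 7, 1, 4, 7, 4, 1], [0, 4, 2, 0, 4, 6, 4, 3, 0, 2]), ([0, 4, 4, 7, 0, 6, 6, 6, 3], [3, 3, 5, 7, 7, 5, 2, 6]), ([4, 5, 0, 0, 5, 3, 5, 0, 3], [4, 2, 1, 4, 2, 4, 3, 3, 1]), ([6, 2, 4, 1, 5, 2, 6, 4, 0], [0, 5, 1, 1, 1, 3,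 6, 3, 0, 3]), ([3, 0, 2, 2, 6, 1, 3, 4, 2], [7, 0, 2, 7, 4, 1, 1, 7, 2]), ([3, 6, 4, 4, 2, 7, 2, 6, 5, 1], [4, 4, 4, 4, 5, 4, 5]), ([6, 2, 7, 6, 0, 0, 2, 1], [0, 4, 6, 1, 5, 7, 2, 0, 2]), ([0, 7, 4, 3, 7, 4, 2, 7, 7, 0], [4, 1, 2, 0, 6, 7, 2, 7, 5, 1]), ([0, 5, 2, 4, 4, 3, 3, 6, 0, 0], [0, 7, 5, 1, 2, 6, 7, 5, 1]), ([0, 3, 4, 3, 7, 5, 0, 6, 6, 2], [0, 2, 0, 6, 2, 5, 2, 0, 0]), ([3, 7, 6, 4, 3, 3, 5, 3], [1, 5, 6, 5, 2, 4, 1, 7, 7, 1]), ([1, 3, 5, 7, 3, 4, 6, 0, 2, 2], [4, 5, 4, 4, 4, 4]), ([4, 2, 4, 7, 1, 4, 3, 7], [2, 5, 4, 4, 7, 2, 5]), ([3, 1, 3, 7, 3, 0, 3, 6, 1], [2, 1, 2, 7, 7, 2, 1, 6, 1, 3]), ([2, 5, 6, 3, 5, 7, 5, 1, 2], [2, 6, 0,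 6, 5, 7, 7, 4, 2]), ([1, 6, 3, 7, 0, 3, 4, 6, 5, 1], [5, 4, 5, 4, 5, 4, 4]), ([6, 3, 0, 7, 2, 1, 3, 6], [0, 6, 6, 6, 6, 6, 1, 4]), ([5, 1, 5, 4, 2, 1, 2, 7, 1], [2, 7, 4, 0, 4, 3, 6, 4, 2]), ([6, 6, 0, 6, 7, 4, 5, 6, 2], [5, 1, 6, 6, 3, 1, 7, 2]), ([0, 6, 1, 2, 7, 2, 5, 4, 1, 3], [3, 4, 7, 5, 3, 3, 3, 4, 1]), ([5, 2, 4, 5, 6, 5, 4, 3, 0], [3, 4, 3, 4, 2, 2, 2, 4]), ([5, 3, 7, 6, 5, 6, 5, 7, 2], [2, 0, 5, 4, 5, 0, 2, 1, 3]), ([7, 3, 0, 3, 7, 3, 7, 5, 2], [6, 6, 2, 0, 5, 4, 4, 0, 0]), ([3, 6, 3, 5, 1, 7, 7, 5, 1], [0, 0, 5, 3, 5, 0, 3, 5]), ([2, 5, 2, 7, 7, 1, 2, 1, 5, 1], [5, 3, 6, 7, 0, 2, 0, 5, 1, 2]), ([1, 4, 0, 2, 1, 3, 4, 3], [2, 4, 5,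 6, 6, 5, 2, 1, 1, 3]), ([1, 2, 4, 2, 5, 2, 5, 3, 6], [1, 2, 6, 0, 2, 2, 7, 2, 0]), ([1, 2, 1, 4, 2, 4, 3, 5, 2, 2], [2, 4, 4, 2, 2, 0, 2, 2, 2]), ([0, 4, 4, 3, 4, 4, 5, 2, 2], [1, 5, 4, 7, 6, 6, 2, 2, 1]), ([0, 2, 5, 4, 1, 6, 6, 0, 3], [0, 3, 3, 7, 0, 7, 5, 4, 0, 2]), ([0, 0, 0, 6, 2, 2, 5, 3, 1], [5, 4, 5, 4, 4, 4]), ([2, 6, 0, 2, 1, 4, 2, 2, 1], [1, 1, 4, 3, 1, 7, 4, 6, 1, 1]), ([5, 6, 3, 7, 0, 4, 3, 7, 1], [4, 4, 6, 1, 6, 0, 2, 5]), ([0, 5, 3, 0, 0, 0, 7, 6, 7, 2], [4, 5, 4, 5, 4, 5]), ([0, 2, 2, 1, 7, 0, 5, 3, 3], [5, 2, 5, 4, 4, 7, 2, 5])],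
    [([0, 6, 5, 1, 3, 1, 4, 7, 1], [2, 2, 2, 4, 7, 2, 7, 1]), ([6, 5, 2, 4, 7, 4, 6, 5, 2], [0, 5, 2, 0, 4, 4, 2, 2, 0]), ([0, 5, 6, 3, 6, 1, 6, 2, 4, 1], [0, 7, 7, 2, 7, 6, 1, 7, 1]), ([1, 7, 5, 4, 5, 0, 4, 2, 6, 0], [0, 6, 3, 6, 6, 7, 3, 0, 6, 1]), ([3, 1, 3, 4, 4, 0, 7, 6], [1, 6, 4, 7, 6, 2, 2, 2, 6, 0]), ([4, 6, 3, 4, 0, 6, 6, 3, 6], [5, 4, 4, 4]), ([3, 0, 2, 7, 4, 6, 4, 7, 1], [0, 3, 5, 2, 7, 7, 7, 5, 6]), ([7, 4, 1, 7, 6, 3, 1, 3, 0], [6, 7, 0, 0, 3, 0, 3, 6, 2]), ([1, 6, 4, 1, 6, 2, 6, 6, 6, 0], [0, 2, 5, 4, 0, 4, 5, 6, 3]), ([2, 2, 0, 6, 0, 0, 3, 1, 2], [4, 5, 4, 4, 4, 5, 4, 4]), ([1, 3, 5, 0, 6, 6, 0, 2, 1, 2], [0, 4, 2, 1, 3, 4,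 7, 7, 4, 1]), ([0, 3, 0, 6, 3, 3, 5, 0, 0, 3], [5, 4, 4, 5, 4, 4, 5, 4]), ([4, 4, 6, 2, 4, 0, 0, 6, 0], [5, 4, 2, 7, 4, 6, 6, 0, 2]), ([3, 4, 5, 3, 1, 4, 3, 0, 0], [0, 4, 3, 1, 6, 4, 4, 5, 4]), ([1, 5, 2, 7, 5, 2, 6, 0, 4, 2], [1, 2, 4, 3, 0, 6, 0, 5, 6, 1]), ([0, 7, 4, 4, 0, 5, 4, 5, 2, 2], [1, 2, 5, 1, 7, 3, 0, 7, 5, 0]), ([2, 2, 7, 2, 0, 7, 4, 5], [2, 1, 2, 5, 6, 6, 3, 6, 2]), ([2, 4, 7, 0, 4, 4, 0], [4, 5, 4, 4, 4]), ([4, 6, 0, 4, 2, 0, 2, 5, 4], [0, 7, 7, 3, 0, 2, 1, 7]), ([4, 2, 2, 2, 7, 1, 6, 2, 2], [0, 6, 6, 7, 3, 7, 1, 6, 0]), ([4, 1, 4, 6, 6, 4, 2, 5, 2], [0, 7, 0, 2, 6, 3, 6, 1, 4, 0]), ([4, 2, 4, 1, 3, 4, 6, 7, 2], [1, 2, 2, 4,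 0, 6, 0, 0, 5, 1]), ([5, 2, 1, 4, 4, 7, 6, 3], [1, 3, 1, 1, 6, 4, 5, 3, 1]), ([7, 0, 0, 0, 4, 2, 2, 4, 1], [2, 7, 2, 6, 7, 5, 6, 3, 0, 0]), ([2, 6, 2, 2, 4, 6, 5, 2, 0], [0, 4, 4, 4, 4, 5, 7, 7, 6, 0]), ([3, 4, 4, 6, 4, 4, 6, 7, 1], [1, 3, 3, 4, 6, 1, 3, 7, 1]), ([2, 1, 6, 6, 6, 5, 3, 7, 5, 1], [0, 4, 7, 5, 1, 4, 7, 4, 7]), ([2, 0, 2, 6, 7, 7, 5, 3, 5, 0], [5, 6, 2, 7, 7, 4, 4, 6, 0]), ([0, 0, 2, 4, 3, 3, 4, 5, 2], [4, 5, 2, 7, 4, 4, 6, 6]), ([1, 6, 6, 2, 4, 5, 2, 7], [2, 7, 0, 5, 7, 4, 7, 1]), ([7, 7, 5, 3, 7, 4, 2, 7, 1], [0, 3, 7, 6, 5, 1, 3, 1, 3, 1]), ([1, 6, 1, 7, 7, 4, 2, 0], [1, 5, 2, 1, 4, 3, 6, 6, 3, 1]), ([2, 6, 5, 1, 2, 5, 0,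 2, 2], [2, 7, 3, 0, 7, 0, 6, 4, 7, 0]), ([7, 5, 4, 7, 0, 6, 2, 2], [4, 4, 4, 4, 4]), ([1, 1, 3, 3, 0, 6, 3, 3, 7], [1, 1, 2, 4, 6, 7, 3, 5, 6, 1]), ([6, 5, 7, 6, 3, 6, 0, 7, 2], [4, 5, 2, 7, 4, 6, 6, 0, 2]), ([3, 4, 4, 1, 6, 7, 4, 1, 4, 2], [4, 6, 2, 5, 3, 7, 5, 4, 1, 1]), ([7, 6, 3, 4, 2, 6, 6, 2], [6, 7, 6, 1, 6, 3, 0, 2, 1]), ([1, 6, 4, 2, 7, 5, 4, 6, 1], [2, 6, 5, 3, 1, 6, 2, 6, 6, 2]), ([6, 4, 3, 0, 5, 6, 5, 2, 1], [0, 0, 7, 4, 5, 7, 2, 6, 4]), ([3, 1, 7, 3, 0, 7, 1, 7], [5, 4, 4, 4, 4, 4, 5, 4]), ([3, 3, 7, 1, 6, 5, 2, 2], [0, 5, 4, 6, 4, 4, 2, 1, 1]), ([4, 0, 0, 6, 3, 4, 4, 1], [6, 6, 5, 3, 6, 2, 1, 3]), ([0, 7, 1, 2, 2, 6, 7, 4, 5],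 [1, 6, 3, 3, 7, 0, 7, 7, 2]), ([0, 3, 0, 3, 6, 7, 1, 4, 0], [2, 4, 6, 2, 2, 5, 0, 4, 1]), ([0, 0, 2, 4, 4, 7], [4, 5, 4, 5, 4, 4, 4]), ([0, 0, 7, 1, 4, 5, 6, 2, 2, 1], [2, 6, 7, 4, 2, 0, 3, 0, 3]), ([0, 2, 0, 2, 0, 7, 1, 7, 5, 2], [4, 4, 7, 7, 2, 0, 3, 7, 0, 0]), ([1, 7, 3, 6, 5, 2, 5, 6, 3, 1], [3, 7, 6, 1, 6, 3, 6, 6]), ([3, 1, 2, 7, 2, 4, 5, 7, 0], [0, 6, 3, 4, 5, 0, 7, 6, 2, 1]), ([2, 4, 4, 5, 2, 7, 1, 5, 1], [5, 7, 3, 4, 0, 0, 2, 6]), ([7, 3, 6, 0, 7, 2, 5, 6], [0, 0, 2, 7, 7, 1, 1, 2, 7]), ([4, 7, 3, 7, 0, 2, 4, 1, 3], [2, 5, 1, 3, 6, 7, 1, 3, 6]), ([0, 4, 0, 2, 1, 4, 1, 5, 7, 2], [1, 3, 4, 3, 3, 7, 2, 6, 6]), ([5, 6, 0, 4, 2, 0, 2],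 [0, 6, 6, 7, 1, 3, 7, 7, 4, 2]), ([1, 1, 7, 2, 2, 7, 2, 1, 2], [3, 4, 6, 7, 5, 7, 6, 1, 6, 0]), ([3, 1, 1, 6, 0, 4, 6], [7, 2, 0, 6, 2, 0, 6, 1]), ([1, 5, 3, 3, 3, 1, 6, 1, 4, 0], [0, 4, 4, 0, 2, 0, 7, 6, 0]), ([0, 6, 7, 7, 4, 0, 7, 6, 4, 1], [1, 4, 5, 6, 0, 2, 5, 6, 3, 0]), ([4, 5, 4, 4, 4, 4, 5, 4], [1, 1, 5, 4, 4, 4, 0, 3, 7, 2]), ([0, 2, 2, 6, 6, 5, 0, 7, 2, 0], [2, 7, 4, 4, 6, 6, 5]), ([0, 0, 7, 5, 1, 6, 0, 4, 3, 0], [5, 3, 7, 6, 1, 2, 1, 7, 0]), ([1, 4, 0, 3, 5, 4, 2, 4, 1, 1], [0, 4, 3, 1, 6, 1, 4, 1, 7, 2]), ([1, 2, 2, 4, 0, 5, 6, 7, 0], [1, 6, 0, 7, 7, 6, 2, 7, 1, 3])],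
    [([4, 5, 2, 6, 3, 5, 7, 4, 2], [0, 2, 1, 5, 6, 1, 7, 0, 0, 0]), ([0, 3, 4, 1, 6, 7, 7, 6, 2], [0, 7, 3, 3, 6, 1, 2, 5, 3]), ([1, 5, 4, 4, 5, 7, 6, 2, 0], [0, 6, 1, 4, 5, 6, 6, 3, 1]), ([2, 7, 6, 2, 1, 2, 6, 2, 1, 3], [4, 5, 4, 2, 5, 4, 4, 7, 2]), ([6, 0, 4, 1, 4, 3, 4, 1], [4, 5, 4, 4]), ([1, 6, 6, 7, 7, 6, 3, 0, 7, 2], [0, 2, 6, 2, 2, 4, 6, 2, 4]), ([0, 0, 3, 3, 3, 3, 6, 0, 2], [0, 6, 6, 4, 1, 6, 1, 1, 5]), ([4, 6, 5, 3, 6, 2, 1, 1, 2], [6, 3, 3, 6, 7, 4, 0, 3, 0]), ([2, 2, 1, 2, 7, 6, 0], [4, 5, 4, 4, 4, 4, 5]), ([0, 6, 5, 0, 6, 1, 7, 2], [3, 6, 4, 1, 2, 6, 1, 1]), ([0, 0, 6, 2, 0, 7, 2, 1, 4], [4, 4, 5, 4, 5]), ([6, 2, 0, 0, 6, 0,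 6], [4, 3, 1, 7, 2, 2, 7, 7]), ([3, 0, 7, 1, 6, 1, 5, 7, 2, 0], [1, 4, 4, 4, 5, 2, 4, 5, 1]), ([6, 3, 6, 7, 7, 7, 2, 2], [3, 6, 7, 0, 7, 6, 7, 3]), ([6, 5, 3, 7, 3, 0, 2, 5, 4, 0], [1, 6, 6, 0, 7, 0, 2, 5, 1]), ([6, 2, 6, 3, 3, 5, 0, 2, 2], [0, 7, 4, 5, 0, 2, 7, 4, 1]), ([0, 6, 1, 7, 0, 2, 2, 4, 7], [2, 7, 5, 4, 0, 3, 3, 7, 2]), ([0, 4, 3, 4, 3, 5, 0, 2, 6], [1, 2, 2, 0, 7, 7, 6, 4, 1]), ([2, 5, 7, 1, 6, 2, 6, 1, 2, 2], [6, 3, 6, 6, 0, 5, 6, 1, 3]), ([4, 4, 1, 4, 5, 4, 5, 0], [1, 1, 4, 0, 2, 5, 7, 4, 4]), ([4, 4, 4, 4, 5, 4, 4, 5], [7, 2, 4, 7, 1, 2, 4, 3]), ([0, 3, 4, 5, 7, 0, 4, 5, 2], [3, 6, 0, 2, 5, 4, 0, 7, 2]), ([3, 7, 3, 1, 4, 3, 3,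 1, 1], [1, 6, 4, 1, 5, 6, 3, 0, 5, 1]), ([4, 5, 4, 4, 5, 4, 4, 4], [0, 2, 0, 4, 6, 3, 5, 4, 6]), ([2, 6, 2, 5, 4, 7, 5, 7, 0], [4, 4, 5, 4, 4]), ([4, 6, 4, 0, 3, 3, 6, 2, 0], [2, 0, 2, 5, 6, 0, 0, 7, 3, 0]), ([7, 0, 6, 4, 3, 3, 7, 0], [1, 7, 6, 4, 2, 7, 6, 7, 6, 2]), ([6, 5, 2, 5, 0, 5, 1, 3, 6, 1], [0, 6, 6, 2, 4, 4, 2, 7]), ([3, 3, 5, 0, 4, 3, 7, 4, 3, 1], [5, 4, 4, 4, 5, 4]), ([0, 4, 1, 6, 5, 4, 6, 6], [3, 1, 7, 3, 7, 0, 4, 5, 0]), ([4, 4, 4, 5, 4], [0, 7, 5, 2, 7, 3, 0, 5, 1]), ([0, 3, 4, 0, 7, 3, 6, 5, 7, 1], [4, 0, 7, 4, 4, 4, 4, 2]), ([0, 3, 7, 5, 7, 6, 6, 2, 7], [1, 1, 3, 5, 3, 4, 6, 4, 2]), ([0, 2, 0, 4, 6, 7, 2, 1, 6, 2], [5, 2,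 2, 7, 2, 0, 7, 4]), ([3, 1, 6, 1, 6, 2, 2, 5, 1], [4, 3, 7, 6, 1, 2, 1, 7, 0]), ([3, 4, 3, 0, 2, 1, 5, 3], [7, 3, 3, 4, 6, 1, 6, 0, 3]), ([7, 0, 3, 0, 2, 5, 4, 1], [2, 1, 7, 6, 6, 5, 7, 4, 2]), ([1, 6, 0, 0, 4, 3, 1, 6, 0], [5, 3, 7, 5, 7, 4, 7, 0, 0]), ([1, 1, 6, 3, 5, 3, 5, 0, 3], [5, 4]), ([5, 4, 7, 2, 1, 5, 7, 4, 0], [7, 7, 0, 0, 2, 6, 5, 4]), ([1, 1, 2, 0, 4, 7, 2, 0, 6, 1], [6, 2, 2, 5, 0, 4, 4, 6, 1]), ([7, 0, 4, 4, 7, 0, 4, 2, 2], [0, 3, 1, 1, 3, 6, 1, 7, 5, 2]), ([0, 0, 2, 4, 0, 5, 4, 2, 2], [4, 2, 7, 4, 6, 6, 0, 2]), ([2, 1, 2, 4, 3, 5, 4, 1, 5, 0], [1, 4, 5, 1, 3, 3, 3, 1, 2]), ([2, 1, 6, 6, 2, 6, 6, 1, 7], [0, 6, 1, 7, 2, 7, 4,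 1, 2]), ([7, 2, 5, 7, 6, 7, 6, 4, 2], [1, 5, 2, 7, 5, 1, 3, 7, 6, 0]), ([5, 4, 4, 4, 5, 4, 5], [2, 7, 7, 1, 2, 5, 0, 2]), ([5, 4, 4, 4, 4, 5, 4, 4], [6, 1, 2, 0, 2, 6, 1, 1, 1]), ([1, 2, 2, 7, 7, 7, 5, 7, 5, 1], [1, 1, 2, 6, 6, 6, 5, 0]), ([0, 7, 2, 1, 4, 1, 6, 3], [6, 7, 2, 1, 7, 7, 2, 4, 2]), ([1, 1, 1, 3, 5, 2, 4, 6, 1, 1], [2, 4, 3, 0, 7, 3, 7, 7, 0, 3]), ([7, 5, 7, 2, 4, 4, 5, 2, 1], [0, 3, 4, 5, 0, 6, 6, 6, 6, 1]), ([0, 4, 5, 3, 6, 5, 4, 6, 1, 2], [4, 4, 4]), ([0, 5, 4, 4, 0, 2, 7, 5, 2], [3, 3, 0, 0, 4, 7, 0, 4]), ([0, 0, 4, 3, 3, 1, 1, 6, 1, 2], [0, 0, 7, 5, 1, 2, 4, 0, 5, 1]), ([3, 4, 7, 0, 2, 2, 1, 5, 2, 2], [4, 4, 4, 5, 4, 4]),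 ([2, 2, 1, 6, 4, 7, 2, 5, 0], [1, 1, 1, 6, 6, 7, 6, 3, 6]), ([6, 3, 1, 4, 0, 2, 7, 6, 4], [1, 5, 7, 2, 2, 7, 5, 2]), ([2, 7, 1, 5, 0, 4, 4, 6], [4, 7, 7, 2, 0, 3, 7, 0, 0]), ([0, 0, 6, 3, 4, 4, 1, 4], [3, 4, 4, 0, 0, 2, 5, 2]), ([0, 2, 4, 3, 4, 0, 7, 0, 2], [6, 4, 6, 6, 3, 5, 3, 6, 1]), ([5, 2, 6, 3, 0, 3, 1, 7, 1], [6, 3, 1, 6, 5, 6, 7, 7, 1]), ([1, 5, 4, 4, 0, 6, 2, 0], [0, 3, 5, 3, 0, 4, 6, 1, 6]), ([1, 4, 5, 4, 5, 0, 4, 4], [5, 6, 1, 6, 0, 2])],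
    [([3, 3, 0, 6, 6, 2, 0, 5, 1], [2, 7, 5, 0, 0, 6, 2, 2, 0]), ([2, 5, 1, 4, 2, 4, 5, 3], [2, 4, 0, 0, 4, 1, 3, 3, 3]), ([1, 7, 6, 2, 7, 3, 0, 7, 2], [7, 2, 2, 2, 2, 5, 4, 4, 3, 0]), ([7, 2, 2, 0, 3, 7, 7, 6], [4, 4, 4, 4, 6, 1, 6, 0, 2]), ([0, 7, 6, 6, 4, 6, 6, 7, 6, 2], [0, 4, 5, 4, 3, 7, 4, 6, 1]), ([1, 1, 4, 7, 3, 3, 3, 5, 3], [1, 2, 5, 6, 7, 0, 3, 0, 2, 1]), ([0, 2, 1, 1, 3, 0, 3, 5, 2, 1], [3, 4, 1, 7, 6, 1, 4, 4, 2]), ([1, 3, 7, 6, 0, 5, 7, 0], [0, 2, 4, 3, 1, 7, 0, 6, 1, 2]), ([7, 2, 7, 3, 0, 2, 2, 4, 1], [2, 7, 4, 0, 5, 7, 4, 0, 0, 2]), ([2, 1, 3, 0, 7, 7, 4, 2], [2, 0, 2, 6, 7, 7, 7, 1, 4]), ([7, 5, 7, 1, 7, 4, 4, 5, 1], [0, 7,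 6, 3, 6, 3, 4, 7]), ([2, 0, 0, 7, 6, 3, 4, 2], [2, 7, 4, 3, 1, 6, 6, 4, 2]), ([0, 4, 7, 2, 2, 0, 2, 0, 5, 2], [4, 4, 4, 4, 5]), ([4, 1, 1, 3, 5, 3, 4, 6, 4, 2], [6, 7, 2, 1, 7, 1, 1, 3, 1]), ([4, 1, 1, 5, 1, 7, 7, 6, 2], [7, 3, 5, 6, 5, 0, 6, 2]), ([0, 3, 7, 7, 5, 7, 5, 2, 5], [2, 1, 7, 7, 5, 4, 0, 2, 4, 0]), ([0, 7, 5, 1, 4, 5, 6, 7, 0], [0, 5, 2, 7, 7, 2, 7, 1, 5, 2]), ([2, 7, 2, 4, 4, 0, 5, 4, 0], [0, 0, 6, 1, 6, 1, 5, 1, 5, 1]), ([4, 0, 5, 4, 7, 5, 2, 4, 2], [6, 4, 4, 0, 5, 3, 5]), ([0, 7, 7, 2, 7, 6, 1, 7, 1], [5, 4, 0, 7, 4, 4, 4, 4, 2]), ([0, 5, 1, 4, 3, 3, 4, 2, 0], [1, 6, 4, 5, 6, 7, 1, 7, 2]), ([0, 2, 1, 3, 3, 7, 4, 0, 5, 2], [1,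 6, 2, 4, 3, 6, 0, 7, 1]), ([3, 1, 6, 6, 2, 4, 5, 7, 0], [5, 3, 7, 5, 6, 7, 6, 5, 0]), ([1, 1, 5, 1, 7, 0, 6, 1, 3], [3, 6, 2, 2, 1, 5, 2, 1, 1]), ([1, 7, 6, 4, 7, 2, 7], [4, 4, 4, 5, 4, 4, 5]), ([5, 4, 4], [4, 4, 1, 6, 6, 3, 1, 7, 2]), ([3, 1, 3, 3, 3, 7, 3, 7, 6, 2], [3, 0, 4, 7, 7, 7, 3, 6, 1]), ([4, 6, 6, 6, 3, 4, 1, 2, 4, 0], [6, 6, 2, 5, 2, 5, 6, 6, 2]), ([0, 5, 4, 4, 3, 1, 4, 1, 2, 0], [4, 4, 5, 2, 5, 4, 4, 7, 2]), ([4, 3, 1, 2, 7, 0, 7, 2, 1], [1, 2, 4, 0, 7, 4, 4, 1, 1]), ([0, 3, 4, 0, 7, 0, 3, 1, 6, 0], [4, 4, 4, 4, 5, 4, 4, 5]), ([0, 7, 7, 6, 2, 1, 1, 3, 5, 0], [0, 7, 7, 5, 3, 0, 0, 6, 3, 0]), ([0, 5, 0, 0, 4, 6, 0, 0, 2], [0, 3,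 1, 4, 4, 2, 5, 4, 6]), ([1, 4, 2, 4, 4, 0, 7, 0], [7, 3, 7, 1, 7, 3, 6, 6, 0]), ([6, 6, 4, 3, 0, 6, 4, 7, 1], [6, 1, 3, 4, 0, 6, 3, 7, 2]), ([3, 0, 6, 6, 3, 0, 7, 5, 6, 1], [2, 1, 2, 4, 2, 7, 7, 0, 2]), ([7, 5, 1, 2, 4, 4, 1, 3], [2, 6, 1, 6, 1, 4, 3, 5, 0, 0]), ([1, 6, 7, 1, 5, 1, 6, 5, 7], [5, 4, 5, 2, 5, 4, 4, 7, 2]), ([7, 5, 4, 6, 4, 4, 7, 6, 1], [0, 7, 0, 4, 4, 4, 0, 0, 0]), ([0, 3, 6, 2, 4, 4, 3, 1, 4, 2], [2, 5, 4, 4, 1, 1, 1, 4, 5, 2]), ([0, 0, 3, 7, 4, 0, 2, 5, 4], [5, 4, 4, 5, 4, 5, 4, 4]), ([5, 0, 5, 4, 4, 4, 6, 4, 0], [4, 4, 4, 5, 4, 4, 4, 5]), ([4, 0, 0, 6, 4, 1, 6, 0, 5, 0], [0, 0, 2, 1, 2, 2, 4, 3, 0, 0]), ([2, 6, 1, 2, 2,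 5, 7, 4, 1], [3, 1, 1, 6, 2, 1, 7, 6, 7, 1]), ([0, 7, 3, 6, 3, 1, 1, 1, 2, 1], [5, 7, 2, 6, 6, 6, 5, 4, 4, 1]), ([7, 0, 6, 4, 7, 5, 6, 5, 2], [0, 2, 2, 1, 7, 0, 5, 3, 3]), ([6, 2, 5, 0, 2, 2, 4, 3, 4, 1], [3, 5, 6, 3, 7, 5, 2, 4, 0, 2]), ([5, 2, 4, 2, 7, 5, 6, 2, 6, 1], [1, 2, 2, 4, 6, 4, 5, 4, 7, 2]), ([0, 6, 1, 3, 7, 1, 3, 6, 0], [7, 7, 6, 1, 7, 3, 6, 3]), ([3, 7, 5, 0, 5, 6, 4, 2, 4, 2], [4, 5, 4, 5, 4, 4, 4, 5]), ([1, 6, 3, 0, 7, 7, 1, 4, 2], [1, 6, 6, 3, 3, 3, 5, 4]), ([2, 0, 7, 4, 6, 0, 0, 0, 3], [2, 2, 7, 2, 0, 7, 4, 5]), ([5, 0, 3, 7, 7, 5, 7, 5, 2], [0, 4, 0, 5, 7, 4, 2, 2, 6, 0]), ([0, 2, 2, 6, 4, 1, 7, 5], [1, 3, 7, 7, 3, 3, 0,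 0, 0, 3]), ([0, 3, 3, 1, 1, 4, 0, 4, 7], [2, 7, 4, 4, 6, 6, 5, 4]), ([5, 1, 6, 6, 2, 5, 0, 0, 0], [6, 2, 7, 5, 2, 7, 1, 7, 2]), ([1, 4, 1, 7, 7, 1, 4, 5, 2], [0, 0, 2, 7, 6, 7, 7, 0, 0, 0]), ([5, 7, 1, 4, 2, 4, 7, 7], [0, 2, 7, 4, 6, 7, 3, 6, 6, 2]), ([2, 7, 3, 4, 1, 7, 1, 4, 4, 0], [0, 2, 5, 3, 5, 4, 0, 3, 4, 1]), ([0, 0, 4, 2, 7, 1, 6, 5, 0], [4, 4, 5, 4, 5, 4, 4, 5]), ([1, 3, 5, 6, 6, 5, 1, 2, 6, 2], [0, 3, 0, 6, 4, 2, 0, 2, 7, 2]), ([1, 4, 2, 1, 7, 5, 3, 1, 3], [3, 5, 1, 5, 4, 2, 4, 0, 2, 0]), ([4, 2, 6, 3, 5, 7, 4, 2], [7, 0, 2, 4, 6, 3, 3, 3, 0]), ([4, 4, 6, 5, 1, 6, 2, 5, 2], [4, 5])]]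

/-- a table -/
def xConjs : List (List (List ℕ × List ℕ)) :=
  xConjs0 ++ xConjs1

end Cfsg.Agent.J3Invol
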