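import Cfsg.Agent.Lib.J3Invol.Words
import Cfsg.Agent.Lib.J3Invol.Table
import Cfsg.Agent.Lib.J3Invol.ClassData
import Cfsg.Agent.Lib.Perm.FixedConjBound
import Mathlib.GroupTheory.SpecificGroups.Alternating

/-! The centraliser of an involution: a table of 1920 elements with images in the alternating group of degree 5. -/

set_option autoImplicit false
set_option maxRecDepth 100000
set_option Elab.async false

namespace Cfsg.Agent.J3Invol

open Cfsg.Agent.PermAut (getTbl)
open Cfsg.Agent.PermCert (allBelow allBelow_spec)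
open Cfsg.Agent.RigidGraph (cntB cntB_eq_fin)
open Cfsg.Agent.RigidGraph.J3 (j3Group card_j3Group)

attribute [local irreducible] lets wordVal

/-- an entry -/
def entry (i : ℕ) : List ℕ × List ℕ := getTbl entries i ([], [])

/-- a field of an entry -/
def fld (i j : ℕ) : ℕ := (entry i).2.getD j 0

/-- the word of an entry -/
def eWord (i : ℕ) : List ℕ := (entry i).1

/-- the images of the four points under an entry -/
def eKey (i : ℕ) : List ℕ := keyOf (eWord i)

/-- a generator -/
def wG (g : ℕ) : List ℕ := wGens.getD g []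

/-- the images of five points under a generator -/
def gImg (g v : ℕ) : ℕ := ([[1, 0, 3, 2, 4], [2, 1, 4, 3, 0], [0, 1, 2, 3, 4]].getD g []).getD v 0

/-- the images of five points under an entry -/
def sImg (i v : ℕ) : ℕ := fld i 6 / 5 ^ v % 5

/-- one step of the table -/
def stepOK (i : ℕ) : Bool :=
  okWord (eWord i) &&
  allBelow (fun g => Nat.blt (fld i g) 1920 && eKey (fld i g) == (eKey i).map (evW (wG g)) &&
    allBelow (fun v => Nat.beq (sImg (fld i g) v) (gImg g (sImg i v))) 5) 3 &&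
  (Nat.beq i 0 || (Nat.blt (fld i 3) i && Nat.blt (fld i 4) 3 && Nat.beq (fld (fld i 3) (fld i 4)) i)) &&
  Nat.blt (fld i 5) 1920 && Nat.beq (fld (fld i 5) 7) i &&
  (!Nat.blt i 60 || (Nat.blt (fld i 0) 60 && Nat.blt (fld i 1) 60 && (Nat.beq i 0 || Nat.blt (fld i 4) 2)))

/-- the order of the codes -/
def monoOK (lo : ℕ) : Bool :=
  Nat.blt (codeOf (eKey (fld lo 7))) (codeOf (eKey (fld (lo + 1) 7)))

/-- the first sixty entries have different images -/
def sigInjOK : Bool := allBelow (fun i => allBelow (fun j => Nat.beq i j || !Nat.beq (fld i 6) (fld j 6)) 60) 60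

/-- the starts -/
def startOK : Bool :=
  okWord wS && allBelow (fun g => okWord (wG g) && commOK (wG g) wS) 3 && eKey 0 == base &&
  allBelow (fun v => Nat.beq (sImg 0 v) v) 5 && keyOf (wS ++ wS) == base && !(keyOf wS == base)

theorem steps0 : allBelow stepOK 960 = true := by decide +kernel

theorem steps1 : allBelow (fun i => stepOK (960 + i)) 960 = true := by decide +kernel

theorem monos_ok : allBelow monoOK 1919 = true := by decide +kernel

theorem sigInj_ok : sigInjOK = true := by decide +kernel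

theorem start_ok : startOK = true := by decide +kernel

theorem step_all : ∀ i < 1920, stepOK i = true := by
  intro i hi
  by_cases h : i < 960
  · exact allBelow_spec _ _ steps0 i h
  · have := allBelow_spec _ _ steps1 (i - 960) (by omega)
    rwa [show 960 + (i - 960) = i by omega] at this

theorem start_spec : (∀ a ∈ wS, a < 8) ∧
    (∀ g < 3, (∀ a ∈ wG g, a < 8) ∧ wordVal (wG g) * wordVal wS = wordVal wS * wordVal (wG g)) ∧
    eKey 0 = base ∧ (∀ v < 5, sImg 0 v = v) ∧ keyOf (wS ++ wS) = base ∧ keyOf wS ≠ base := by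
  have h := start_ok
  simp only [startOK, Bool.and_eq_true, Bool.not_eq_true', beq_eq_false_iff_ne, beq_iff_eq] at h
  obtain ⟨⟨⟨⟨⟨h1, h2⟩, h3⟩, h4⟩, h5⟩, h6⟩ := h
  have hs := okWord_mem h1
  refine ⟨hs, fun g hg => ?_, h3, fun v hv => Nat.beq_eq ▸ allBelow_spec _ _ h4 v hv, h5, h6⟩
  have h' := allBelow_spec _ _ h2 g hg
  simp only [Bool.and_eq_true] at h'
  exact ⟨okWord_mem h'.1, (commOK_iff (okWord_mem h'.1) hs).1 h'.2⟩

theorem step_spec {i : ℕ} (hi : i < 1920) :
    (∀ a ∈ eWord i, a < 8) ∧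
    (∀ g < 3, fld i g < 1920 ∧ eKey (fld i g) = (eKey i).map (evW (wG g)) ∧
      ∀ v < 5, sImg (fld i g) v = gImg g (sImg i v)) ∧
    (i = 0 ∨ (fld i 3 < i ∧ fld i 4 < 3 ∧ fld (fld i 3) (fld i 4) = i)) ∧
    (fld i 5 < 1920 ∧ fld (fld i 5) 7 = i) ∧
    (i < 60 → fld i 0 < 60 ∧ fld i 1 < 60 ∧ (i = 0 ∨ fld i 4 < 2)) := by
  have h := step_all i hi
  simp only [stepOK, Bool.and_eq_true, Bool.or_eq_true, Bool.not_eq_true', Nat.beq_eq, Nat.blt_eq] at h
  obtain ⟨⟨⟨⟨⟨h1, h2⟩, h3⟩, h4⟩, h5⟩, h6⟩ := h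
  refine ⟨okWord_mem h1, fun g hg => ?_, ?_, ⟨h4, h5⟩, fun h60 => ?_⟩
  · have h' := allBelow_spec _ _ h2 g hg
    simp only [Bool.and_eq_true, Nat.blt_eq, beq_iff_eq] at h'
    exact ⟨h'.1.1, h'.1.2, fun v hv => Nat.beq_eq ▸ allBelow_spec _ _ h'.2 v hv⟩
  · rcases h3 with h3 | ⟨⟨a, b⟩, c⟩
    · exact Or.inl h3
    · exact Or.inr ⟨a, b, c⟩
  · rcases h6 with h6 | ⟨⟨a, b⟩, c⟩
    · rw [Nat.blt_eq.mpr h60] at h6; exact Bool.noConfusion h6
    · exact ⟨a, b, c⟩

/-- the involution -/
noncomputable def sH : ↥j3Group := wordVal wS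

theorem sH_sq : sH * sH = 1 := by
  rw [sH, ← wordVal_append, eq_one_iff (append_lt start_spec.1 start_spec.1), start_spec.2.2.2.2.1]

theorem sH_ne : sH ≠ 1 := fun h => start_spec.2.2.2.2.2 ((eq_one_iff start_spec.1).1 h)

theorem orderOf_sH : orderOf sH = 2 := by
  haveI : Fact (Nat.Prime 2) := ⟨Nat.prime_two⟩
  exact orderOf_eq_prime (by rw [pow_two, sH_sq]) sH_ne

/-- the permutation of a generator -/
def sigG : ℕ → Equiv.Perm (Fin 5)
  | 0 => Equiv.swap 0 1 * Equiv.swap 2 3
  | 1 => Equiv.swap 0 2 * Equiv.swap 2 4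
  | _ => 1

theorem sigG_facts : ∀ g < 3, (∀ v : Fin 5, (sigG g v : ℕ) = gImg g v) ∧ Equiv.Perm.sign (sigG g) = 1 := by
  decide +kernel

/-- a generator with its permutation -/
noncomputable def pairG (g : ℕ) : ↥j3Group × Equiv.Perm (Fin 5) := (wordVal (wG g), sigG g)

/-- the graph of the homomorphism, on the first `k` generators -/
noncomputable def pairs (k : ℕ) : Subgroup (↥j3Group × Equiv.Perm (Fin 5)) :=
  Subgroup.closure {d | ∃ g < k, d = pairG g}

/-- a pair matches an entry -/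
def Matches (d : ↥j3Group × Equiv.Perm (Fin 5)) (i : ℕ) : Prop :=
  i < 1920 ∧ keyG d.1 = eKey i ∧ ∀ v : Fin 5, (d.2 v : ℕ) = sImg i v

theorem matches_one : Matches 1 0 :=
  ⟨by norm_num, by rw [Prod.fst_one, keyG_one, start_spec.2.2.1], fun v => (start_spec.2.2.2.1 v v.2).symm⟩

theorem matches_step {d : ↥j3Group × Equiv.Perm (Fin 5)} {i g : ℕ} (hg : g < 3) (h : Matches d i) :
    Matches (pairG g * d) (fld i g) := by
  obtain ⟨hi, hk, hm⟩ := h
  obtain ⟨h1, h2, h3⟩ := (step_spec hi).2.1 g hg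
  refine ⟨h1, ?_, fun v => ?_⟩
  · rw [Prod.fst_mul, pairG, keyG_mul (start_spec.2.1 g hg).1, hk, h2]
  · rw [Prod.snd_mul, Equiv.Perm.mul_apply, pairG, (sigG_facts g hg).1, hm, h3 v v.2]

theorem exists_matches {k : ℕ} (hk : k ≤ 3) {d : ↥j3Group × Equiv.Perm (Fin 5)} (hd : d ∈ pairs k) :
    ∃ i, Matches d i ∧ (k = 2 → i < 60) := by
  rw [pairs, ← Subgroup.mem_toSubmonoid, Subgroup.closure_toSubmonoid_of_finite] at hd
  induction hd using Submonoid.closure_induction_left with
  | one => exact ⟨0, matches_one, fun _ => by norm_num⟩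
  | mul_left x hx y _ ih =>
    obtain ⟨i, hi, h60⟩ := ih
    obtain ⟨g, hg, rfl⟩ := hx
    refine ⟨_, matches_step (by omega) hi, fun hk2 => ?_⟩
    obtain ⟨a, b, -⟩ := (step_spec hi.1).2.2.2.2 (h60 hk2)
    subst hk2
    interval_cases g <;> assumption

theorem exists_pair : ∀ i < 1920, ∀ k, k = 3 ∨ (k = 2 ∧ i < 60) → ∃ d ∈ pairs k, Matches d i := by
  intro i
  induction i using Nat.strong_induction_on with
  | _ i ih =>
    intro hi k hk
    obtain ⟨-, -, h3, -, h5⟩ := step_spec hi
    rcases h3 with rfl | ⟨hlt, hg, he⟩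
    · exact ⟨1, one_mem _, matches_one⟩
    · obtain ⟨d, hd, hm⟩ := ih _ hlt (hlt.trans hi) k (hk.imp id fun h => ⟨h.1, hlt.trans h.2⟩)
      have hstep := matches_step hg hm
      rw [he] at hstep
      refine ⟨_, mul_mem (Subgroup.subset_closure ⟨fld i 4, ?_, rfl⟩) hd, hstep⟩
      rcases hk with rfl | ⟨rfl, h60⟩
      · exact hg
      · rcases (h5 h60).2.2 with h0 | h0
        · omega
        · exact h0

theorem key_inj {i j : ℕ} (hi : i < 1920) (hj : j < 1920) (h : eKey i = eKey j) : i = j := by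
  have mono : ∀ a b, a < b → b < 1920 → codeOf (eKey (fld a 7)) < codeOf (eKey (fld b 7)) := by
    intro a b hab hb
    induction b, hab using Nat.le_induction with
    | base =>
      have := allBelow_spec _ _ monos_ok a (by omega)
      simp only [monoOK, Nat.blt_eq] at this
      exact this
    | succ b hab ih =>
      have := allBelow_spec _ _ monos_ok b (by omega)
      simp only [monoOK, Nat.blt_eq] at this
      exact (ih (by omega)).trans this
  obtain ⟨ha, ha'⟩ := (step_spec hi).2.2.2.1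
  obtain ⟨hb, hb'⟩ := (step_spec hj).2.2.2.1
  rcases lt_trichotomy (fld i 5) (fld j 5) with hl | hl | hl
  · have := mono _ _ hl hb; rw [ha', hb', h] at this; omega
  · rw [← ha', ← hb', hl]
  · have := mono _ _ hl ha; rw [ha', hb', h] at this; omega

theorem fst_inj : Function.Injective ((MonoidHom.fst ↥j3Group (Equiv.Perm (Fin 5))).comp (pairs 3).subtype) := by
  rintro ⟨d, hd⟩ ⟨d', hd'⟩ e
  simp only [MonoidHom.coe_comp, Function.comp_apply, Subgroup.subtype_apply, MonoidHom.coe_fst] at e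
  obtain ⟨i, ⟨hi, k, m⟩, -⟩ := exists_matches le_rfl hd
  obtain ⟨j, ⟨hj, k', m'⟩, -⟩ := exists_matches le_rfl hd'
  obtain rfl := key_inj hi hj (by rw [← k, ← k', e])
  exact Subtype.ext (Prod.ext e (Equiv.ext fun v => Fin.ext ((m v).trans (m' v).symm)))

theorem card_pairs : Nat.card (pairs 3) = 1920 := by
  choose f hf hm using fun i : Fin 1920 => exists_pair i i.2 3 (Or.inl rfl)
  let φ : Fin 1920 → pairs 3 := fun i => ⟨f i, hf i⟩
  have hbij : Function.Bijective φ := by
    refine ⟨fun i j e => Fin.ext ?_, fun d => ?_⟩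
    · have e' : f i = f j := congrArg Subtype.val e
      exact key_inj i.2 j.2 (by rw [← (hm i).2.1, ← (hm j).2.1, e'])
    · obtain ⟨i, ⟨hi, k, m⟩, -⟩ := exists_matches le_rfl d.2
      exact ⟨⟨i, hi⟩, fst_inj (keyG_inj ((hm ⟨i, hi⟩).2.1.trans k.symm))⟩
  rw [← Nat.card_eq_of_bijective φ hbij, Nat.card_fin]

/-- a listed conjugate is a conjugate of `w` fixing the first point, and the codes increase -/
def conjsOK (L : List (List (List ℕ × List ℕ))) (w : List ℕ) (i : ℕ) : Bool :=
  let c := getTbl L i ([], [])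
  okWord c.1 && okWord c.2 && Nat.beq (evW c.1 0) 0 && conjOK c.2 w c.1 &&
    (Nat.beq i 0 || Nat.blt (codeOf (keyOf (getTbl L (i - 1) ([], [])).1)) (codeOf (keyOf c.1)))

theorem smul_eq (g : ↥j3Group) (q : Fin 6156) : g • q = (g : Equiv.Perm (Fin 6156)) q := rfl

theorem class_bound {w : List ℕ} (hw : ∀ a ∈ w, a < 8) {L : List (List (List ℕ × List ℕ))} {m f : ℕ}
    (hL : allBelow (conjsOK L w) m = true)
    (hfix : Nat.beq (cntB (fun q => Nat.beq (evW w q) q) 6156) f = true) :
    6156 * m * Nat.card (Subgroup.centralizer ({wordVal w} : Set ↥j3Group)) ≤ 50232960 * f := by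
  classical
  have H : ∀ i < m, (∀ a ∈ (getTbl L i ([], [])).1, a < 8) ∧ (∀ a ∈ (getTbl L i ([], [])).2, a < 8) ∧
      evW (getTbl L i ([], [])).1 0 = 0 ∧ conjOK (getTbl L i ([], [])).2 w (getTbl L i ([], [])).1 = true ∧
      (i = 0 ∨ codeOf (keyOf (getTbl L (i - 1) ([], [])).1) < codeOf (keyOf (getTbl L i ([], [])).1)) := by
    intro i hi
    have h := allBelow_spec _ _ hL i hi
    simp only [conjsOK, Bool.and_eq_true, Bool.or_eq_true, Nat.beq_eq, Nat.blt_eq] at h
    exact ⟨okWord_mem h.1.1.1.1, okWord_mem h.1.1.1.2, h.1.1.2, h.1.2, h.2⟩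
  have hlt : ∀ a b, a < b → b < m →
      codeOf (keyOf (getTbl L a ([], [])).1) < codeOf (keyOf (getTbl L b ([], [])).1) := by
    intro a b hab hb
    induction b, hab using Nat.le_induction with
    | base => exact ((H _ hb).2.2.2.2).resolve_left (by omega)
    | succ b hab ih => exact (ih (by omega)).trans (((H _ hb).2.2.2.2).resolve_left (by omega))
  set S : Finset ↥j3Group := (Finset.range m).image fun i => wordVal (getTbl L i ([], [])).1
  have hS : S.card = m := by
    rw [Finset.card_image_of_injOn, Finset.card_range]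
    intro a ha b hb e
    rw [Finset.coe_range, Set.mem_Iio] at ha hb
    have e' := key_of_eq (H a ha).1 (H b hb).1 e
    rcases lt_trichotomy a b with hl | hl | hl
    · exact absurd (hlt a b hl hb) (by rw [e']; exact lt_irrefl _)
    · exact hl
    · exact absurd (hlt b a hl ha) (by rw [e']; exact lt_irrefl _)
  have hf : Nat.card {q : Fin 6156 // wordVal w • q = q} = f := by
    rw [Nat.card_eq_fintype_card, Fintype.card_subtype]
    rw [Nat.beq_eq, cntB_eq_fin] at hfix
    refine Eq.trans ?_ hfix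
    congr 1
    refine Finset.filter_congr fun q _ => ?_
    rw [smul_eq, Fin.ext_iff, act_word w hw, Nat.beq_eq]
  have := RigidGraph.J3.pretransitive_j3Group
  have hb := FixedConj.mul_le_fixed (wordVal w) (0 : Fin 6156) S (fun u hu => by
    obtain ⟨i, hi, rfl⟩ := Finset.mem_image.1 hu
    obtain ⟨h1, h2, h3, h4, -⟩ := H i (Finset.mem_range.1 hi)
    refine ⟨isConj_iff.2 ⟨wordVal (getTbl L i ([], [])).2, ?_⟩, ?_⟩
    · rw [mul_inv_eq_iff_eq_mul]
      exact conjOK_spec h2 hw h1 h4
    · rw [smul_eq]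
      exact Fin.ext ((act_word _ h1 0).trans h3))
  rw [hS, hf] at hb
  have hc := FixedConj.conjugatesOf_card (wordVal w)
  rw [card_j3Group] at hc
  rw [← hc, mul_right_comm]
  calc 6156 * Nat.card (Subgroup.centralizer ({wordVal w} : Set ↥j3Group)) * m
      = 6156 * m * Nat.card (Subgroup.centralizer ({wordVal w} : Set ↥j3Group)) := by ring
    _ ≤ (conjugatesOf (wordVal w)).ncard * f * Nat.card (Subgroup.centralizer ({wordVal w} : Set ↥j3Group)) :=
        Nat.mul_le_mul_right _ hb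
    _ = _ := by ring

theorem sConjs_ok : allBelow (conjsOK sConjs wS) 323 = true := by decide +kernel

theorem sFix : Nat.beq (cntB (fun q => Nat.beq (evW wS q) q) 6156) 76 = true := by decide +kernel

theorem card_fst : Nat.card ((pairs 3).map (MonoidHom.fst ↥j3Group (Equiv.Perm (Fin 5)))) = 1920 := by
  rw [← card_pairs, Nat.card_congr (MonoidHom.ofInjective fst_inj).toEquiv, MonoidHom.range_comp,
    Subgroup.range_subtype]

theorem map_fst : (pairs 3).map (MonoidHom.fst ↥j3Group (Equiv.Perm (Fin 5))) =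
    Subgroup.centralizer ({sH} : Set ↥j3Group) := by
  refine Subgroup.eq_of_le_of_card_ge ?_ ?_
  · rw [pairs, MonoidHom.map_closure, Subgroup.closure_le]
    rintro _ ⟨_, ⟨g, hg, rfl⟩, rfl⟩
    rw [SetLike.mem_coe, Subgroup.mem_centralizer_singleton_iff]
    exact (start_spec.2.1 g hg).2
  · rw [card_fst, sH]
    have := class_bound start_spec.1 sConjs_ok sFix
    omega

theorem card_centralizer : Nat.card (Subgroup.centralizer ({sH} : Set ↥j3Group)) = 1920 := map_fst ▸ card_fst

theorem exists_entry {c : ↥j3Group} (hc : c ∈ Subgroup.centralizer ({sH} : Set ↥j3Group)) :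
    ∃ i < 1920, c = wordVal (eWord i) := by
  rw [← map_fst] at hc
  obtain ⟨d, hd, rfl⟩ := Subgroup.mem_map.1 hc
  obtain ⟨i, ⟨hi, hk, -⟩, -⟩ := exists_matches le_rfl hd
  exact ⟨i, hi, keyG_inj (hk.trans (keyG_word (step_spec hi).1).symm)⟩

end Cfsg.Agent.J3Invol
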