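import Cfsg.Agent.Lib.RigidGraph.Defs

/-! Data for automorphisms. -/

set_option autoImplicit false
set_option maxRecDepth 100000

namespace Cfsg.Agent.J3Invol

/-- powers of an element of order 17 -/
def wXs : List (List ℕ) :=
  [[], [0, 4, 1, 1, 1, 6, 7, 6, 1, 2], [3, 3, 5, 4, 4, 7, 0, 6, 5, 0], [0, 3, 7, 2, 2, 1, 5, 2, 4], [4, 1, 1, 6, 3, 1, 1, 5], [0, 4, 1, 3, 7, 0, 3, 5, 6], [0, 6, 1, 2, 4, 2, 7, 7, 2], [6, 3, 7, 7, 3, 6, 4, 6, 1], [1, 5, 3, 3, 3, 1, 6, 1, 4, 0], [7, 2, 2, 0, 3, 7, 7, 6], [0, 0, 6, 2, 6, 3, 5, 1, 5, 2], [3, 3, 5, 4, 7, 7, 1, 3, 1], [2, 2, 6, 1, 1, 6, 7, 6, 0, 3], [5, 4, 1, 1, 6, 3, 1, 1], [1, 3, 0, 7, 2, 2, 5, 2, 0], [7, 3, 1, 3, 7, 7, 0, 6, 1], [0, 0, 4, 3, 4, 7, 4, 4, 6, 2]]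

/-- an element conjugating it to its square -/
def wH : List ℕ :=
  [6, 6, 2, 6, 0, 2, 1, 4]

/-- the entry of the second generator -/
def tIdx : ℕ :=
  13

/-- the other surviving image -/
def twin : ℕ × ℕ :=
  (1, 117)

/-- the generators in the letters `x`, `t`, `x⁻¹` -/
def wNodes : List (List ℕ) :=
  [[0, 1, 2, 2, 1, 0, 0, 1, 0, 1, 0, 1, 0, 1, 0, 0, 0, 0, 1, 0, 1], [0, 0, 1, 0, 1, 0, 1, 0, 0, 0, 0, 1, 2, 1, 0, 1, 2, 1, 0, 0, 0, 0, 1, 0, 0]]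

/-- part of a table -/
def invols0 : List (List (ℕ × List ℕ × (List ℕ × ℕ) × (List ℕ × ℕ))) :=
  [[(1, [1, 7, 5, 2, 2, 6, 3, 4, 6], ([7], 3), ([8], 3)), (13, [0, 3, 4, 1, 6, 2, 1, 5, 3], ([], 0), ([2], 5)), (14, [4, 7, 1, 3, 4, 4, 6, 0, 3], ([2], 3), ([5], 3)), (23, [0, 4, 2, 0, 6, 3, 3, 0], ([1], 4), ([6], 4)), (24, [0, 7, 2, 7, 7, 4, 7, 1, 1, 1], ([3], 5), ([1], 5)), (43, [0, 2, 1, 1, 7, 4, 6, 6], ([5], 5), ([4], 5)), (44, [3, 7, 4, 1, 5, 1, 2, 2, 2], ([4], 5), ([6], 5)), (46, [3, 6, 6, 2, 6, 5, 2, 4, 0], ([6], 5), ([6], 5)), (47, [0, 0, 5, 6, 6, 7, 0, 6, 7], ([6], 5), ([6], 5)), (48, [2, 1, 6, 3, 5, 3, 3, 1, 5, 0], ([6], 5), ([3], 5)), (49, [4, 5, 4, 7, 3, 4, 7, 4, 0, 3], ([8], 5), ([2], 5)), (56, [1, 7, 3, 5, 0, 0], ([6], 5), ([6], 5)), (57,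 [3, 7, 3, 6, 4, 4, 4, 1, 3, 1], ([4], 5), ([6], 5)), (58, [0, 4, 5, 2, 0, 6, 7, 6, 5], ([3], 5), ([1], 5)), (59, [7, 3, 3, 4, 5, 1, 7, 0], ([8], 3), ([3], 3)), (83, [1, 5, 0, 5, 0, 4, 3, 5, 0, 0], ([3], 5), ([1], 5)), (103, [0, 6, 2, 2, 1, 1, 7, 2, 4, 1], ([3], 5), ([1], 5)), (117, [0, 3, 6, 5, 7, 5, 6, 3, 4], ([], 0), ([2], 5)), (122, [], ([1], 2), ([1], 2)), (125, [1, 6, 3, 6, 0, 4, 1, 4], ([1], 3), ([6], 3)), (161, [3, 1, 6, 6, 7, 4, 0, 3], ([4], 3), ([7], 3)), (164, [4, 7, 3, 6, 7, 3, 7, 2], ([8], 3), ([3], 3)), (177, [4, 5, 1, 7, 4, 5, 7, 5, 0], ([6], 5), ([6], 5)), (191, [0, 5, 3, 3, 7, 7, 5, 6, 1], ([4], 4), ([2], 4)), (194, [1, 6, 7, 1, 2, 2, 7, 6, 0, 3], ([6], 5), ([6], 5)), (240, [5, 6, 7, 6, 6, 0, 5, 6], ([6], 5), ([6], 5)), (244, [0,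 6, 1, 2, 7, 0, 0, 0, 4], ([2], 5), ([5], 5)), (247, [0, 6, 1, 6, 4, 5, 1, 1, 1], ([5], 3), ([4], 3)), (251, [5, 1, 4, 1, 4, 6, 2, 2, 2], ([8], 3), ([3], 3)), (254, [6, 5, 6, 5, 0, 5, 0, 6, 0], ([1], 5), ([5], 8)), (260, [3, 4, 0, 0, 7, 4, 3, 1], ([3], 3), ([1], 3)), (263, [2, 5, 7, 4, 2, 2, 7], ([1], 5), ([4], 5)), (266, [1, 2, 2, 1, 1, 4, 3, 4, 1, 1], ([2], 5), ([5], 5)), (269, [4, 5, 7, 4, 4, 6, 6], ([6], 5), ([6], 5)), (285, [5, 2, 7, 7, 2, 5, 0, 7, 0], ([3], 3), ([1], 3)), (289, [0, 2, 4, 4, 2, 2, 5, 3, 0], ([6], 5), ([6], 5)), (290, [0, 4, 2, 5, 3, 4, 0, 0, 4, 1], ([3], 3), ([1], 3)), (293, [5, 3, 6, 3, 4, 7, 1, 5], ([6], 5), ([6], 5)), (296, [3, 4, 1, 4, 0, 6, 0, 4, 1], ([1, 11], 2), ([4], 5)), (299, [2, 0, 0, 3, 3, 5, 4, 2, 1], ([5], 3), ([4],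 3)), (301, [4, 7, 7, 5, 7, 6, 2, 4, 2], ([1], 5), ([4], 5)), (408, [2, 0, 7, 6, 1, 7, 5, 7, 4, 1], ([1, 11], 2), ([4], 5)), (433, [2, 2, 2, 0, 6, 2, 7, 7, 4], ([1], 5), ([5], 8)), (440, [5, 3, 0, 4, 6, 5, 7, 4, 1], ([6], 5), ([6], 5)), (443, [2, 6, 6, 1, 7, 4, 2, 6, 1, 2], ([6], 3), ([2], 3)), (476, [0, 4, 4, 0, 2, 7, 2, 0], ([1], 3), ([6], 3)), (487, [2, 1, 4, 2, 1, 6, 4, 6, 2, 0], ([6], 5), ([6], 5)), (489, [6, 2, 7, 2, 1, 1, 4, 1, 2], ([6], 3), ([2], 3)), (492, [1, 6, 1, 6, 1, 6, 2, 1, 5, 2], ([6], 5), ([6], 5)), (522, [2, 7, 7, 0, 2, 0, 2, 1, 2], ([2], 5), ([5], 5)), (534, [2, 4, 6, 7, 2, 4, 3, 1, 1], ([7], 3), ([8], 3)), (535, [4, 6, 2, 4, 2, 1, 5], ([4], 3), ([7], 3)), (554, [4, 3, 3, 0, 5, 6, 5, 2, 2], ([6], 5), ([6], 5)), (592, [7, 6, 5,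 4, 5, 3, 5, 1, 1], ([4], 3), ([7], 3)), (609, [2, 5, 2, 6, 6, 7, 3, 7, 6, 1], ([7], 3), ([8], 3)), (640, [4, 2, 6, 6, 7, 0, 6, 5, 0], ([1], 3), ([6], 3)), (733, [0, 7, 3, 1, 1, 5, 2, 4, 1], ([7], 3), ([8], 3)), (746, [0, 0, 7, 6, 3, 6, 6, 1, 1], ([6], 5), ([6], 5)), (765, [5, 3, 0, 2, 2, 4, 3, 5], ([8], 5), ([2], 5)), (777, [2, 5, 6, 2, 0, 3, 0, 5, 1, 1], ([6], 5), ([3], 5)), (783, [2, 6, 5, 1, 6, 4, 4, 3, 0], ([1], 5), ([2], 5)), (786, [7, 1, 7, 7, 2, 1, 1, 1], ([2], 3), ([5], 3)), (792, [4, 7, 4, 4, 0, 6, 2, 5], ([2], 5), ([3], 5)), (814, [2, 1, 7, 3, 4, 1, 6, 7, 1], ([6], 3), ([2], 3))],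
    [(828, [6, 1, 3, 0, 6, 5, 0, 0, 2], ([8], 3), ([3], 3)), (832, [0, 6, 3, 5, 7, 2, 7, 0, 3, 1], ([6], 5), ([6], 5)), (835, [6, 4, 7, 2, 6, 5, 3, 4, 2], ([4], 5), ([6], 5)), (841, [1, 1, 2, 4, 3, 4, 5, 6, 2], ([1], 3), ([6], 3)), (857, [4, 0, 6, 5, 4, 4, 3], ([2], 4), ([1], 4)), (888, [7, 3, 0, 4, 4, 0, 5, 4], ([6], 5), ([6], 5)), (894, [1, 5, 3, 6, 0, 5, 2, 0, 0], ([8], 5), ([2], 5)), (948, [0, 0, 5, 7, 7, 6, 0, 6, 4, 0], ([1], 3), ([6], 3)), (949, [1, 6, 3, 4, 1, 4, 1, 4, 6, 2], ([6], 5), ([1, 5], 2)), (977, [1, 3, 4, 7, 1, 3, 7, 1, 3], ([5], 5), ([4], 5)), (1052, [6, 7, 6, 7, 4, 1, 3, 1, 3], ([2], 5), ([1, 3], 2)), (1063, [6, 2, 5, 0, 3, 3, 1, 7, 1], ([4], 5), ([6], 5)), (1084, [4, 2, 4, 1, 5, 2, 1], ([6], 5), ([1, 5], 2)), (1100, [6, 2, 6,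 7, 7, 2, 4, 6, 2], ([2], 5), ([4], 5)), (1105, [2, 7, 7, 0, 4, 2, 1, 6, 4, 2], ([6], 3), ([2], 3)), (1107, [3, 0, 4, 7, 0, 0, 0, 3, 3, 1], ([3], 5), ([1], 5)), (1139, [1, 1, 2, 2, 6, 4, 3, 6], ([2], 4), ([1], 4)), (1147, [2, 0, 2, 6, 7, 2, 0, 2, 5, 1], ([4], 3), ([7], 3)), (1151, [0, 7, 0, 2, 6, 6, 2, 4, 2], ([1], 4), ([6], 4)), (1163, [2, 2, 2, 7, 2, 0, 5, 6, 0], ([2], 5), ([5], 5)), (1175, [3, 4, 6, 4, 2, 6, 0, 5, 0], ([6], 5), ([6], 5)), (1194, [3, 3, 7, 1, 5, 4, 3, 7], ([2], 5), ([1, 3], 2)), (1208, [4, 4, 1, 7, 4, 2, 2, 4, 2], ([3], 3), ([1], 3)), (1211, [4, 5, 0, 2, 5, 4, 5, 6, 7], ([1], 5), ([2], 5)), (1218, [0, 5, 2, 1, 7, 4, 4, 7, 1], ([5], 4), ([3], 4)), (1243, [7, 3, 4, 4, 4, 0, 4, 1, 1], ([6], 5), ([6], 5)), (1253, [1, 5, 4, 7, 3, 3,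 6, 5], ([6], 5), ([6], 5)), (1272, [4, 3, 5, 3, 7, 5, 7, 5, 1], ([6], 5), ([6], 5)), (1303, [0, 2, 4, 1, 4, 0, 7, 2, 0, 2], ([6], 5), ([6], 5)), (1321, [1, 4, 4, 7, 5, 1, 2, 4, 2, 1], ([6], 3), ([2], 3)), (1337, [1, 3, 6, 3, 4, 7, 0, 4, 1], ([1, 7], 2), ([6], 5)), (1342, [6, 7, 7, 3, 0, 0, 2, 1, 1], ([8], 3), ([3], 3)), (1381, [2, 7, 5, 6, 4, 4, 3, 7, 5, 0], ([3], 5), ([1], 5)), (1389, [3, 4, 3, 1, 4, 4, 0, 6, 0], ([3], 5), ([1], 5)), (1413, [7, 3, 3, 7, 5, 0, 7, 6], ([6], 5), ([6], 5)), (1414, [2, 5, 1, 6, 4, 1, 6, 2, 2], ([6], 5), ([6], 5)), (1439, [1, 7, 7, 2, 6, 6, 5, 3, 6, 2], ([5], 4), ([3], 4)), (1484, [1, 4, 7, 7, 1, 4, 7, 7, 4, 0], ([6], 5), ([6], 5)), (1487, [1, 1, 1, 5, 2, 4, 7, 1, 7], ([6], 5), ([6], 5)), (1508, [0, 6, 1, 6, 0, 7, 2,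 7, 6, 1], ([6], 5), ([6], 5)), (1533, [5, 1, 4, 1, 1, 3, 6, 5, 2], ([5], 3), ([4], 3)), (1539, [6, 4, 0, 7, 2, 1, 6, 5, 1], ([1], 5), ([7], 5)), (1547, [0, 6, 0, 4, 0, 7, 7, 3, 6, 1], ([6], 5), ([6], 5)), (1558, [2, 0, 0, 4, 2, 5, 4, 2, 2], ([2], 5), ([3], 5)), (1573, [1, 7, 0, 5, 1, 6, 1, 4, 2], ([6], 5), ([6], 5)), (1593, [7, 3, 6, 7, 5, 3, 3, 7, 0], ([6], 5), ([6], 5)), (1594, [0, 3, 3, 5, 2, 0, 0, 7, 7, 2], ([6], 5), ([6], 5)), (1606, [1, 4, 5, 0, 7, 3, 4, 2, 1], ([4], 4), ([2], 4)), (1667, [6, 4, 1, 2, 7, 6, 5, 0, 3], ([2], 3), ([5], 3)), (1700, [6, 4, 4, 5, 3, 3, 6, 0, 2], ([6], 5), ([6], 5)), (1701, [1, 3, 7, 4, 2, 1, 6, 5, 0], ([7], 3), ([8], 3)), (1707, [7, 1, 4, 1, 7, 6, 6, 2], ([3], 3), ([1], 3)), (1715, [0, 4, 7, 4, 1, 7, 5, 4, 0, 2],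 ([2], 5), ([4], 5)), (1732, [5, 1, 1, 7, 7, 2, 6, 1, 3], ([1, 7], 2), ([6], 5)), (1744, [6, 7, 4, 0, 3, 4, 2, 5], ([4], 3), ([7], 3)), (1757, [0, 4, 5, 7, 4, 4, 3, 3, 3], ([6], 5), ([6], 5)), (1758, [1, 1, 3, 7, 5, 2, 5, 0, 3, 1], ([2], 3), ([5], 3)), (1788, [7, 1, 3, 1, 7, 7, 5, 1], ([8], 5), ([2], 5)), (1792, [0, 4, 5, 0, 5, 1, 3, 6, 1], ([2], 3), ([5], 3)), (1801, [7, 0, 3, 5, 2, 7, 7, 0, 3], ([3], 5), ([1], 5)), (1809, [0, 4, 0, 0, 2, 0, 5, 7, 0], ([6], 5), ([6], 5)), (1855, [5, 1, 6, 6, 4, 7, 5, 7, 1], ([6], 5), ([6], 5)), (1865, [3, 5, 4, 0, 7, 7, 5, 2, 5, 0], ([5], 3), ([4], 3)), (1894, [1, 6, 3, 6, 6, 5, 7, 0], ([6], 5), ([6], 5))],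
    [(1902, [1, 2, 4, 7, 4, 0, 3, 0], ([6], 5), ([6], 5)), (1914, [0, 0, 6, 7, 3, 5, 6, 5, 2, 1], ([1], 5), ([7], 5)), (1919, [0, 7, 7, 3, 4, 4, 5, 2], ([5], 3), ([4], 3))]]

/-- a table -/
def invols : List (List (ℕ × List ℕ × (List ℕ × ℕ) × (List ℕ × ℕ))) :=
  invols0

end Cfsg.Agent.J3Invol
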