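import Cfsg.Agent.Lib.J3Invol.Centraliser
import Cfsg.Agent.Lib.J3Invol.OutData
import Mathlib.GroupTheory.Sylow

/-! All involutions are conjugate. -/

set_option autoImplicit false
set_option maxRecDepth 100000
set_option Elab.async false

namespace Cfsg.Agent.J3Invol

open Cfsg.Agent.PermAut (getTbl)
open Cfsg.Agent.PermCert (allBelow allBelow_spec)
open Cfsg.Agent.RigidGraph.J3 (j3Group card_j3Group)

attribute [local irreducible] lets wordVal

/-- a listed involution -/
def iRow (k : ℕ) : ℕ × List ℕ × (List ℕ × ℕ) × (List ℕ × ℕ) := getTbl invols k (0, [], ([], 0), ([], 0))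

/-- a listed involution with a conjugating word -/
def rowConjOK (k : ℕ) : Bool :=
  let r := iRow k
  Nat.blt r.1 1920 && okWord r.2.1 && conjOK r.2.1 (eWord r.1) wS

/-- an entry is not an involution, or is listed -/
def invEntryOK (i : ℕ) : Bool :=
  !(keyOf (eWord i ++ eWord i) == base) || Nat.beq i 0 || (List.range 131).any fun k => Nat.beq (iRow k).1 i

theorem rowConj_ok : allBelow rowConjOK 131 = true := by decide +kernel

theorem invEntry_ok : allBelow invEntryOK 1920 = true := by decide +kernel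

theorem row_spec {k : ℕ} (hk : k < 131) : (iRow k).1 < 1920 ∧ (∀ a ∈ (iRow k).2.1, a < 8) ∧
    wordVal (iRow k).2.1 * wordVal (eWord (iRow k).1) = sH * wordVal (iRow k).2.1 := by
  have h := allBelow_spec _ _ rowConj_ok k hk
  simp only [rowConjOK, Bool.and_eq_true, Nat.blt_eq] at h
  exact ⟨h.1.1, okWord_mem h.1.2, conjOK_spec (okWord_mem h.1.2) (step_spec h.1.1).1 start_spec.1 h.2⟩

/-- an involution commuting with `sH` is listed -/
theorem exists_row {y : ↥j3Group} (hy : y ∈ Subgroup.centralizer ({sH} : Set ↥j3Group)) (h2 : y * y = 1)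
    (h1 : y ≠ 1) : ∃ k < 131, y = wordVal (eWord (iRow k).1) := by
  obtain ⟨i, hi, rfl⟩ := exists_entry hy
  have h := allBelow_spec _ _ invEntry_ok i hi
  simp only [invEntryOK, Bool.or_eq_true, Bool.not_eq_true', beq_eq_false_iff_ne, Nat.beq_eq, List.any_eq_true,
    List.mem_range] at h
  rw [← wordVal_append, eq_one_iff (append_lt (step_spec hi).1 (step_spec hi).1)] at h2
  rcases h with (h | rfl) | ⟨k, hk, e⟩
  · exact absurd h2 h
  · exfalso
    refine h1 ((eq_one_iff (step_spec hi).1).2 ?_)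
    exact start_spec.2.2.1
  · exact ⟨k, hk, by rw [e]⟩

theorem isConj_sH {y : ↥j3Group} (hy : orderOf y = 2) : IsConj y sH := by
  classical
  haveI : Fact (Nat.Prime 2) := ⟨Nat.prime_two⟩
  set C := Subgroup.centralizer ({sH} : Set ↥j3Group)
  obtain ⟨K, hK⟩ := Sylow.exists_subgroup_card_pow_prime 2 (show 2 ^ 7 ∣ Nat.card C by rw [card_centralizer]; norm_num)
  have hmap : Nat.card (K.map C.subtype) = 2 ^ (Nat.card ↥j3Group).factorization 2 := by
    rw [Subgroup.card_map_of_injective C.subtype_injective, hK, card_j3Group]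
    congr 1
    refine le_antisymm ((Nat.Prime.pow_dvd_iff_le_factorization (by norm_num) (by norm_num)).1 (by norm_num)) ?_
    by_contra hlt
    have : 2 ^ 8 ∣ (50232960 : ℕ) :=
      (Nat.Prime.pow_dvd_iff_le_factorization (by norm_num) (by norm_num)).2 (by omega)
    norm_num at this
  have hp : IsPGroup 2 (Subgroup.zpowers y) :=
    IsPGroup.of_card (n := 1) (by rw [Nat.card_zpowers, hy, pow_one])
  obtain ⟨P, hP⟩ := hp.exists_le_sylow
  obtain ⟨g, hg⟩ := MulAction.exists_smul_eq ↥j3Group P (Sylow.ofCard _ hmap)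
  have hy' : g * y * g⁻¹ ∈ K.map C.subtype := by
    have h2 : (((g • P : Sylow 2 ↥j3Group)) : Subgroup ↥j3Group) = K.map C.subtype := by rw [hg]; rfl
    rw [← h2]
    exact Subgroup.mem_map.2 ⟨y, hP (Subgroup.mem_zpowers y), rfl⟩
  obtain ⟨c, -, ec⟩ := Subgroup.mem_map.1 hy'
  have hsq : (g * y * g⁻¹) * (g * y * g⁻¹) = 1 := by
    rw [show g * y * g⁻¹ * (g * y * g⁻¹) = g * (y * y) * g⁻¹ by group, ← pow_two, ← hy, pow_orderOf_eq_one]
    group
  have hne : g * y * g⁻¹ ≠ 1 := fun e => by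
    have : y = 1 := by
      rw [mul_inv_eq_one, ← eq_inv_mul_iff_mul_eq, inv_mul_cancel] at e
      exact e
    rw [this, orderOf_one] at hy
    norm_num at hy
  obtain ⟨k, hk, e⟩ := exists_row (ec ▸ c.2) hsq hne
  obtain ⟨-, -, hc⟩ := row_spec hk
  rw [← e] at hc
  exact (isConj_iff.2 ⟨g, rfl⟩).trans (isConj_iff.2 ⟨_, mul_inv_eq_iff_eq_mul.2 hc⟩)

end Cfsg.Agent.J3Invol
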