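import Mathlib.Data.List.Basic

/-! Elements of a Sylow 2-subgroup in the centraliser table as products of two involutions. -/

set_option autoImplicit false
set_option maxRecDepth 20000

namespace Cfsg.Agent.J3Invol

/-- an entry of the Sylow 2-subgroup with two factors -/
def sylWit : List (ℕ × ℕ × ℕ) :=
  [(0, 0, 0), (1, 0, 1), (58, 0, 58), (59, 0, 59), (60, 1084, 1855), (61, 1105, 1865), (118, 857, 1855), (119, 522, 1855), (120, 1105, 1855), (122, 0, 122), (123, 1084, 1865), (125, 0, 125), (136, 59, 894), (142, 58, 1243), (283, 1, 522), (289, 0, 289), (294, 289, 1865), (296, 0, 296), (297, 609, 1606), (299, 0, 299), (301, 0, 301), (305, 1084, 1413), (307, 1, 554), (311, 1105, 1707), (315, 609, 1732), (320, 301, 1321), (329, 58, 894), (338, 59, 1243), (502, 59, 1700), (515, 58, 1389), (522, 0, 522), (524, 609, 1788), (529, 1, 289), (531, 522, 1321), (537, 857, 1413), (539, 522, 1413), (543, 1, 301), (545, 1105, 1413), (554, 0, 554), (556, 1084, 1707), (569, 301, 949), (570, 59, 289), (578, 949, 1732),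 (579, 58, 522), (581, 58, 1218), (594, 1, 949), (596, 59, 1606), (609, 0, 609), (853, 58, 1700), (855, 609, 1151), (857, 0, 857), (871, 59, 1389), (873, 289, 1707), (875, 1, 1151), (882, 59, 1413), (885, 289, 1337), (886, 1, 1243), (890, 58, 1707), (893, 857, 1337), (894, 0, 894), (912, 609, 1084), (924, 301, 609), (936, 59, 1218), (937, 58, 289), (946, 58, 1606), (947, 59, 522), (949, 0, 949), (961, 58, 857), (966, 1, 609), (976, 59, 1151), (1084, 0, 1084), (1105, 0, 1105), (1151, 0, 1151), (1174, 1, 857), (1194, 0, 1194), (1208, 0, 1208), (1218, 0, 1218), (1224, 58, 1413), (1231, 1, 1606), (1237, 59, 1707), (1243, 0, 1243), (1247, 609, 1194), (1251, 1, 894), (1255, 522, 609), (1276, 301, 1337), (1291, 949, 1084), (1307, 1, 1337), (1321, 0, 1321), (1336, 59, 857), (1337, 0, 1337), (1352, 58, 1151), (1353, 1, 1321), (1368, 1, 1700), (1389, 0, 1389), (1413, 0, 1413), (1437, 1, 1707), (1501, 59, 554), (1523, 58, 301), (1544, 857, 949), (1562, 289, 949), (1579, 58, 949), (1591, 59, 609), (1597, 1, 1218), (1598,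 58, 1855), (1606, 0, 1606), (1607, 59, 1865), (1614, 59, 1855), (1617, 58, 1865), (1700, 0, 1700), (1707, 0, 1707), (1713, 1, 1389), (1720, 1, 1413), (1732, 0, 1732), (1744, 0, 1744), (1772, 58, 554), (1773, 58, 609), (1780, 59, 301), (1781, 59, 949), (1788, 0, 1788), (1792, 0, 1792), (1846, 1, 1865), (1855, 0, 1855), (1856, 1, 1855), (1865, 0, 1865), (1905, 59, 1337), (1909, 58, 1321), (1913, 58, 1337), (1916, 59, 1321)]

end Cfsg.Agent.J3Invol
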