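import Cfsg.Agent.Lib.J3Invol.Structure
import Cfsg.Agent.Lib.J3Invol.Class
import Cfsg.Agent.Lib.J3Invol.FusData
import Cfsg.Agent.Lib.Fusion.Simple
import Mathlib.GroupTheory.SpecificGroups.Alternating

/-! The 2-fusion system of J₃ is simple. The Sylow 2-subgroup is the preimage of a four-group in the centraliser of
an involution; it is generated by involutions, which form one class, and its normaliser lies in that centraliser,
which is generated by 2-elements normalising the extraspecial kernel. -/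

set_option autoImplicit false
set_option maxRecDepth 100000
set_option Elab.async false

namespace Cfsg.Agent.J3Invol

open Cfsg Cfsg.FusionSystem Cfsg.Agent.FusionSys
open Cfsg.Agent.PermCert (allBelow allBelow_spec)
open Cfsg.Agent.RigidGraph.J3 (j3Group card_j3Group)

attribute [local irreducible] lets wordVal entries

theorem four_closed : ∀ σ : Equiv.Perm (Fin 5), (Equiv.Perm.sign σ = 1 ∧ σ 4 = 4 ∧ σ * σ = 1) →
    ∀ τ : Equiv.Perm (Fin 5), (Equiv.Perm.sign τ = 1 ∧ τ 4 = 4 ∧ τ * τ = 1) →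
      (Equiv.Perm.sign (σ * τ) = 1 ∧ (σ * τ) 4 = 4 ∧ σ * τ * (σ * τ) = 1) := by decide +kernel

/-- the four-group -/
def four : Subgroup (Equiv.Perm (Fin 5)) where
  carrier := {σ | Equiv.Perm.sign σ = 1 ∧ σ 4 = 4 ∧ σ * σ = 1}
  one_mem' := ⟨map_one _, rfl, one_mul _⟩
  mul_mem' := fun {a b} ha hb => four_closed a ha b hb
  inv_mem' := fun {a} ha => by
    rw [show a⁻¹ = a from inv_eq_of_mul_eq_one_left ha.2.2]
    exact ha

theorem mem_four {σ : Equiv.Perm (Fin 5)} :
    σ ∈ four ↔ Equiv.Perm.sign σ = 1 ∧ σ 4 = 4 ∧ σ * σ = 1 := Iff.rfl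

/-- the images of the five points under the members of the four-group -/
def fourImgs : List (List ℕ) := [[0, 1, 2, 3, 4], [1, 0, 3, 2, 4], [2, 3, 0, 1, 4], [3, 2, 1, 0, 4]]

theorem four_iff : ∀ σ : Equiv.Perm (Fin 5), (Equiv.Perm.sign σ = 1 ∧ σ 4 = 4 ∧ σ * σ = 1) ↔
    fourImgs.contains ((List.finRange 5).map fun v => (σ v : ℕ)) = true := by decide +kernel

/-- an entry lies in the Sylow 2-subgroup -/
def inS (i : ℕ) : Bool := fourImgs.contains ((List.finRange 5).map fun v : Fin 5 => sImg i (v : ℕ))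

/-- an entry acts trivially on the five points -/
def inQ (i : ℕ) : Bool := allBelow (fun v => Nat.beq (sImg i v) v) 5

/-- an entry is trivial or squares to the identity -/
def sqOK (i : ℕ) : Bool := inS i && keyOf (eWord i ++ eWord i) == base

theorem wit_ok : allBelow (fun i => !inS i || sylWit.any fun w => Nat.beq w.1 i && Nat.blt w.2.1 1920 &&
    Nat.blt w.2.2 1920 && sqOK w.2.1 && sqOK w.2.2 &&
    keyOf (eWord w.2.1 ++ eWord w.2.2) == eKey i) 1920 = true := by decide +kernel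

theorem centre_ok : allBelow (fun i => !inS i || eKey i == base || eKey i == keyOf wS ||
    sylWit.any fun w => Nat.blt w.1 1920 && !commOK (eWord i) (eWord w.1) && inS w.1) 1920 = true := by
  decide +kernel

theorem kernel_cent_ok : allBelow (fun i => inQ i ||
    qIdx.any fun j => Nat.blt j 1920 && !commOK (eWord i) (eWord j) && inQ j) 1920 = true := by decide +kernel

theorem sH_entry : (eKey 122 == keyOf wS && inQ 122) = true := by decide +kernel

theorem entry_unique (c : ↥CS) {i : ℕ} (hi : i < 1920) (h : (c : ↥j3Group) = wordVal (eWord i)) :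
    ∀ v : Fin 5, (rho c v : ℕ) = sImg i v := by
  obtain ⟨j, hj, hc, hv⟩ := rho_spec c
  have : i = j := key_inj hi hj (by
    rw [eKey, eKey, ← keyG_word (step_spec hi).1, ← keyG_word (step_spec hj).1, ← h, hc])
  exact this ▸ hv

theorem entry_mem_CS {i : ℕ} (hi : i < 1920) : wordVal (eWord i) ∈ CS := by
  obtain ⟨d, hd, -, hk, -⟩ := exists_pair i hi 3 (Or.inl rfl)
  rw [← keyG_inj (hk.trans (keyG_word (step_spec hi).1).symm)]
  exact mem_CS hd

/-- the entry as a member of the centraliser -/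
noncomputable def cEl (i : ℕ) (hi : i < 1920) : ↥CS := ⟨wordVal (eWord i), entry_mem_CS hi⟩

theorem rho_inS {c : ↥CS} {i : ℕ} (h : ∀ v : Fin 5, (rho c v : ℕ) = sImg i v) :
    rho c ∈ four ↔ inS i = true := by
  rw [mem_four, four_iff, inS, List.map_congr_left fun v _ => h v]

theorem rho_inQ {c : ↥CS} {i : ℕ} (h : ∀ v : Fin 5, (rho c v : ℕ) = sImg i v) :
    c ∈ QS ↔ inQ i = true := by
  rw [MonoidHom.mem_ker, inQ]
  constructor
  · intro he
    refine allBelow_of fun v hv => Nat.beq_eq.symm ▸ ?_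
    rw [← h ⟨v, hv⟩, he]; rfl
  · intro hb
    refine Equiv.ext fun v => Fin.ext ?_
    have h' := allBelow_spec _ _ hb v v.2
    rw [Nat.beq_eq] at h'
    rw [h v, h']; rfl

/-- the Sylow 2-subgroup -/
noncomputable def SS : Subgroup ↥j3Group := (four.comap rho).map CS.subtype

/-- the extraspecial kernel -/
noncomputable def QG : Subgroup ↥j3Group := QS.map CS.subtype

theorem SS_le_CS : SS ≤ CS := Subgroup.map_subtype_le _

theorem mem_SS {c : ↥CS} : (c : ↥j3Group) ∈ SS ↔ rho c ∈ four := by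
  rw [SS, ← Subgroup.mem_comap]
  exact ⟨fun h => by obtain ⟨d, hd, e⟩ := Subgroup.mem_map.1 h; exact Subtype.ext e ▸ hd,
    fun h => Subgroup.mem_map_of_mem _ h⟩

theorem mem_QG {c : ↥CS} : (c : ↥j3Group) ∈ QG ↔ c ∈ QS :=
  ⟨fun h => by obtain ⟨d, hd, e⟩ := Subgroup.mem_map.1 h; exact Subtype.ext e ▸ hd,
    fun h => Subgroup.mem_map_of_mem _ h⟩

theorem QG_le_SS : QG ≤ SS := by
  rintro _ ⟨c, hc, rfl⟩
  refine mem_SS.2 ?_
  rw [MonoidHom.mem_ker.1 hc]
  exact one_mem _

theorem QG_normalized {c x : ↥j3Group} (hc : c ∈ CS) (hx : x ∈ QG) : c * x * c⁻¹ ∈ QG := by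
  obtain ⟨q, hq, rfl⟩ := Subgroup.mem_map.1 hx
  let γ : ↥CS := ⟨c, hc⟩
  have hγ : rho (γ * q * γ⁻¹) = 1 := by
    rw [map_mul, map_mul, MonoidHom.mem_ker.1 hq, mul_one, ← map_mul, mul_inv_cancel, map_one]
  have e : ((γ * q * γ⁻¹ : ↥CS) : ↥j3Group) = c * (q : ↥j3Group) * c⁻¹ := by
    simp only [Subgroup.coe_mul, InvMemClass.coe_inv, γ]
  show c * (q : ↥j3Group) * c⁻¹ ∈ QG
  rw [← e]
  exact mem_QG.2 (MonoidHom.mem_ker.2 hγ)

theorem card_SS : Nat.card SS = 128 := by
  rw [SS, Subgroup.card_map_of_injective CS.subtype_injective]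
  have h1 : Nat.card (four.subgroupOf rho.range) = 4 := by
    rw [range_rho]
    rw [Nat.card_congr (Subgroup.subgroupOfEquivOfLe (K := alternatingGroup (Fin 5))
      (fun σ hσ => Equiv.Perm.mem_alternatingGroup.2 (mem_four.1 hσ).1)).toEquiv]
    show Nat.card {σ : Equiv.Perm (Fin 5) // Equiv.Perm.sign σ = 1 ∧ σ 4 = 4 ∧ σ * σ = 1} = 4
    rw [Nat.card_eq_fintype_card]
    decide +kernel
  have h2 := Subgroup.card_mul_index (four.subgroupOf rho.range)
  rw [h1, range_rho, card_alt5] at h2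
  have h3 := Subgroup.card_mul_index (four.comap rho)
  rw [Subgroup.index_comap, card_centralizer, Subgroup.relIndex, range_rho] at h3
  have : (four.subgroupOf (alternatingGroup (Fin 5))).index = 15 := by omega
  rw [this] at h3
  omega

theorem sH_mem_QG : sH ∈ QG := by
  have h := sH_entry
  rw [Bool.and_eq_true, beq_iff_eq] at h
  have e : sH = wordVal (eWord 122) := by
    refine keyG_inj ?_
    rw [sH, keyG_word start_spec.1, keyG_word (step_spec (by norm_num : 122 < 1920)).1, ← eKey, h.1]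
  rw [e]
  exact mem_QG (c := cEl 122 (by norm_num)).2 ((rho_inQ (entry_unique _ (by norm_num) rfl)).2 h.2)

theorem SS_centre {x : ↥j3Group} (hx : x ∈ SS) (hc : ∀ y ∈ SS, x * y = y * x) : x = 1 ∨ x = sH := by
  obtain ⟨i, hi, hxi, hv⟩ := rho_spec ⟨x, SS_le_CS hx⟩
  have hS := (rho_inS hv).1 (mem_SS.1 hx)
  have h := allBelow_spec _ _ centre_ok i hi
  simp only [Bool.or_eq_true, Bool.not_eq_true', List.any_eq_true, Nat.blt_eq, Bool.and_eq_true,
    beq_iff_eq, hS, reduceCtorEq, false_or] at h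
  rcases h with (h | h) | ⟨w, -, ⟨hj, hne⟩, hjS⟩
  · left
    rw [show x = _ from hxi, eq_one_iff (step_spec hi).1]
    exact h
  · right
    rw [show x = _ from hxi, sH]
    exact eq_of_key (step_spec hi).1 start_spec.1 h
  · exfalso
    have hy : wordVal (eWord w.1) ∈ SS := mem_SS (c := cEl w.1 hj).2 ((rho_inS (entry_unique _ hj rfl)).2 hjS)
    have := hc _ hy
    rw [show x = _ from hxi, ← commOK_iff (step_spec hi).1 (step_spec hj).1] at this
    rw [this] at hne
    exact Bool.noConfusion hne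

theorem SS_comm_sH {x : ↥j3Group} (hx : x ∈ SS) : x * sH = sH * x :=
  Subgroup.mem_centralizer_singleton_iff.1 (SS_le_CS hx)

theorem QG_centralizer {x : ↥j3Group} (hc : ∀ y ∈ QG, x * y = y * x) : x ∈ QG := by
  have hx : x ∈ CS := Subgroup.mem_centralizer_singleton_iff.2 (hc _ sH_mem_QG)
  obtain ⟨i, hi, hxi, hv⟩ := rho_spec ⟨x, hx⟩
  have h := allBelow_spec _ _ kernel_cent_ok i hi
  simp only [Bool.or_eq_true, List.any_eq_true, Nat.blt_eq, Bool.and_eq_true, Bool.not_eq_true'] at h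
  rcases h with h | ⟨j, -, ⟨hj, hne⟩, hjQ⟩
  · exact mem_QG (c := ⟨x, hx⟩).2 ((rho_inQ hv).2 h)
  · exfalso
    have hy : wordVal (eWord j) ∈ QG := mem_QG (c := cEl j hj).2 ((rho_inQ (entry_unique _ hj rfl)).2 hjQ)
    have := hc _ hy
    rw [show x = _ from hxi, ← commOK_iff (step_spec hi).1 (step_spec hj).1] at this
    rw [this] at hne
    exact Bool.noConfusion hne

theorem SS_gen : SS ≤ Subgroup.closure {y : ↥j3Group | y ∈ SS ∧ y * y = 1} := by
  intro x hx
  obtain ⟨i, hi, hxi, hv⟩ := rho_spec ⟨x, SS_le_CS hx⟩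
  have hS := (rho_inS hv).1 (mem_SS.1 hx)
  have h := allBelow_spec _ _ wit_ok i hi
  simp only [Bool.or_eq_true, Bool.not_eq_true', List.any_eq_true, Bool.and_eq_true, Nat.blt_eq, Nat.beq_eq,
    beq_iff_eq, hS, reduceCtorEq, false_or, sqOK] at h
  obtain ⟨w, -, ⟨⟨⟨⟨-, ha⟩, hb⟩, haS, haq⟩, hbS, hbq⟩, hk⟩ := h
  have key : ∀ j, j < 1920 → inS j = true → keyOf (eWord j ++ eWord j) = base →
      wordVal (eWord j) ∈ Subgroup.closure {y : ↥j3Group | y ∈ SS ∧ y * y = 1} := fun j hj hjS hjq =>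
    Subgroup.subset_closure ⟨mem_SS (c := cEl j hj).2 ((rho_inS (entry_unique _ hj rfl)).2 hjS), by
      rw [← wordVal_append, eq_one_iff (append_lt (step_spec hj).1 (step_spec hj).1), hjq]⟩
  rw [show x = _ from hxi, eq_of_key (step_spec hi).1 (append_lt (step_spec ha).1 (step_spec hb).1) hk.symm,
    wordVal_append]
  exact mul_mem (key _ ha haS haq) (key _ hb hbS hbq)

theorem CS_gen : CS ≤ Subgroup.closure {y : ↥j3Group | y ∈ CS ∧ ∃ k : ℕ, orderOf y = 2 ^ k} := by
  set W : Subgroup ↥CS := Subgroup.closure {y : ↥CS | ∃ k : ℕ, orderOf y = 2 ^ k} with hW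
  have hQ : QS ≤ W := fun q hq => by
    refine Subgroup.subset_closure ?_
    have hd : orderOf q ∣ 2 ^ 5 := by
      rw [show (2 : ℕ) ^ 5 = Nat.card QS by rw [card_QS]; norm_num, ← Subgroup.orderOf_mk q hq]
      exact orderOf_dvd_natCard _
    obtain ⟨k, -, hk⟩ := (Nat.dvd_prime_pow Nat.prime_two).1 hd
    exact ⟨k, hk⟩
  have himg : alternatingGroup (Fin 5) ≤ W.map rho := by
    rw [← Equiv.Perm.closure_cycleType_eq_two_two_eq_alternatingGroup (α := Fin 5) (by simp), Subgroup.closure_le]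
    intro σ hσ
    have hσ' : σ.cycleType = {2, 2} := hσ
    obtain ⟨c, hc⟩ : σ ∈ rho.range := by
      rw [range_rho, Equiv.Perm.mem_alternatingGroup, Equiv.Perm.sign_of_cycleType, hσ']
      decide
    have h2 : orderOf σ = 2 := by rw [← Equiv.Perm.lcm_cycleType, hσ']; decide
    obtain ⟨k, m, hm, hcm⟩ := Nat.exists_eq_pow_mul_and_not_dvd (orderOf_pos c).ne' 2 (by norm_num)
    refine Subgroup.mem_map.2 ⟨c ^ m, Subgroup.subset_closure ⟨k, ?_⟩, ?_⟩
    · rw [orderOf_pow_of_dvd (by rintro rfl; simp at hm) (by rw [hcm]; exact Dvd.intro_left _ rfl), hcm,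
        Nat.mul_div_cancel _ (Nat.pos_of_ne_zero (by rintro rfl; simp at hm))]
    · rw [map_pow, hc, ← pow_mod_orderOf, h2, show m % 2 = 1 by omega, pow_one]
  have htop : W = ⊤ := by
    refine eq_top_iff.2 fun c _ => ?_
    obtain ⟨d, hd, e⟩ := Subgroup.mem_map.1 (himg (range_rho ▸ ⟨c, rfl⟩ : rho c ∈ alternatingGroup (Fin 5)))
    have : d⁻¹ * c ∈ W := hQ (by rw [MonoidHom.mem_ker, map_mul, map_inv, e, inv_mul_cancel])
    have h := mul_mem hd this
    rwa [mul_inv_cancel_left] at h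
  intro x hx
  have h : (⟨x, hx⟩ : ↥CS) ∈ W := htop ▸ Subgroup.mem_top _
  have h' := Subgroup.mem_map_of_mem CS.subtype h
  rw [hW, MonoidHom.map_closure] at h'
  refine Subgroup.closure_mono ?_ h'
  rintro _ ⟨y, ⟨k, hk⟩, rfl⟩
  exact ⟨y.2, k, by rw [Subgroup.coe_subtype, Subgroup.orderOf_coe, hk]⟩

/-- the fusion system on the pullback of the distinguished Sylow subgroup is simple -/
theorem fus_simple {G : Type*} [Group G] [Finite G] (e : G ≃* ↥j3Group) (S : Sylow 2 G)
    (hS : ∀ x, x ∈ (S : Subgroup G) ↔ e x ∈ SS) :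
    (groupFusionSystem (S : Subgroup G)).IsSimple 2 := by
  haveI : Fact (Nat.Prime 2) := ⟨Nat.prime_two⟩
  have hz : e (e.symm sH) = sH := e.apply_symm_apply _
  refine group_isSimple_of_generated S (fun h => ?_) (fun U hU => ?_) ?_
  · have hm : e.symm sH ∈ (S : Subgroup G) := (hS _).2 (by rw [hz]; exact QG_le_SS sH_mem_QG)
    rw [h, Subgroup.mem_bot] at hm
    rw [hm, map_one] at hz
    exact sH_ne hz.symm
  · obtain ⟨hUS, hcl⟩ := (group_stronglyClosed_iff S).1 hU
    rcases eq_or_ne U ⊥ with hbot | hbot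
    · exact Or.inl hbot
    right
    haveI : Nontrivial U := (Subgroup.nontrivial_iff_ne_bot U).2 hbot
    obtain ⟨k, hk, hcard⟩ := (S.2.to_le hUS).nontrivial_iff_card.1 inferInstance
    obtain ⟨u, hu⟩ := exists_prime_orderOf_dvd_card' (G := U) 2 (hcard ▸ dvd_pow_self 2 hk.ne')
    rw [← Subgroup.orderOf_coe] at hu
    refine le_antisymm hUS fun x hx => ?_
    have hle : SS ≤ U.map (e : G →* ↥j3Group) := by
      refine SS_gen.trans ((Subgroup.closure_le _).2 ?_)
      rintro y ⟨hy, hyy⟩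
      by_cases h1 : y = 1
      · rw [h1]; exact one_mem _
      have hy2 : orderOf y = 2 := orderOf_eq_prime (by rw [pow_two, hyy]) h1
      obtain ⟨c, hc⟩ := isConj_iff.1 ((isConj_sH (y := e (u : G)) (by rw [MulEquiv.orderOf_eq]; exact hu)).trans
        (isConj_sH hy2).symm)
      have hgx : e (e.symm c * (u : G) * (e.symm c)⁻¹) = y := by
        rw [map_mul, map_mul, map_inv, e.apply_symm_apply, hc]
      exact ⟨_, hcl (e.symm c) u u.2 ((hS _).2 (hgx ▸ hy)), hgx⟩
    obtain ⟨y, hy, he⟩ := hle ((hS x).1 hx)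
    exact e.injective he ▸ hy
  · intro g hg
    set R : Subgroup G := QG.comap (e : G →* ↥j3Group) with hR
    have hRS : R ≤ (S : Subgroup G) := fun x hx => (hS x).2 (QG_le_SS hx)
    have hnR : ∀ c, e c ∈ CS → c ∈ Subgroup.normalizer (R : Set G) := fun c hc =>
      Subgroup.mem_normalizer_iff.2 fun x => by
        constructor
        · intro hx
          show e (c * x * c⁻¹) ∈ QG
          rw [map_mul, map_mul, map_inv]
          exact QG_normalized hc hx
        · intro hx
          show e x ∈ QG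
          have h := QG_normalized (inv_mem hc) (show e (c * x * c⁻¹) ∈ QG from hx)
          rw [inv_inv, map_mul, map_mul, map_inv] at h
          rwa [show (e c)⁻¹ * (e c * e x * (e c)⁻¹) * e c = e x by group] at h
    have hgz : e g ∈ CS := by
      have hzS : e.symm sH ∈ (S : Subgroup G) := (hS _).2 (by rw [hz]; exact QG_le_SS sH_mem_QG)
      have hmem := (hS _).1 ((Subgroup.mem_normalizer_iff.1 hg _).1 hzS)
      rw [map_mul, map_mul, map_inv, hz] at hmem
      rcases SS_centre hmem (fun y hy => by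
        have hy' : (e g)⁻¹ * y * e g ∈ SS := by
          have h := (hS _).1 ((Subgroup.mem_normalizer_iff''.1 hg (e.symm y)).1
            ((hS _).2 (by rw [e.apply_symm_apply]; exact hy)))
          rwa [map_mul, map_mul, map_inv, e.apply_symm_apply] at h
        have hc := SS_comm_sH hy'
        calc e g * sH * (e g)⁻¹ * y = e g * (sH * ((e g)⁻¹ * y * e g)) * (e g)⁻¹ := by group
          _ = e g * ((e g)⁻¹ * y * e g * sH) * (e g)⁻¹ := by rw [hc]
          _ = y * (e g * sH * (e g)⁻¹) := by group) with h | h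
      · exact absurd (conj_eq_one_iff.1 h) sH_ne
      · exact Subgroup.mem_centralizer_singleton_iff.2 (mul_inv_eq_iff_eq_mul.1 h)
    refine Subgroup.subset_closure ⟨hg, Or.inr (Or.inr ⟨R, ?_, ⟨hRS, fun Q' hQ' => ?_⟩, ?_⟩)⟩
    · exact group_fullyNormalized_of_le_normalizer S hRS fun x hx => hnR x (SS_le_CS ((hS x).1 hx))
    · obtain ⟨-, -, g', rfl⟩ := (group_isConj_iff S).1 hQ'
      intro y hy
      refine ⟨g'⁻¹ * y * g', ?_, by simp [mul_assoc]⟩
      show e (g'⁻¹ * y * g') ∈ QG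
      refine QG_centralizer fun q hq => ?_
      obtain ⟨x, rfl⟩ := e.surjective q
      rw [← map_mul, ← map_mul]
      congr 1
      have h1 : g' * x * g'⁻¹ * y = y * (g' * x * g'⁻¹) :=
        Subgroup.mem_centralizer_iff.1 hy.2 _ ⟨x, hq, rfl⟩
      calc g'⁻¹ * y * g' * x = g'⁻¹ * (y * (g' * x * g'⁻¹)) * g' := by group
        _ = g'⁻¹ * (g' * x * g'⁻¹ * y) * g' := by rw [h1]
        _ = x * (g'⁻¹ * y * g') := by group
    · have hle : CS ≤ (Subgroup.closure
          {g : G | g ∈ Subgroup.normalizer (R : Set G) ∧ ∃ k : ℕ, orderOf g = 2 ^ k}).map (e : G →* ↥j3Group) := by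
        refine CS_gen.trans ((Subgroup.closure_le _).2 ?_)
        rintro y ⟨hy, k, hk⟩
        exact ⟨e.symm y, Subgroup.subset_closure ⟨hnR _ (by rw [e.apply_symm_apply]; exact hy), k,
          by rw [MulEquiv.orderOf_eq, hk]⟩, e.apply_symm_apply y⟩
      obtain ⟨y, hy, he⟩ := hle hgz
      exact e.injective he ▸ hy

/-- the 2-fusion system of any copy of the group is simple on any Sylow 2-subgroup -/
theorem fus_simple_any {G : Type*} [Group G] [Finite G] (e : G ≃* ↥j3Group) (S : Sylow 2 G) :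
    (groupFusionSystem (S : Subgroup G)).IsSimple 2 := by
  haveI : Fact (Nat.Prime 2) := ⟨Nat.prime_two⟩
  let K : Subgroup G := SS.comap (e : G →* ↥j3Group)
  have hK : Nat.card K = 2 ^ (Nat.card G).factorization 2 := by
    rw [show Nat.card K = 128 by
        rw [← Subgroup.card_map_of_injective (f := (e : G →* ↥j3Group)) e.injective,
          Subgroup.map_comap_eq_self_of_surjective e.surjective, card_SS],
      Nat.card_congr e.toEquiv, card_j3Group,
      show (50232960 : ℕ) = 2 ^ 7 * 392445 by norm_num, Nat.factorization_mul (by norm_num) (by norm_num),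
      Finsupp.add_apply, Nat.Prime.factorization_pow Nat.prime_two, Finsupp.single_eq_same,
      Nat.factorization_eq_zero_of_not_dvd (by norm_num : ¬ 2 ∣ 392445)]
    norm_num
  obtain ⟨g, hg⟩ := MulAction.exists_smul_eq G S (Sylow.ofCard K hK)
  refine fus_simple ((MulAut.conj g).trans e) S fun x => ?_
  have h1 : ((g • S : Sylow 2 G) : Subgroup G) = K := by rw [hg]; rfl
  change x ∈ (S : Subgroup G) ↔ g * x * g⁻¹ ∈ K
  rw [← h1, Sylow.coe_subgroup_smul]
  exact (Subgroup.smul_mem_pointwise_smul_iff (a := MulAut.conj g) (S := (S : Subgroup G)) (x := x)).symm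

end Cfsg.Agent.J3Invol
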