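import Cfsg.Agent.Lib.J3Invol.Class
import Cfsg.Prelude.Def_KGroupFacts
import Mathlib.GroupTheory.Index

/-! At most two outer classes of automorphisms. -/

set_option autoImplicit false
set_option maxRecDepth 100000
set_option Elab.async false

namespace Cfsg.Agent.J3Invol

open Cfsg
open Cfsg.Agent.PermCert (allBelow allBelow_spec)
open Cfsg.Agent.RigidGraph (cntB)
open Cfsg.Agent.RigidGraph.J3 (j3Group card_j3Group)

attribute [local irreducible] lets wordVal RigidGraph.J3.nodes RigidGraph.permOf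

/-- the word of the second generator -/
def wT : List ℕ := eWord tIdx

/-- a power of `x` -/
def xW (j : ℕ) : List ℕ := wXs.getD j []

/-- a word in `x ^ j * r`, with exponents multiplied by `e` -/
def tWord (e : ℕ) (r : List ℕ) (l : List ℕ) : List ℕ := l.flatMap fun j => xW (e * j % 17) ++ r

/-- the distinguishing word -/
def testWord (e : ℕ) (r : List ℕ) (l : List ℕ) (m : ℕ) : List ℕ := (List.replicate m (tWord e r l)).flatten

/-- a candidate is `t`, the twin, or is distinguished from `t` -/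
def candOK (e k : ℕ) (c : List ℕ × ℕ) : Bool :=
  bif c.1 == [] then Nat.beq e 1 && (Nat.beq (iRow k).1 tIdx || Nat.beq (iRow k).1 twin.2)
  else (keyOf (testWord 1 wT c.1 c.2) == base) != (keyOf (testWord e (eWord (iRow k).1) c.1 c.2) == base)

/-- both candidates of a listed involution -/
def rowOutOK (k : ℕ) : Bool := candOK 1 k (iRow k).2.2.1 && candOK 3 k (iRow k).2.2.2

/-- a symbol: `x`, `t`, `x⁻¹` -/
def symW (q : ℕ) : List ℕ := [xW 1, wT, xW 16].getD q []

/-- the words and their relations -/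
def outWordsOK : Bool :=
  allBelow (fun j => okWord (xW j)) 17 && keyOf (xW 0) == base &&
  allBelow (fun j => keyOf (xW 1 ++ xW j) == keyOf (xW ((j + 1) % 17))) 17 &&
  !(keyOf (xW 1) == base) && okWord wH && conjOK wH (xW 1) (xW 2) &&
  keyOf (wS ++ xW 1) == keyOf (xW 16 ++ wS) && Nat.blt tIdx 1920 && !(keyOf wT == base) &&
  keyOf (wT ++ wT) == base && commOK wT wS &&
  keyOf ((wNodes.getD 0 []).flatMap symW) == keyOf [0] && keyOf ((wNodes.getD 1 []).flatMap symW) == keyOf [2] &&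
  (wNodes.getD 0 []).all (fun q => Nat.blt q 3) && (wNodes.getD 1 []).all (fun q => Nat.blt q 3) &&
  Nat.beq (alpha.getD 0 0) 0 && Nat.beq (alpha.getD 2 0) 2

theorem rowOut_ok : allBelow rowOutOK 131 = true := by decide +kernel

theorem outWords_ok : outWordsOK = true := by decide +kernel

theorem xConjs_ok : allBelow (conjsOK xConjs (xW 1)) 960 = true := by decide +kernel

theorem xFix : Nat.beq (cntB (fun q => Nat.beq (evW (xW 1) q) q) 6156) 2 = true := by decide +kernel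

theorem xs_lt (q : ℕ) : ∀ i ∈ xW q, i < 8 := by
  have h := outWords_ok
  simp only [outWordsOK, Bool.and_eq_true] at h
  rcases lt_or_ge q 17 with hq | hq
  · exact okWord_mem (allBelow_spec _ _ h.1.1.1.1.1.1.1.1.1.1.1.1.1.1.1.1 q hq)
  · have : wXs.length = 17 := rfl
    intro i hi
    rw [xW, List.getD_eq_default _ _ (this ▸ hq)] at hi
    simp at hi

theorem t_lt : ∀ i ∈ wT, i < 8 := by
  have h := outWords_ok
  simp only [outWordsOK, Bool.and_eq_true, Nat.blt_eq] at h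
  exact (step_spec h.1.1.1.1.1.1.1.1.1.2).1

/-- the element of order 17 -/
noncomputable def xH : ↥j3Group := wordVal (xW 1)

/-- the second generator -/
noncomputable def tH : ↥j3Group := wordVal wT

theorem xs_pow : ∀ j, wordVal (xW (j % 17)) = xH ^ j := by
  intro j
  have h := outWords_ok
  simp only [outWordsOK, Bool.and_eq_true, beq_iff_eq] at h
  induction j with
  | zero => rw [pow_zero, Nat.zero_mod, eq_one_iff (xs_lt 0), h.1.1.1.1.1.1.1.1.1.1.1.1.1.1.1.2]
  | succ j ih =>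
    have h' := allBelow_spec _ _ h.1.1.1.1.1.1.1.1.1.1.1.1.1.1.2 (j % 17) (Nat.mod_lt _ (by norm_num))
    rw [show (j % 17 + 1) % 17 = (j + 1) % 17 by omega] at h'
    rw [pow_succ', ← ih, xH, ← wordVal_append]
    exact (eq_of_key (append_lt (xs_lt _) (xs_lt _)) (xs_lt _) (beq_iff_eq.1 h')).symm

theorem orderOf_x : orderOf xH = 17 := by
  have : Fact (Nat.Prime 17) := ⟨by norm_num⟩
  refine orderOf_eq_prime ?_ ?_
  · rw [← xs_pow, Nat.mod_self, ← pow_zero xH, ← xs_pow]
  · have h := outWords_ok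
    simp only [outWordsOK, Bool.and_eq_true, Bool.not_eq_true', beq_eq_false_iff_ne] at h
    exact fun e => h.1.1.1.1.1.1.1.1.1.1.1.1.1.2 ((eq_one_iff (xs_lt 1)).1 e)

theorem centralizer_x {c : ↥j3Group} (hc : c * xH = xH * c) : ∃ i : ℕ, c = xH ^ i := by
  have hle : Subgroup.zpowers xH ≤ Subgroup.centralizer ({xH} : Set ↥j3Group) := by
    rw [Subgroup.zpowers_le, Subgroup.mem_centralizer_singleton_iff]
  have hb := class_bound (xs_lt 1) xConjs_ok xFix
  rw [← xH] at hb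
  have heq := Subgroup.eq_of_le_of_card_ge hle (by rw [Nat.card_zpowers, orderOf_x]; omega)
  have hm : c ∈ Subgroup.zpowers xH := heq ▸ Subgroup.mem_centralizer_singleton_iff.2 hc
  obtain ⟨i, hi⟩ := (Submonoid.mem_powers_iff _ _).1 (mem_powers_iff_mem_zpowers.2 hm)
  exact ⟨i, hi.symm⟩

/-- the element conjugating `x` to its square -/
noncomputable def hH : ↥j3Group := wordVal wH

theorem hH_x : hH * xH * hH⁻¹ = xH ^ 2 := by
  have h := outWords_ok
  simp only [outWordsOK, Bool.and_eq_true] at h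
  rw [mul_inv_eq_iff_eq_mul, ← xs_pow 2]
  exact conjOK_spec (okWord_mem h.1.1.1.1.1.1.1.1.1.1.1.1.2) (xs_lt 1) (xs_lt 2) h.1.1.1.1.1.1.1.1.1.1.1.2

theorem hH_pow : ∀ i : ℕ, hH ^ i * xH * (hH ^ i)⁻¹ = xH ^ 2 ^ i := by
  intro i
  induction i with
  | zero => simp
  | succ i ih =>
    rw [pow_succ', mul_inv_rev, show hH * hH ^ i * xH * ((hH ^ i)⁻¹ * hH⁻¹) = hH * (hH ^ i * xH * (hH ^ i)⁻¹) * hH⁻¹ by group,
      ih, ← conj_pow, hH_x, ← pow_mul, mul_comm, ← pow_succ]

theorem sH_x : sH * xH * sH⁻¹ = xH⁻¹ := by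
  have h := outWords_ok
  simp only [outWordsOK, Bool.and_eq_true] at h
  have e : sH * xH = xH ^ 16 * sH := by
    rw [sH, xH, ← wordVal_append, ← xH, ← xs_pow 16, ← wordVal_append]
    exact eq_of_key (append_lt start_spec.1 (xs_lt 1)) (append_lt (xs_lt _) start_spec.1)
      (beq_iff_eq.1 h.1.1.1.1.1.1.1.1.1.1.2)
  rw [e, mul_inv_cancel_right]
  refine eq_inv_of_mul_eq_one_left ?_
  rw [← pow_succ]
  conv_rhs => rw [← pow_orderOf_eq_one xH, orderOf_x]

theorem sH_inv : sH⁻¹ = sH := inv_eq_of_mul_eq_one_right sH_sq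

theorem pow_half (k : ℕ) : (xH ^ (8 * k)) * sH * (xH ^ (8 * k))⁻¹ = sH * xH ^ k := by
  have h1 : ∀ m : ℕ, xH ^ m * sH = sH * (xH ^ m)⁻¹ := fun m => by
    have e : sH * xH ^ m * sH⁻¹ = (xH ^ m)⁻¹ := by
      have := congrArg (fun a => a ^ m) sH_x
      simpa [conj_pow, inv_pow] using this
    rw [← e, sH_inv, ← mul_assoc, ← mul_assoc, sH_sq, one_mul]
  rw [h1, mul_assoc, ← mul_inv_rev, ← pow_add]
  congr 1
  refine inv_eq_of_mul_eq_one_left ?_
  rw [← pow_add, ← orderOf_dvd_iff_pow_eq_one, orderOf_x]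
  omega

theorem map_xW (φ : MulAut ↥j3Group) {e : ℕ} (hx : φ xH = xH ^ e) (j : ℕ) :
    φ (wordVal (xW (1 * j % 17))) = wordVal (xW (e * j % 17)) := by
  rw [one_mul, xs_pow, xs_pow, map_pow, hx, ← pow_mul]

theorem tWord_lt {r : List ℕ} (hr : ∀ i ∈ r, i < 8) (e : ℕ) (l : List ℕ) : ∀ i ∈ tWord e r l, i < 8 := by
  intro i hi
  obtain ⟨j, -, hj⟩ := List.mem_flatMap.1 hi
  exact append_lt (xs_lt _) hr i hj

theorem testWord_lt {r : List ℕ} (hr : ∀ i ∈ r, i < 8) (e : ℕ) (l : List ℕ) (m : ℕ) :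
    ∀ i ∈ testWord e r l m, i < 8 := by
  intro i hi
  obtain ⟨w, hw, hiw⟩ := List.mem_flatten.1 hi
  rw [List.eq_of_mem_replicate hw] at hiw
  exact tWord_lt hr e l i hiw

theorem map_tWord (φ : MulAut ↥j3Group) {e : ℕ} (hx : φ xH = xH ^ e) {r r' : List ℕ}
    (hr : φ (wordVal r) = wordVal r') :
    ∀ l : List ℕ, φ (wordVal (tWord 1 r l)) = wordVal (tWord e r' l) := by
  intro l
  induction l with
  | nil => simp [tWord, val_nil]
  | cons j l ih =>
    simp only [tWord, List.flatMap_cons] at ih ⊢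
    rw [wordVal_append, wordVal_append, wordVal_append, wordVal_append, map_mul, map_mul, ih, map_xW φ hx, hr]

theorem map_testWord (φ : MulAut ↥j3Group) {e : ℕ} (hx : φ xH = xH ^ e) {r r' : List ℕ}
    (hr : φ (wordVal r) = wordVal r') (l : List ℕ) :
    ∀ m : ℕ, φ (wordVal (testWord 1 r l m)) = wordVal (testWord e r' l m) := by
  intro m
  induction m with
  | zero => simp [testWord, val_nil]
  | succ m ih =>
    simp only [testWord, List.replicate_succ, List.flatten_cons] at ih ⊢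
    rw [wordVal_append, wordVal_append, map_mul, ih, map_tWord φ hx hr]

/-- automorphisms fixing `s` and sending `x` to itself or its cube -/
def Norm (φ : MulAut ↥j3Group) : Prop := (φ xH = xH ∨ φ xH = xH ^ 3) ∧ φ sH = sH

theorem image_t {φ : MulAut ↥j3Group} (h : Norm φ) :
    φ xH = xH ∧ (φ tH = tH ∨ φ tH = wordVal (eWord twin.2)) := by
  obtain ⟨e, he, hx⟩ : ∃ e, (e = 1 ∨ e = 3) ∧ φ xH = xH ^ e := by
    rcases h.1 with h1 | h1
    · exact ⟨1, Or.inl rfl, by rw [pow_one]; exact h1⟩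
    · exact ⟨3, Or.inr rfl, h1⟩
  have hw := outWords_ok
  simp only [outWordsOK, Bool.and_eq_true, Bool.not_eq_true', beq_eq_false_iff_ne, beq_iff_eq] at hw
  have ht1 : tH ≠ 1 := fun e' => hw.1.1.1.1.1.1.1.1.2 ((eq_one_iff t_lt).1 e')
  have htt : tH * tH = 1 := by
    rw [tH, ← wordVal_append, eq_one_iff (append_lt t_lt t_lt)]
    exact hw.1.1.1.1.1.1.1.2
  have hts : tH * sH = sH * tH := (commOK_iff t_lt start_spec.1).1 hw.1.1.1.1.1.1.2
  have hu : φ tH ∈ Subgroup.centralizer ({sH} : Set ↥j3Group) := by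
    rw [Subgroup.mem_centralizer_singleton_iff]
    conv_rhs => rw [← h.2]
    conv_lhs => rw [← h.2]
    rw [← map_mul, ← map_mul, hts]
  obtain ⟨k, hk, ek⟩ := exists_row hu (by rw [← map_mul, htt, map_one])
    (fun e' => ht1 (φ.injective (by rw [e', map_one])))
  have hcand := allBelow_spec _ _ rowOut_ok k hk
  simp only [rowOutOK, Bool.and_eq_true] at hcand
  obtain ⟨c, hc⟩ : ∃ c, candOK e k c = true := by
    rcases he with rfl | rfl
    · exact ⟨_, hcand.1⟩
    · exact ⟨_, hcand.2⟩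
  have hlt := (step_spec (row_spec hk).1).1
  simp only [candOK] at hc
  by_cases hl : c.1 = []
  · rw [show (c.1 == []) = true from beq_iff_eq.2 hl, cond_true, Bool.and_eq_true, Bool.or_eq_true, Nat.beq_eq,
      Nat.beq_eq, Nat.beq_eq] at hc
    refine ⟨by rw [hx, hc.1, pow_one], hc.2.imp (fun h' => ?_) fun h' => ?_⟩
    · rw [ek, h']; rfl
    · rw [ek, h']
  · rw [show (c.1 == []) = false from beq_eq_false_iff_ne.2 hl, cond_false] at hc
    exfalso
    have em := map_testWord φ hx (r := wT) ek c.1 c.2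
    have hiff : (keyOf (testWord 1 wT c.1 c.2) == base) =
        (keyOf (testWord e (eWord (iRow k).1) c.1 c.2) == base) := by
      rw [Bool.eq_iff_iff, beq_iff_eq, beq_iff_eq, ← eq_one_iff (testWord_lt t_lt _ _ _),
        ← eq_one_iff (testWord_lt hlt _ _ _), ← em]
      exact ⟨fun h0 => by rw [h0, map_one], fun h0 => φ.injective (by rw [h0, map_one])⟩
    rw [hiff] at hc
    simp at hc

theorem ext_of {φ ψ : MulAut ↥j3Group} (hx : φ xH = ψ xH) (ht : φ tH = ψ tH) : φ = ψ := by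
  have hw := outWords_ok
  simp only [outWordsOK, Bool.and_eq_true, beq_iff_eq, List.all_eq_true, Nat.blt_eq, Nat.beq_eq] at hw
  obtain ⟨⟨⟨⟨⟨⟨-, n0⟩, n1⟩, q0⟩, q1⟩, a0⟩, a2⟩ := hw
  have h16 : φ (wordVal (xW 16)) = ψ (wordVal (xW 16)) := by
    rw [show (16 : ℕ) = 16 % 17 from rfl, xs_pow, map_pow, map_pow, hx]
  have hsym : ∀ q < 3, φ (wordVal (symW q)) = ψ (wordVal (symW q)) := by
    intro q hq
    interval_cases q
    · exact hx
    · exact ht
    · exact h16
  have hflat : ∀ u : List ℕ, (∀ q ∈ u, q < 3) →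
      φ (wordVal (u.flatMap symW)) = ψ (wordVal (u.flatMap symW)) := by
    intro u
    induction u with
    | nil => intro _; rw [List.flatMap_nil, val_nil, map_one, map_one]
    | cons q u ih =>
      intro hu
      rw [List.flatMap_cons, wordVal_append, map_mul, map_mul, hsym q (hu q List.mem_cons_self),
        ih fun r hr => hu r (List.mem_cons_of_mem _ hr)]
  have hflt : ∀ u : List ℕ, ∀ i ∈ u.flatMap symW, i < 8 := by
    intro u i hi
    obtain ⟨q, -, hq⟩ := List.mem_flatMap.1 hi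
    unfold symW at hq
    rcases q with _ | _ | _ | q
    · exact xs_lt 1 i hq
    · exact t_lt i hq
    · exact xs_lt 16 i hq
    · simp at hq
  have h8 : ∀ a : ℕ, a < 8 → ∀ i ∈ [a], i < 8 := fun a ha i hi => (List.mem_singleton.1 hi) ▸ ha
  have hgen : ∀ a, (a = 0 ∨ a = 2) → φ (gen a) = ψ (gen a) := by
    intro a ha
    have e : gen a = wordVal [a] := by simp [wordVal]
    rcases ha with rfl | rfl <;> rw [e]
    · rw [← eq_of_key (hflt _) (h8 0 (by norm_num)) n0]; exact hflat _ q0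
    · rw [← eq_of_key (hflt _) (h8 2 (by norm_num)) n1]; exact hflat _ q1
  have g0 : (gen 0 : Equiv.Perm (Fin 6156)) = RigidGraph.permOf 6156 (RigidGraph.J3.nodes.getD 0 (0, 0)) := by
    rw [gen_val (by norm_num), a0]; rfl
  have g1 : (gen 2 : Equiv.Perm (Fin 6156)) = RigidGraph.permOf 6156 (RigidGraph.J3.nodes.getD 1 (0, 0)) := by
    rw [gen_val (by norm_num), a2]; rfl
  refine MulEquiv.ext fun g => ?_
  obtain ⟨g, hg⟩ := g
  induction hg using Subgroup.closure_induction with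
  | mem y hy =>
    rcases hy with rfl | hy
    · have := hgen 0 (Or.inl rfl)
      exact (congrArg φ (Subtype.ext g0.symm)).trans (this.trans (congrArg ψ (Subtype.ext g0)))
    · rw [Set.mem_singleton_iff] at hy
      subst hy
      have := hgen 2 (Or.inr rfl)
      exact (congrArg φ (Subtype.ext g1.symm)).trans (this.trans (congrArg ψ (Subtype.ext g1)))
  | one => exact (map_one φ).trans (map_one ψ).symm
  | mul a b ha hb iha ihb =>
    exact (map_mul φ ⟨a, ha⟩ ⟨b, hb⟩).trans ((congrArg₂ (· * ·) iha ihb).trans (map_mul ψ ⟨a, ha⟩ ⟨b, hb⟩).symm)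
  | inv a ha iha =>
    exact (map_inv φ ⟨a, ha⟩).trans ((congrArg (·⁻¹) iha).trans (map_inv ψ ⟨a, ha⟩).symm)

theorem exists_two_pow : ∀ j < 17, j ≠ 0 → ∃ i < 8, ∃ e ∈ [1, 3], 2 ^ i * e % 17 = j := by decide +kernel

theorem sylow_conj (φ : MulAut ↥j3Group) : ∃ g : ↥j3Group, ∃ j : ℕ, j % 17 ≠ 0 ∧ φ xH = g * xH ^ j * g⁻¹ := by
  have : Fact (Nat.Prime 17) := ⟨by norm_num⟩
  have hf : (Nat.card ↥j3Group).factorization 17 = 1 := by
    rw [card_j3Group]
    refine le_antisymm ?_ ((Nat.Prime.dvd_iff_one_le_factorization (by norm_num) (by norm_num)).1 (by norm_num))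
    by_contra hlt
    have : 17 ^ 2 ∣ (50232960 : ℕ) :=
      (Nat.Prime.pow_dvd_iff_le_factorization (by norm_num) (by norm_num)).2 (by omega)
    norm_num at this
  have hP : ∀ z : ↥j3Group, orderOf z = 17 →
      Nat.card (Subgroup.zpowers z) = 17 ^ (Nat.card ↥j3Group).factorization 17 :=
    fun z hz => by rw [Nat.card_zpowers, hz, hf, pow_one]
  have hz : orderOf (φ xH) = 17 := by rw [← orderOf_x]; exact MulEquiv.orderOf_eq φ xH
  obtain ⟨g, hg⟩ := MulAction.exists_smul_eq ↥j3Group (Sylow.ofCard _ (hP _ orderOf_x)) (Sylow.ofCard _ (hP _ hz))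
  have hmem : φ xH ∈ (Subgroup.zpowers xH).map (MulAut.conj g).toMonoidHom := by
    have h2 : (((g • Sylow.ofCard _ (hP _ orderOf_x) : Sylow 17 ↥j3Group)) : Subgroup ↥j3Group) =
        Subgroup.zpowers (φ xH) := by rw [hg]; rfl
    have h3 : (((g • Sylow.ofCard _ (hP _ orderOf_x) : Sylow 17 ↥j3Group)) : Subgroup ↥j3Group) =
        (Subgroup.zpowers xH).map (MulAut.conj g).toMonoidHom := rfl
    rw [← h3, h2]
    exact Subgroup.mem_zpowers _
  obtain ⟨y, hy, e⟩ := Subgroup.mem_map.1 hmem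
  obtain ⟨j, rfl⟩ := (Submonoid.mem_powers_iff _ _).1 ((mem_powers_iff_mem_zpowers).2 hy)
  refine ⟨g, j, fun h0 => ?_, e.symm.trans (MulAut.conj_apply g _)⟩
  have h1 : φ xH = 1 := by
    rw [← e, ← pow_mod_orderOf, orderOf_x, h0, pow_zero, map_one]
  rw [h1, orderOf_one] at hz
  norm_num at hz

/-- every automorphism is a normalised one up to an inner one -/
theorem exists_norm (φ : MulAut ↥j3Group) : ∃ ψ, Norm ψ ∧ φ⁻¹ * ψ ∈ Inn ↥j3Group := by
  obtain ⟨g, j, hj, hg⟩ := sylow_conj φ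
  obtain ⟨i, -, e, he, hie⟩ := exists_two_pow (j % 17) (Nat.mod_lt _ (by norm_num)) hj
  set c : ↥j3Group := g * hH ^ i with hc
  set φ1 : MulAut ↥j3Group := MulAut.conj c⁻¹ * φ with hφ1
  have hx1 : φ1 xH = xH ^ e := by
    have e1 : xH ^ j = hH ^ i * xH ^ e * (hH ^ i)⁻¹ := by
      rw [← conj_pow, hH_pow, ← pow_mul, ← pow_mod_orderOf xH j, ← pow_mod_orderOf xH (2 ^ i * e), orderOf_x, hie]
    rw [hφ1, MulAut.mul_apply, hg, MulAut.conj_apply, e1, hc]
    group
  have he17 : ¬ (17 ∣ e) := by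
    rcases List.mem_cons.1 he with rfl | he
    · norm_num
    · rcases List.mem_singleton.1 he with rfl; norm_num
  have hinv : φ1 sH * xH * (φ1 sH)⁻¹ = xH⁻¹ := by
    obtain ⟨f, hf⟩ : ∃ f : ℕ, (xH ^ e) ^ f = xH := by
      obtain ⟨f, -, hf⟩ := Nat.exists_mul_mod_eq_one_of_coprime
        (Nat.Coprime.symm ((Nat.Prime.coprime_iff_not_dvd (p := 17) (by norm_num)).2 he17)) (by norm_num)
      refine ⟨f, ?_⟩
      rw [← pow_mul, ← pow_mod_orderOf, orderOf_x, hf, pow_one]
    have h1 : φ1 sH * xH ^ e * (φ1 sH)⁻¹ = (xH ^ e)⁻¹ := by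
      rw [← hx1, ← map_inv, ← map_mul, ← map_mul, sH_x, map_inv]
    have h2 := congrArg (fun a => a ^ f) h1
    simp only [conj_pow, inv_pow] at h2
    rwa [hf] at h2
  have hcx : (sH * φ1 sH) * xH = xH * (sH * φ1 sH) := by
    have h1 : φ1 sH * xH = xH⁻¹ * φ1 sH := mul_inv_eq_iff_eq_mul.1 hinv
    have h2 : sH * xH⁻¹ = xH * sH := by
      have := congrArg (·⁻¹) sH_x
      simp only [mul_inv_rev, inv_inv, ← mul_assoc] at this
      exact mul_inv_eq_iff_eq_mul.1 this
    rw [mul_assoc, h1, ← mul_assoc, h2, mul_assoc]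
  obtain ⟨k, hk⟩ := centralizer_x hcx
  have hs1 : φ1 sH = sH * xH ^ k := by rw [← hk, ← mul_assoc, sH_sq, one_mul]
  refine ⟨MulAut.conj (xH ^ (8 * k))⁻¹ * φ1, ⟨?_, ?_⟩, ?_⟩
  · have : (MulAut.conj (xH ^ (8 * k))⁻¹ * φ1) xH = xH ^ e := by
      rw [MulAut.mul_apply, hx1, MulAut.conj_apply, inv_inv, mul_assoc, ← pow_add, add_comm, pow_add,
        inv_mul_cancel_left]
    rcases List.mem_cons.1 he with rfl | he
    · left; rw [this, pow_one]
    · right; rcases List.mem_singleton.1 he with rfl; exact this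
  · rw [MulAut.mul_apply, hs1, ← pow_half, MulAut.conj_apply]
    group
  · rw [hφ1, show φ⁻¹ * (MulAut.conj (xH ^ (8 * k))⁻¹ * (MulAut.conj c⁻¹ * φ)) =
      φ⁻¹ * (MulAut.conj (xH ^ (8 * k))⁻¹ * MulAut.conj c⁻¹) * φ by group, ← map_mul]
    exact (inferInstance : (Inn ↥j3Group).Normal).conj_mem' _ ⟨_, rfl⟩ φ

theorem card_out_le : Nat.card (Out ↥j3Group) ≤ 2 := by
  classical
  let f : {φ // Norm φ} → Bool := fun φ => decide (φ.1 tH = tH)
  have hf : Function.Injective f := by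
    rintro ⟨φ, hφ⟩ ⟨ψ, hψ⟩ e
    obtain ⟨hx, ht⟩ := image_t hφ
    obtain ⟨hx', ht'⟩ := image_t hψ
    refine Subtype.ext (ext_of (hx.trans hx'.symm) ?_)
    simp only [f, decide_eq_decide] at e
    by_cases h : φ tH = tH
    · rw [h, e.1 h]
    · rw [ht.resolve_left h, ht'.resolve_left fun h' => h (e.2 h')]
  calc Nat.card (Out ↥j3Group) ≤ Nat.card {φ // Norm φ} := by
        haveI : Finite {φ // Norm φ} := Finite.of_injective f hf
        refine Nat.card_le_card_of_surjective (fun φ => (QuotientGroup.mk φ.1 : Out ↥j3Group)) fun o => ?_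
        obtain ⟨φ, rfl⟩ := QuotientGroup.mk_surjective o
        obtain ⟨ψ, hψ, hi⟩ := exists_norm φ
        exact ⟨⟨ψ, hψ⟩, (QuotientGroup.eq.2 hi).symm⟩
    _ ≤ 2 := by simpa using Nat.card_le_card_of_injective f hf

end Cfsg.Agent.J3Invol
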