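import Cfsg.Agent.Lib.J3Invol.OutAut

/-! The outer automorphism group has order 2. -/

set_option autoImplicit false
set_option maxRecDepth 100000
set_option Elab.async false

namespace Cfsg.Agent.J3Invol

open Cfsg
open Cfsg.Agent.RigidGraph (allB allB_spec permOf autG)
open Cfsg.Agent.RigidGraph.J3 (j3Group card_j3Group graph outer outer_aut outer_odd gen0_even gen1_even)

attribute [local irreducible] lets wordVal RigidGraph.J3.nodes permOf graph outer RigidGraph.J3.rowsO

/-- two letters have only the first point in common as a fixed point -/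
noncomputable def fixOK : Bool :=
  allB (fun q => Nat.beq q 0 || !(Nat.beq (evW [4] q) q && Nat.beq (evW [5] q) q)) 6156 &&
    Nat.beq (evW [4] 0) 0 && Nat.beq (evW [5] 0) 0

theorem fix_ok : fixOK = true := by decide +kernel

theorem index_two : (j3Group.subgroupOf (autG 6156 graph)).index = 2 := by
  have h := Subgroup.card_mul_index (j3Group.subgroupOf (autG 6156 graph))
  rw [Nat.card_congr (Subgroup.subgroupOfEquivOfLe RigidGraph.J3.j3Group_lt.le).toEquiv, card_j3Group] at h
  have h1 := RigidGraph.J3.card_autG_le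
  have hne : (j3Group.subgroupOf (autG 6156 graph)).index ≠ 1 := fun e =>
    RigidGraph.J3.j3Group_lt.not_ge (Subgroup.subgroupOf_eq_top.1 (Subgroup.index_eq_one.1 e))
  have hpos : 0 < Nat.card ↥(autG 6156 graph) := Nat.card_pos
  rcases Nat.lt_trichotomy (j3Group.subgroupOf (autG 6156 graph)).index 2 with h2 | h2 | h2
  · interval_cases ((j3Group.subgroupOf (autG 6156 graph)).index)
    · omega
    · exact absurd rfl hne
  · exact h2
  · nlinarith

theorem conj_mem {g : Equiv.Perm (Fin 6156)} (hg : g ∈ j3Group) :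
    permOf 6156 outer * g * (permOf 6156 outer)⁻¹ ∈ j3Group := by
  have hn := Subgroup.normal_of_index_eq_two index_two
  exact hn.conj_mem ⟨g, RigidGraph.J3.j3Group_lt.le hg⟩ hg ⟨_, outer_aut⟩

/-- conjugation by the outer permutation -/
noncomputable def outerHom : ↥j3Group →* ↥j3Group where
  toFun g := ⟨permOf 6156 outer * g * (permOf 6156 outer)⁻¹, conj_mem g.2⟩
  map_one' := Subtype.ext (by simp)
  map_mul' a b := Subtype.ext (by simp [mul_assoc])

/-- the outer automorphism -/
noncomputable def outerAut : MulAut ↥j3Group :=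
  MulEquiv.ofBijective outerHom (Finite.injective_iff_bijective.1 fun a b e => by
    have := congrArg (fun g : ↥j3Group => (g : Equiv.Perm (Fin 6156))) e
    simpa [outerHom] using this)

theorem outerAut_not_inner : outerAut ∉ Inn ↥j3Group := by
  rintro ⟨c, hc⟩
  set z : Equiv.Perm (Fin 6156) := (c : Equiv.Perm (Fin 6156))⁻¹ * permOf 6156 outer with hz
  have hcomm : ∀ g : ↥j3Group, z * g = g * z := fun g => by
    have := congrArg (fun φ : MulAut ↥j3Group => ((φ g : ↥j3Group) : Equiv.Perm (Fin 6156))) hc
    change ((c * g * c⁻¹ : ↥j3Group) : Equiv.Perm (Fin 6156)) =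
      permOf 6156 outer * g * (permOf 6156 outer)⁻¹ at this
    rw [Subgroup.coe_mul, Subgroup.coe_mul, Subgroup.coe_inv] at this
    rw [hz, mul_assoc, show permOf 6156 outer * (g : Equiv.Perm (Fin 6156)) =
      (permOf 6156 outer * g * (permOf 6156 outer)⁻¹) * permOf 6156 outer by group, ← this]
    group
  have hf := fix_ok
  simp only [fixOK, Bool.and_eq_true, Bool.or_eq_true, Bool.not_eq_true', Nat.beq_eq] at hf
  obtain ⟨⟨hall, h4⟩, h5⟩ := hf
  have hz0 : z 0 = 0 := by
    have hh : ∀ a, a < 8 → evW [a] 0 = 0 → evW [a] (z 0 : ℕ) = (z 0 : ℕ) := fun a ha e => by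
      have hw : ∀ i ∈ [a], i < 8 := fun i hi => (List.mem_singleton.1 hi) ▸ ha
      have h0 : ((wordVal [a] : ↥j3Group) : Equiv.Perm (Fin 6156)) 0 = 0 := Fin.ext ((act_word _ hw 0).trans e)
      rw [← act_word _ hw (z 0)]
      have := congrArg (fun p : Equiv.Perm (Fin 6156) => p 0) (hcomm (wordVal [a]))
      simp only [Equiv.Perm.mul_apply, h0] at this
      rw [← this]
    have hq := allB_spec hall (z 0).2
    simp only [Bool.or_eq_true, Bool.not_eq_true', Nat.beq_eq] at hq
    rcases hq with hq | hq
    · exact Fin.ext hq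
    · rw [hh 4 (by norm_num) h4, hh 5 (by norm_num) h5, Nat.beq_refl] at hq
      exact Bool.noConfusion hq
  have hz1 : z = 1 := Equiv.ext fun q => by
    have := RigidGraph.J3.pretransitive_j3Group
    obtain ⟨g, hg⟩ := MulAction.exists_smul_eq ↥j3Group (0 : Fin 6156) q
    rw [← hg, smul_eq, Equiv.Perm.one_apply]
    have := congrArg (fun p : Equiv.Perm (Fin 6156) => p 0) (hcomm g)
    simp only [Equiv.Perm.mul_apply, hz0] at this
    exact this
  have hle : j3Group ≤ RigidGraph.evenLoc (RigidGraph.row 6156 85 RigidGraph.J3.rowsO RigidGraph.J3.row_bound) := by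
    rw [j3Group, RigidGraph.grp, Subgroup.closure_le, Set.insert_subset_iff, Set.singleton_subset_iff]
    exact ⟨gen0_even, gen1_even⟩
  rw [hz, inv_mul_eq_one] at hz1
  exact outer_odd (hz1 ▸ hle c.2)

theorem card_out : Nat.card (Out ↥j3Group) = 2 := by
  refine le_antisymm card_out_le ?_
  have : Nontrivial (Out ↥j3Group) :=
    ⟨⟨QuotientGroup.mk outerAut, 1, fun e => outerAut_not_inner ((QuotientGroup.eq_one_iff _).1 e)⟩⟩
  exact Finite.one_lt_card

end Cfsg.Agent.J3Invol
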