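import Cfsg.Agent.Lib.J3Invol.Centraliser
import Cfsg.Agent.Lib.LargeExtra.Basic
import Cfsg.Prelude.Def_Transfer
import Mathlib.GroupTheory.Sylow
import Mathlib.GroupTheory.Complement
import Mathlib.GroupTheory.QuotientGroup.Basic

/-! The centraliser of the involution is a split extension of an extraspecial group of order 32 by `A₅`. -/

set_option autoImplicit false
set_option maxRecDepth 100000
set_option Elab.async false

namespace Cfsg.Agent.J3Invol

open Cfsg.Agent.PermCert (allBelow allBelow_spec)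
open Cfsg.Agent.RigidGraph.J3 (j3Group card_j3Group)
open Cfsg.Agent.LargeExtra (isExtraspecial_of)
open scoped commutatorElement

attribute [local irreducible] lets wordVal

/-- a member of the kernel -/
def qW (k : ℕ) : List ℕ := eWord (qIdx.getD k 0)

/-- squares, centre and elementary abelian subgroups of the kernel -/
def qOK : Bool :=
  Nat.beq qIdx.length 32 &&
  allBelow (fun k => Nat.blt (qIdx.getD k 0) 1920 && allBelow (fun v => Nat.beq (sImg (qIdx.getD k 0) v) v) 5) 32 &&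
  allBelow (fun i => !(allBelow (fun v => Nat.beq (sImg i v) v) 5) || qIdx.contains i) 1920 &&
  ((List.range 32).any fun k => keyOf (qW k) == keyOf wS) &&
  ((List.range 32).any fun j => (List.range 32).any fun k => !commOK (qW j) (qW k)) &&
  allBelow (fun k => keyOf (qW k ++ qW k) == base || keyOf (qW k ++ qW k) == keyOf wS) 32 &&
  allBelow (fun k => keyOf (qW k) == base || keyOf (qW k) == keyOf wS ||
    (List.range 32).any fun j => !commOK (qW k) (qW j)) 32 &&
  allBelow (fun a => !(keyOf (qW a ++ qW a) == base) || keyOf (qW a) == base ||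
    allBelow (fun b => !(keyOf (qW b ++ qW b) == base) || keyOf (qW b) == base || keyOf (qW b) == keyOf (qW a) ||
      !commOK (qW a) (qW b) ||
      allBelow (fun c => !(keyOf (qW c ++ qW c) == base) || !commOK (qW a) (qW c) || !commOK (qW b) (qW c) ||
        keyOf (qW c) == base || keyOf (qW c) == keyOf (qW a) || keyOf (qW c) == keyOf (qW b) ||
        keyOf (qW c) == keyOf (qW a ++ qW b)) 32) 32) 32

theorem q_ok : qOK = true := by decide +kernel

theorem qW_lt {k : ℕ} (hk : k < 32) : ∀ a ∈ qW k, a < 8 := by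
  have h := q_ok
  simp only [qOK, Bool.and_eq_true] at h
  have h' := allBelow_spec _ _ h.1.1.1.1.1.1.2 k hk
  simp only [Bool.and_eq_true, Nat.blt_eq] at h'
  exact (step_spec h'.1).1

/-- the centraliser -/
noncomputable abbrev CS : Subgroup ↥j3Group := Subgroup.centralizer ({sH} : Set ↥j3Group)

theorem range_fst : ((MonoidHom.fst ↥j3Group (Equiv.Perm (Fin 5))).comp (pairs 3).subtype).range = CS := by
  rw [MonoidHom.range_comp, Subgroup.range_subtype, map_fst]

theorem mem_CS {d : ↥j3Group × Equiv.Perm (Fin 5)} (hd : d ∈ pairs 3) : d.1 ∈ CS := by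
  show d.1 ∈ Subgroup.centralizer ({sH} : Set ↥j3Group)
  rw [← map_fst]
  exact Subgroup.mem_map_of_mem _ hd

theorem allBelow_of {f : ℕ → Bool} : ∀ {n : ℕ}, (∀ i < n, f i = true) → allBelow f n = true := by
  intro n
  induction n with
  | zero => intro _; rfl
  | succ n ih =>
    intro h
    have h1 := ih fun i hi => h i (by omega)
    simp only [allBelow] at h1 ⊢
    rw [h1, h n (by omega)]; rfl

/-- the action on five points -/
noncomputable def rho : ↥CS →* Equiv.Perm (Fin 5) :=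
  (((MonoidHom.snd ↥j3Group (Equiv.Perm (Fin 5))).comp (pairs 3).subtype).comp
    (((MonoidHom.ofInjective fst_inj).trans (MulEquiv.subgroupCongr range_fst)).symm.toMonoidHom))

theorem rho_spec (c : ↥CS) : ∃ i < 1920, (c : ↥j3Group) = wordVal (eWord i) ∧
    ∀ v : Fin 5, (rho c v : ℕ) = sImg i v := by
  set e := (MonoidHom.ofInjective fst_inj).trans (MulEquiv.subgroupCongr range_fst) with he
  obtain ⟨d, rfl⟩ := e.surjective c
  obtain ⟨i, ⟨hi, hk, hm⟩, -⟩ := exists_matches le_rfl d.2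
  refine ⟨i, hi, ?_, fun v => ?_⟩
  · refine keyG_inj ?_
    rw [keyG_word (step_spec hi).1]
    exact hk
  · have : rho (e d) = (d : ↥j3Group × Equiv.Perm (Fin 5)).2 := by simp [rho, e]
    rw [this, hm]

theorem rho_pair {d : ↥j3Group × Equiv.Perm (Fin 5)} (hd : d ∈ pairs 3) (h : d.1 ∈ CS) : rho ⟨d.1, h⟩ = d.2 := by
  set e := (MonoidHom.ofInjective fst_inj).trans (MulEquiv.subgroupCongr range_fst) with he
  have : e.symm ⟨d.1, h⟩ = ⟨d, hd⟩ := e.symm_apply_eq.2 (Subtype.ext rfl)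
  simp [rho, ← he, this]

/-- the normal subgroup -/
noncomputable abbrev QS : Subgroup ↥CS := rho.ker

/-- the complement -/
noncomputable def HS : Subgroup ↥CS :=
  ((pairs 2).map (MonoidHom.fst ↥j3Group (Equiv.Perm (Fin 5)))).subgroupOf CS

theorem pairs_mono : pairs 2 ≤ pairs 3 :=
  Subgroup.closure_mono fun _ ⟨g, hg, e⟩ => ⟨g, by omega, e⟩

theorem rho_HS {c : ↥CS} (hc : c ∈ HS) : ∃ d ∈ pairs 2, d.1 = (c : ↥j3Group) ∧ rho c = d.2 := by
  rw [HS, Subgroup.mem_subgroupOf] at hc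
  obtain ⟨d, hd, e⟩ := Subgroup.mem_map.1 hc
  refine ⟨d, hd, e, ?_⟩
  rw [← rho_pair (pairs_mono hd) (mem_CS (pairs_mono hd))]
  exact congrArg rho (Subtype.ext e.symm)

theorem rho_HS_injective : Function.Injective (rho.comp HS.subtype) := by
  rintro ⟨c, hc⟩ ⟨c', hc'⟩ e
  obtain ⟨d, hd, h1, h2⟩ := rho_HS hc
  obtain ⟨d', hd', h1', h2'⟩ := rho_HS hc'
  obtain ⟨i, ⟨hi, hk, hm⟩, hi60⟩ := exists_matches (by norm_num) hd
  obtain ⟨j, ⟨hj, hk', hm'⟩, hj60⟩ := exists_matches (by norm_num) hd'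
  have e' : d.2 = d'.2 := by rw [← h2, ← h2']; exact e
  have hsig : ∀ v < 5, sImg i v = sImg j v := fun v hv => by
    rw [← hm ⟨v, hv⟩, ← hm' ⟨v, hv⟩, e']
  have hij : i = j := by
    have h := allBelow_spec _ _ (allBelow_spec _ _ sigInj_ok i (hi60 rfl)) j (hj60 rfl)
    simp only [Bool.or_eq_true, Bool.not_eq_true', Nat.beq_eq] at h
    rcases h with h | h
    · exact h
    · exfalso
      have hlt : ∀ k < 60, fld k 6 < 3125 := by
        have : allBelow (fun k => Nat.blt (fld k 6) 3125) 60 = true := by decide +kernel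
        exact fun k hk => Nat.blt_eq ▸ allBelow_spec _ _ this k hk
      have h0 := hsig 0 (by norm_num)
      have h1 := hsig 1 (by norm_num)
      have h2 := hsig 2 (by norm_num)
      have h3 := hsig 3 (by norm_num)
      have h4 := hsig 4 (by norm_num)
      have := hlt i (hi60 rfl)
      have := hlt j (hj60 rfl)
      simp only [sImg, pow_zero, pow_one, show (5 : ℕ) ^ 2 = 25 by norm_num, show (5 : ℕ) ^ 3 = 125 by norm_num,
        show (5 : ℕ) ^ 4 = 625 by norm_num] at h0 h1 h2 h3 h4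
      rw [show fld i 6 = fld j 6 by omega, Nat.beq_refl] at h
      exact Bool.noConfusion h
  subst hij
  exact Subtype.ext (Subtype.ext (h1.symm.trans ((keyG_inj (hk.trans hk'.symm)).trans h1')))

theorem card_HS : 60 ≤ Nat.card HS := by
  choose f hf hm using fun i : Fin 60 => exists_pair i (i.2.trans (by norm_num)) 2 (Or.inr ⟨rfl, i.2⟩)
  have hmem : ∀ i, (f i).1 ∈ CS := fun i => mem_CS (pairs_mono (hf i))
  let φ : Fin 60 → HS := fun i => ⟨⟨(f i).1, hmem i⟩, Subgroup.mem_subgroupOf.2 (Subgroup.mem_map_of_mem _ (hf i))⟩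
  have hφ : Function.Injective φ := fun i j e => Fin.ext (key_inj (i.2.trans (by norm_num)) (j.2.trans (by norm_num)) (by
    have e' : (f i).1 = (f j).1 := congrArg (fun x : HS => ((x : ↥CS) : ↥j3Group)) e
    rw [← (hm i).2.1, ← (hm j).2.1, e']))
  simpa using Nat.card_le_card_of_injective φ hφ

theorem range_rho_le : rho.range ≤ alternatingGroup (Fin 5) := by
  rintro _ ⟨c, rfl⟩
  obtain ⟨d, hd, e⟩ : ∃ d ∈ pairs 3, d.1 = (c : ↥j3Group) := by
    have : (c : ↥j3Group) ∈ Subgroup.centralizer ({sH} : Set ↥j3Group) := c.2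
    rw [← map_fst] at this
    obtain ⟨d, hd, e⟩ := Subgroup.mem_map.1 this
    exact ⟨d, hd, e⟩
  have : rho c = d.2 := by rw [← rho_pair hd (e ▸ c.2)]; exact congrArg rho (Subtype.ext e.symm)
  rw [this]
  have hle : pairs 3 ≤ (alternatingGroup (Fin 5)).comap (MonoidHom.snd ↥j3Group (Equiv.Perm (Fin 5))) := by
    rw [pairs, Subgroup.closure_le]
    rintro _ ⟨g, hg, rfl⟩
    exact Equiv.Perm.mem_alternatingGroup.2 (sigG_facts g hg).2
  exact hle hd

theorem card_alt5 : Nat.card (alternatingGroup (Fin 5)) = 60 := by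
  rw [Nat.card_eq_fintype_card]; decide +kernel

theorem HS_range_eq : (rho.comp HS.subtype).range = alternatingGroup (Fin 5) := by
  refine Subgroup.eq_of_le_of_card_ge ((MonoidHom.range_comp _ _).le.trans ?_) ?_
  · rw [Subgroup.range_subtype]
    exact (Subgroup.map_le_range _ _).trans range_rho_le
  · rw [card_alt5, ← Nat.card_congr (MonoidHom.ofInjective rho_HS_injective).toEquiv]
    exact card_HS

theorem range_rho : rho.range = alternatingGroup (Fin 5) :=
  le_antisymm range_rho_le (HS_range_eq ▸ (MonoidHom.range_comp _ _).le.trans (Subgroup.map_le_range _ _))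

theorem card_QS : Nat.card QS = 32 := by
  have h := Subgroup.card_mul_index QS
  rw [Subgroup.index_ker, range_rho, card_alt5, card_centralizer] at h
  omega

theorem card_HS_eq : Nat.card HS = 60 := by
  rw [Nat.card_congr (MonoidHom.ofInjective rho_HS_injective).toEquiv, HS_range_eq, card_alt5]

theorem complement : QS.IsComplement' HS := by
  refine Subgroup.isComplement'_of_card_mul_and_disjoint ?_ ?_
  · rw [card_QS, card_HS_eq, card_centralizer]
  · rw [disjoint_iff_inf_le]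
    rintro c ⟨hq, hh⟩
    have := @rho_HS_injective ⟨c, hh⟩ 1 (by simpa using hq)
    exact congrArg Subtype.val this

/-- the quotient is `A₅` -/
noncomputable def quotA5 : ↥CS ⧸ QS ≃* ↥(alternatingGroup (Fin 5)) :=
  (QuotientGroup.quotientKerEquivRange rho).trans (MulEquiv.subgroupCongr range_rho)

theorem exists_q (x : ↥QS) : ∃ k < 32, ((x : ↥CS) : ↥j3Group) = wordVal (qW k) := by
  obtain ⟨i, hi, e, hv⟩ := rho_spec x.1
  have h := q_ok
  simp only [qOK, Bool.and_eq_true] at h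
  have hx : rho x.1 = 1 := MonoidHom.mem_ker.1 x.2
  have h' := allBelow_spec _ _ h.1.1.1.1.1.2 i hi
  simp only [Bool.or_eq_true, Bool.not_eq_true', List.contains_iff_mem] at h'
  rcases h' with h' | h'
  · exfalso
    rw [← Bool.not_eq_true] at h'
    refine h' ?_
    clear h'
    refine allBelow_of fun v hv' => ?_
    have := hv ⟨v, hv'⟩
    rw [hx] at this
    exact Nat.beq_eq.mpr this.symm
  · obtain ⟨k, hk, rfl⟩ := List.getElem_of_mem h'
    have hl : qIdx.length = 32 := Nat.beq_eq ▸ h.1.1.1.1.1.1.1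
    exact ⟨k, hl ▸ hk, by rw [e, qW, List.getD_eq_getElem]⟩

theorem wordVal_key {u v : List ℕ} (hu : ∀ a ∈ u, a < 8) (hv : ∀ a ∈ v, a < 8) :
    wordVal u = wordVal v ↔ keyOf u = keyOf v := ⟨key_of_eq hu hv, eq_of_key hu hv⟩

theorem coe_inj {x : ↥QS} {g : ↥j3Group} {y : ↥QS} (hx : ((x : ↥CS) : ↥j3Group) = g)
    (hy : ((y : ↥CS) : ↥j3Group) = g) : x = y := Subtype.ext (Subtype.ext (hx.trans hy.symm))

theorem isExtraspecial_QS : Cfsg.IsExtraspecial 2 ↥QS := by
  haveI : Fact (Nat.Prime 2) := ⟨Nat.prime_two⟩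
  have h := q_ok
  simp only [qOK, Bool.and_eq_true, List.any_eq_true, List.mem_range, Bool.not_eq_true', beq_iff_eq] at h
  obtain ⟨⟨⟨⟨⟨⟨⟨-, hq⟩, -⟩, ⟨kz, hkz, hz⟩⟩, ⟨j0, hj0, k0, hk0, hne0⟩⟩, hsq⟩, hcen⟩, -⟩ := h
  have hmem : ∀ k < 32, ∃ x : ↥QS, ((x : ↥CS) : ↥j3Group) = wordVal (qW k) := by
    intro k hk
    have h' := allBelow_spec _ _ hq k hk
    simp only [Bool.and_eq_true, Nat.blt_eq] at h'
    obtain ⟨d, hd, hi, hkey, hs⟩ := exists_pair _ h'.1 3 (Or.inl rfl)
    have hdC : d.1 ∈ CS := mem_CS hd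
    refine ⟨⟨⟨d.1, hdC⟩, ?_⟩, keyG_inj (hkey.trans (keyG_word (qW_lt hk)).symm)⟩
    rw [MonoidHom.mem_ker, rho_pair hd hdC]
    exact Equiv.ext fun v => Fin.ext ((hs v).trans (Nat.beq_eq ▸ allBelow_spec _ _ h'.2 v v.2))
  obtain ⟨z, ez⟩ := hmem kz hkz
  rw [eq_of_key (qW_lt hkz) start_spec.1 hz, ← sH] at ez
  have hz2 : orderOf z = 2 := by
    rw [← orderOf_injective QS.subtype QS.subtype_injective, ← orderOf_injective CS.subtype CS.subtype_injective]
    show orderOf ((z : ↥CS) : ↥j3Group) = 2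
    rw [ez, orderOf_sH]
  have hzmem : ∀ x : ↥QS, ((x : ↥CS) : ↥j3Group) = sH → x ∈ Subgroup.zpowers z := fun x hx =>
    coe_inj hx ez ▸ Subgroup.mem_zpowers z
  have hsq' : ∀ x : ↥QS, x ^ 2 ∈ Subgroup.zpowers z := by
    intro x
    obtain ⟨k, hk, e⟩ := exists_q x
    have h' := allBelow_spec _ _ hsq k hk
    simp only [Bool.or_eq_true, beq_iff_eq] at h'
    have e2 : (((x ^ 2 : ↥QS) : ↥CS) : ↥j3Group) = wordVal (qW k ++ qW k) := by
      rw [pow_two, Subgroup.coe_mul, Subgroup.coe_mul, e, wordVal_append]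
    rcases h' with h' | h'
    · rw [(eq_one_iff (append_lt (qW_lt hk) (qW_lt hk))).2 h'] at e2
      rw [show x ^ 2 = 1 from coe_inj e2 rfl]
      exact one_mem _
    · exact hzmem _ (e2.trans (eq_of_key (append_lt (qW_lt hk) (qW_lt hk)) start_spec.1 h'))
  have hzc : ∀ y : ↥QS, z * y = y * z := fun y => by
    refine Subtype.ext (Subtype.ext ?_)
    rw [Subgroup.coe_mul, Subgroup.coe_mul, Subgroup.coe_mul, Subgroup.coe_mul, ez]
    exact (Subgroup.mem_centralizer_singleton_iff.1 (y : ↥CS).2).symm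
  have hzpc : ∀ w ∈ Subgroup.zpowers z, ∀ y : ↥QS, w * y = y * w := fun w hw y => by
    obtain ⟨n, rfl⟩ := Subgroup.mem_zpowers_iff.1 hw
    exact (Commute.zpow_left (show Commute z y from hzc y) n).eq
  refine isExtraspecial_of (IsPGroup.of_card (n := 5) (by rw [card_QS]; rfl)) hz2 (fun x => ⟨fun hx => ?_, fun hx => hzpc x hx⟩)
    (fun x y => ?_) hsq' ?_
  · obtain ⟨k, hk, e⟩ := exists_q x
    have h' := allBelow_spec _ _ hcen k hk
    simp only [Bool.or_eq_true, beq_iff_eq, List.any_eq_true, List.mem_range, Bool.not_eq_true'] at h'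
    rcases h' with (h' | h') | ⟨j, hj, h'⟩
    · rw [(eq_one_iff (qW_lt hk)).2 h'] at e
      rw [show x = 1 from coe_inj e rfl]
      exact one_mem _
    · exact hzmem _ (e.trans (eq_of_key (qW_lt hk) start_spec.1 h'))
    · exfalso
      obtain ⟨y, ey⟩ := hmem j hj
      have hxy := congrArg (fun q : ↥QS => ((q : ↥CS) : ↥j3Group)) (hx y)
      simp only [Subgroup.coe_mul, e, ey] at hxy
      rw [(commOK_iff (qW_lt hk) (qW_lt hj)).2 hxy] at h'
      exact Bool.noConfusion h'
  · have key : ⁅x, y⁆ = (x * y) ^ 2 * (y⁻¹ * x⁻¹ ^ 2 * y) * y⁻¹ ^ 2 := by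
      rw [commutatorElement_def, pow_two, pow_two, pow_two]; group
    rw [key]
    refine mul_mem (mul_mem (hsq' _) ?_) (hsq' _)
    rw [← hzpc _ (hsq' x⁻¹) y⁻¹, inv_mul_cancel_right]
    exact hsq' _
  · obtain ⟨x, ex⟩ := hmem j0 hj0
    obtain ⟨y, ey⟩ := hmem k0 hk0
    refine ⟨x, y, fun hxy => ?_⟩
    have hxy' := congrArg (fun q : ↥QS => ((q : ↥CS) : ↥j3Group)) hxy
    simp only [Subgroup.coe_mul, ex, ey] at hxy'
    rw [(commOK_iff (qW_lt hj0) (qW_lt hk0)).2 hxy'] at hne0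
    exact Bool.noConfusion hne0

theorem elementary_le (E : Subgroup ↥QS) (hE : Cfsg.IsElementaryAbelian 2 E) : Nat.card E ≤ 4 := by
  classical
  have h := q_ok
  simp only [qOK, Bool.and_eq_true] at h
  have hchk := h.2
  by_cases hbot : ∀ x ∈ E, x = 1
  · rw [(Subgroup.eq_bot_iff_forall E).2 hbot, Subgroup.card_bot]; norm_num
  push Not at hbot
  obtain ⟨x, hx, hx1⟩ := hbot
  have hfour : ∃ y : ↥QS, ∀ w ∈ E, w ∈ ({1, x, y, x * y} : Finset ↥QS) := by
    by_cases h2 : ∀ w ∈ E, w = 1 ∨ w = x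
    · exact ⟨x, fun w hw => by rcases h2 w hw with rfl | rfl <;> simp⟩
    push Not at h2
    obtain ⟨y, hy, hy1, hyx⟩ := h2
    refine ⟨y, fun w hw => ?_⟩
    obtain ⟨a, ha, ea⟩ := exists_q x
    obtain ⟨b, hb, eb⟩ := exists_q y
    obtain ⟨c, hc, ec⟩ := exists_q w
    have sq : ∀ (u : ↥QS) (k : ℕ) (hk : k < 32), u ∈ E → ((u : ↥CS) : ↥j3Group) = wordVal (qW k) →
        keyOf (qW k ++ qW k) = base := fun u k hk hu e => by
      refine (eq_one_iff (append_lt (qW_lt hk) (qW_lt hk))).1 ?_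
      rw [wordVal_append, ← e, ← Subgroup.coe_mul, ← Subgroup.coe_mul, ← pow_two, hE.2 u hu]
      rfl
    have com : ∀ (u v : ↥QS) (i j : ℕ) (hi : i < 32) (hj : j < 32), u ∈ E → v ∈ E →
        ((u : ↥CS) : ↥j3Group) = wordVal (qW i) → ((v : ↥CS) : ↥j3Group) = wordVal (qW j) →
        commOK (qW i) (qW j) = true := fun u v i j hi hj hu hv eu ev => by
      refine (commOK_iff (qW_lt hi) (qW_lt hj)).2 ?_
      haveI := hE.1
      have h1 := congrArg (fun q : E => (((q : ↥QS) : ↥CS) : ↥j3Group))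
        (IsMulCommutative.is_comm.comm (⟨u, hu⟩ : E) ⟨v, hv⟩)
      simpa [eu, ev] using h1
    have ne1 : ∀ (u : ↥QS) (k : ℕ) (hk : k < 32), u ≠ 1 → ((u : ↥CS) : ↥j3Group) = wordVal (qW k) →
        keyOf (qW k) ≠ base := fun u k hk hu e e' => hu (coe_inj (e.trans ((eq_one_iff (qW_lt hk)).2 e')) rfl)
    have h3 := allBelow_spec _ _ hchk a ha
    simp only [Bool.or_eq_true, Bool.not_eq_true', beq_eq_false_iff_ne, beq_iff_eq] at h3
    rcases h3 with (h3 | h3) | h3
    · exact absurd (sq x a ha hx ea) h3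
    · exact absurd h3 (ne1 x a ha hx1 ea)
    have h4 := allBelow_spec _ _ h3 b hb
    simp only [Bool.or_eq_true, Bool.not_eq_true', beq_eq_false_iff_ne, beq_iff_eq] at h4
    rcases h4 with (((h4 | h4) | h4) | h4) | h4
    · exact absurd (sq y b hb hy eb) h4
    · exact absurd h4 (ne1 y b hb hy1 eb)
    · exact absurd (coe_inj (eb.trans (eq_of_key (qW_lt hb) (qW_lt ha) h4)) ea) hyx
    · rw [com x y a b ha hb hx hy ea eb] at h4; exact Bool.noConfusion h4
    have h5 := allBelow_spec _ _ h4 c hc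
    simp only [Bool.or_eq_true, Bool.not_eq_true', beq_eq_false_iff_ne, beq_iff_eq] at h5
    simp only [Finset.mem_insert, Finset.mem_singleton]
    rcases h5 with (((((h5 | h5) | h5) | h5) | h5) | h5) | h5
    · exact absurd (sq w c hc hw ec) h5
    · rw [com x w a c ha hc hx hw ea ec] at h5; exact Bool.noConfusion h5
    · rw [com y w b c hb hc hy hw eb ec] at h5; exact Bool.noConfusion h5
    · exact Or.inl (coe_inj (ec.trans ((eq_one_iff (qW_lt hc)).2 h5)) rfl)
    · exact Or.inr (Or.inl (coe_inj (ec.trans (eq_of_key (qW_lt hc) (qW_lt ha) h5)) ea))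
    · exact Or.inr (Or.inr (Or.inl (coe_inj (ec.trans (eq_of_key (qW_lt hc) (qW_lt hb) h5)) eb)))
    · refine Or.inr (Or.inr (Or.inr (coe_inj (ec.trans (eq_of_key (qW_lt hc) (append_lt (qW_lt ha) (qW_lt hb)) h5)) ?_)))
      rw [Subgroup.coe_mul, Subgroup.coe_mul, ea, eb, wordVal_append]
  obtain ⟨y, hy⟩ := hfour
  calc Nat.card E ≤ Nat.card ({1, x, y, x * y} : Finset ↥QS) :=
        Nat.card_le_card_of_injective (fun w => ⟨w.1, hy w.1 w.2⟩) fun a b e => Subtype.ext (congrArg Subtype.val e :)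
    _ ≤ 4 := by rw [Nat.card_eq_finsetCard]; exact Finset.card_le_four

end Cfsg.Agent.J3Invol
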