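import Cfsg.Agent.Lib.J3Invol.Structure
import Cfsg.Agent.Lib.J3Invol.Class
import Cfsg.Agent.Lib.Qd.Basic

/-! The centraliser statement for any copy of the group. -/

set_option autoImplicit false

namespace Cfsg.Agent.J3Invol

open Cfsg.Agent.RigidGraph.J3 (j3Group)

theorem transport {G : Type*} [Group G] (e : G ≃* ↥j3Group) :
    (∀ x y : G, orderOf x = 2 → orderOf y = 2 → IsConj x y) ∧ ∃ t : G, orderOf t = 2 ∧
      ∃ (Q : Subgroup ↥(Subgroup.centralizer ({t} : Set G))) (_ : Q.Normal), Cfsg.IsExtraspecial 2 Q ∧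
        Nat.card Q = 32 ∧ (∀ E : Subgroup Q, Cfsg.IsElementaryAbelian 2 E → Nat.card E ≤ 2 ^ 2) ∧
        (∃ H : Subgroup ↥(Subgroup.centralizer ({t} : Set G)), Q.IsComplement' H) ∧
        Nonempty (↥(Subgroup.centralizer ({t} : Set G)) ⧸ Q ≃* ↥(alternatingGroup (Fin 5))) := by
  haveI : Fact (Nat.Prime 2) := ⟨Nat.prime_two⟩
  haveI : Finite G := Finite.of_equiv _ e.symm.toEquiv
  refine ⟨fun x y hx hy => ?_, e.symm sH, (MulEquiv.orderOf_eq e.symm sH).trans orderOf_sH, ?_⟩
  · have h1 := isConj_sH (y := e x) ((MulEquiv.orderOf_eq e x).trans hx)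
    have h2 := isConj_sH (y := e y) ((MulEquiv.orderOf_eq e y).trans hy)
    obtain ⟨c, hc⟩ := isConj_iff.1 (h1.trans h2.symm)
    refine isConj_iff.2 ⟨e.symm c, e.injective ?_⟩
    rw [map_mul, map_mul, map_inv, e.apply_symm_apply, hc]
  set C' := Subgroup.centralizer ({e.symm sH} : Set G)
  have hC : C'.map e.toMonoidHom = CS := by
    ext g
    rw [Subgroup.mem_map_equiv, Subgroup.mem_centralizer_singleton_iff, Subgroup.mem_centralizer_singleton_iff,
      ← map_mul, ← map_mul]
    exact e.symm.injective.eq_iff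
  let ε : ↥C' ≃* ↥CS := (e.subgroupMap C').trans (MulEquiv.subgroupCongr hC)
  have hker : (rho.comp ε.toMonoidHom).ker = QS.comap ε.toMonoidHom := (MonoidHom.comap_ker _ _).symm
  let Q' := (rho.comp ε.toMonoidHom).ker
  have hQ : Q'.map ε.toMonoidHom = QS := by
    rw [show Q' = _ from hker, Subgroup.map_comap_eq_self_of_surjective ε.surjective]
  let εQ : ↥Q' ≃* ↥QS := (ε.subgroupMap Q').trans (MulEquiv.subgroupCongr hQ)
  refine ⟨Q', inferInstance, ?_, ?_, fun E hE => ?_, ⟨HS.comap ε.toMonoidHom, ?_⟩, ⟨?_⟩⟩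
  · exact Qd.isExtraspecial_congr εQ isExtraspecial_QS
  · rw [Nat.card_congr εQ.toEquiv, card_QS]
  · have h := elementary_le (E.map εQ.toMonoidHom) ⟨?_, ?_⟩
    · rwa [Subgroup.card_map_of_injective εQ.injective] at h
    · haveI := hE.1
      exact Subgroup.map_isMulCommutative _ _
    · rintro _ ⟨a, ha, rfl⟩
      rw [← map_pow, hE.2 a ha, map_one]
  · refine Subgroup.isComplement'_of_card_mul_and_disjoint ?_ ?_
    · rw [Nat.card_congr εQ.toEquiv, Nat.card_congr (Subgroup.equivMapOfInjective _ ε.toMonoidHom ε.injective).toEquiv,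
        Subgroup.map_comap_eq_self_of_surjective ε.surjective, card_QS, card_HS_eq, Nat.card_congr ε.toEquiv,
        card_centralizer]
    · rw [show Q' = _ from hker, disjoint_iff_inf_le, ← Subgroup.comap_inf, complement.disjoint.eq_bot]
      intro x hx
      rw [Subgroup.mem_bot]
      exact ε.injective ((Subgroup.mem_bot.1 hx).trans ε.toMonoidHom.map_one.symm)
  · have hr : (rho.comp ε.toMonoidHom).range = alternatingGroup (Fin 5) := by
      rw [MonoidHom.range_comp, MonoidHom.range_eq_top.2 ε.surjective, ← MonoidHom.range_eq_map, range_rho]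
    exact (QuotientGroup.quotientKerEquivRange _).trans (MulEquiv.subgroupCongr hr)

end Cfsg.Agent.J3Invol
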