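import Cfsg.Agent.Lib.RigidGraph.J3.Group
import Cfsg.Agent.Lib.J3Invol.Letters
import Cfsg.Agent.Lib.Compute.AutDefs
import Cfsg.Agent.Lib.Compute.PermCert

/-! Words in eight letters of the group on 6156 points, compared on four points. -/

set_option autoImplicit false
set_option maxRecDepth 100000
set_option Elab.async false

namespace Cfsg.Agent.J3Invol

open Cfsg.Agent.RigidGraph (slot getN getN_mem getN_ok permOf permOf_val autG fixList mem_fixList)
open Cfsg.Agent.RigidGraph.J3 (nodes j3Group graph slp_ok)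
open Cfsg.Agent.PermCert (allBelow allBelow_spec)

/-- the letters are nodes -/
def lettersOK : Bool :=
  alpha.map (fun s => (getN nodes s).1) == lets && alpha.all fun s => Nat.blt (s / 2) nodes.length

theorem letters_ok : lettersOK = true := by decide +kernel

attribute [local irreducible] nodes lets graph Cfsg.Agent.RigidGraph.J3.gapLevels permOf

theorem fix_bot : autG 6156 graph ⊓ fixList 6156 [0, 3, 63, 4751] = ⊥ :=
  RigidGraph.fix_eq_bot_prop (by decide) RigidGraph.J3.prop_ok

theorem letters_spec : (∀ i < 8, alpha.getD i 0 / 2 < nodes.length) ∧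
    ∀ i < 8, lets.getD i 0 = (getN nodes (alpha.getD i 0)).1 := by
  have h := letters_ok
  simp only [lettersOK, Bool.and_eq_true, beq_iff_eq, List.all_eq_true, Nat.blt_eq] at h
  have hl : alpha.length = 8 := rfl
  refine ⟨fun i hi => ?_, fun i hi => ?_⟩
  · rw [List.getD_eq_getElem _ _ (hl ▸ hi)]
    exact h.2 _ (List.getElem_mem _)
  · rw [← h.1, List.getD_eq_getElem _ _ (by simp [hl]; omega), List.getElem_map, List.getD_eq_getElem]

/-- a letter -/
noncomputable def gen (i : ℕ) : ↥j3Group :=
  if h : alpha.getD i 0 / 2 < nodes.length then ⟨permOf 6156 (getN nodes (alpha.getD i 0)), getN_mem slp_ok h⟩ else 1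

/-- the value of a word -/
noncomputable def wordVal (w : List ℕ) : ↥j3Group := (w.map gen).prod

/-- the action of a word -/
def evW (w : List ℕ) (x : ℕ) : ℕ := w.foldr (fun i y => slot (lets.getD i 0) y) x

/-- four points -/
def base : List ℕ := [0, 3, 63, 4751]

/-- their images -/
def keyOf (w : List ℕ) : List ℕ := base.map (evW w)

/-- all letters are letters -/
def okWord (w : List ℕ) : Bool := w.all fun i => Nat.blt i 8

/-- a code of images -/
def codeOf (k : List ℕ) : ℕ := k.foldr (fun x r => x + 8192 * r) 0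

theorem okWord_mem {w : List ℕ} (h : okWord w = true) : ∀ i ∈ w, i < 8 := fun i hi =>
  Nat.blt_eq ▸ List.all_eq_true.1 h i hi

theorem gen_val {i : ℕ} (hi : i < 8) :
    (gen i : Equiv.Perm (Fin 6156)) = permOf 6156 (getN nodes (alpha.getD i 0)) := by
  rw [gen, dif_pos (letters_spec.1 i hi)]

theorem act_word : ∀ w : List ℕ, (∀ i ∈ w, i < 8) → ∀ x : Fin 6156,
    (((wordVal w : ↥j3Group) : Equiv.Perm (Fin 6156)) x : ℕ) = evW w x := by
  intro w
  induction w with
  | nil => intro _ x; simp [wordVal, evW]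
  | cons i w ih =>
    intro hw x
    have hi := hw i List.mem_cons_self
    have ih' := ih (fun j hj => hw j (List.mem_cons_of_mem _ hj)) x
    simp only [wordVal, evW] at ih' ⊢
    rw [List.map_cons, List.prod_cons, Subgroup.coe_mul, Equiv.Perm.mul_apply, List.foldr_cons, gen_val hi,
      permOf_val (getN_ok slp_ok (letters_spec.1 i hi)), ih', letters_spec.2 i hi]

theorem base_lt {b : ℕ} (hb : b ∈ base) : b < 6156 := by
  simp only [base, List.mem_cons, List.not_mem_nil, or_false] at hb
  omega

/-- the images of the four points -/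
noncomputable def keyG (h : ↥j3Group) : List ℕ :=
  base.map fun b => if hb : b < 6156 then ((h : Equiv.Perm (Fin 6156)) ⟨b, hb⟩ : ℕ) else 0

theorem keyG_one : keyG 1 = base := by
  conv_rhs => rw [← List.map_id base]
  refine List.map_congr_left fun b hb => ?_
  simp [dif_pos (base_lt hb)]

theorem keyG_mul {w : List ℕ} (hw : ∀ i ∈ w, i < 8) (h : ↥j3Group) :
    keyG (wordVal w * h) = (keyG h).map (evW w) := by
  rw [keyG, keyG, List.map_map]
  refine List.map_congr_left fun b hb => ?_
  simp only [Function.comp_apply, dif_pos (base_lt hb), Subgroup.coe_mul, Equiv.Perm.mul_apply]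
  exact act_word w hw _

theorem keyG_word {w : List ℕ} (hw : ∀ i ∈ w, i < 8) : keyG (wordVal w) = keyOf w := by
  rw [← mul_one (wordVal w), keyG_mul hw, keyG_one, keyOf]

theorem keyG_inj {g h : ↥j3Group} (e : keyG g = keyG h) : g = h := by
  rw [← inv_mul_eq_one]
  refine Subtype.ext ?_
  have hbot : ((g⁻¹ * h : ↥j3Group) : Equiv.Perm (Fin 6156)) ∈
      autG 6156 graph ⊓ fixList 6156 [0, 3, 63, 4751] := by
    refine ⟨RigidGraph.J3.j3Group_lt.le (g⁻¹ * h).2, mem_fixList.2 fun x hx => ?_⟩
    rw [Subgroup.coe_mul, Equiv.Perm.mul_apply, Subgroup.coe_inv, Equiv.Perm.inv_eq_iff_eq]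
    have := (List.map_inj_left.1 e) (x : ℕ) hx
    simp only [dif_pos x.2] at this
    exact (Fin.ext this).symm
  rw [fix_bot, Subgroup.mem_bot] at hbot
  exact hbot

theorem wordVal_append (w w' : List ℕ) : wordVal (w ++ w') = wordVal w * wordVal w' := by
  simp [wordVal]

theorem val_nil : wordVal [] = 1 := rfl

theorem append_lt {u v : List ℕ} (hu : ∀ i ∈ u, i < 8) (hv : ∀ i ∈ v, i < 8) : ∀ i ∈ u ++ v, i < 8 :=
  fun i hi => (List.mem_append.1 hi).elim (hu i) (hv i)

theorem eq_of_key {w w' : List ℕ} (hw : ∀ i ∈ w, i < 8) (hw' : ∀ i ∈ w', i < 8) (h : keyOf w = keyOf w') :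
    wordVal w = wordVal w' := keyG_inj (by rw [keyG_word hw, keyG_word hw', h])

theorem key_of_eq {w w' : List ℕ} (hw : ∀ i ∈ w, i < 8) (hw' : ∀ i ∈ w', i < 8)
    (h : wordVal w = wordVal w') : keyOf w = keyOf w' := by
  rw [← keyG_word hw, ← keyG_word hw', h]

theorem eq_one_iff {w : List ℕ} (hw : ∀ i ∈ w, i < 8) : wordVal w = 1 ↔ keyOf w = base := by
  rw [← keyG_word hw, ← keyG_one]
  exact ⟨fun h => by rw [h], fun h => keyG_inj h⟩

/-- two words commute -/
def commOK (u v : List ℕ) : Bool := keyOf (u ++ v) == keyOf (v ++ u)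

theorem commOK_iff {u v : List ℕ} (hu : ∀ i ∈ u, i < 8) (hv : ∀ i ∈ v, i < 8) :
    commOK u v = true ↔ wordVal u * wordVal v = wordVal v * wordVal u := by
  rw [commOK, beq_iff_eq, ← wordVal_append, ← wordVal_append]
  exact ⟨eq_of_key (append_lt hu hv) (append_lt hv hu), key_of_eq (append_lt hu hv) (append_lt hv hu)⟩

/-- `g * u = v * g` -/
def conjOK (g u v : List ℕ) : Bool := keyOf (g ++ u) == keyOf (v ++ g)

theorem conjOK_spec {g u v : List ℕ} (hg : ∀ i ∈ g, i < 8) (hu : ∀ i ∈ u, i < 8) (hv : ∀ i ∈ v, i < 8)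
    (h : conjOK g u v = true) : wordVal g * wordVal u = wordVal v * wordVal g := by
  rw [← wordVal_append, ← wordVal_append]
  exact eq_of_key (append_lt hg hu) (append_lt hv hg) (beq_iff_eq.1 h)

end Cfsg.Agent.J3Invol
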